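import Mathlib
import Cfsg.Agent.E82.Small
import Cfsg.Agent.Lib.FieldFour
import Cfsg.Agent.ClassicalGeometry.SympBasic
import Cfsg.Agent.S0765
import Cfsg.Agent.E82.Fr.Cen_m3
import Cfsg.Agent.E82.Cls_m3
import Cfsg.Agent.E8A.Par.Main
import Cfsg.Agent.E82.Fr.T8_m3
import Cfsg.Agent.ChevFast.E8
import Cfsg.Agent.ChevFast.Tg
import Cfsg.Agent.Prune
set_option linter.all false

section
prune_inst 0x7ffdfdfdbbbc79dfffff7e7fa7bccffdfbb31fffe6dff9cbffe06bff3bffe7828be5fbaf8fe090fe1ed6e21418b87813f97eefbfea6bd87ffffd1ff45ffbee5ff7ffbd0c5196b8341ffc6ffff3f0778e7f3fffffffffffffffffffffffffffaeffbfffffffff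

-- part: E82/Mach/Main
section
prune_inst 0x202000003822000000000000020000400200000200000000000004000183540000400000f2100c100080000458340000000000000000000000000000011800800000000400000000000000000802000000000000000000000000000000041000000000000
set_option linter.all false
open scoped Cfsg.Agent.FastGrp

-- part: E82/Mach/Ops
section
/-!
# The pressure machine: families of operators on spaces over the field with two elements (helper38)

* `wd a w` : the operator of a word; `Inv`, `Simple`, `Hom`; `subOp`, `quoOp`;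
* `Fx g` : fixed vectors, additive on short exact sequences for `g` of odd order;
* `Z0` : the solutions of the Fox equations, left exact;
* `sol` : the induction on the composition factors.
-/

set_option autoImplicit false

namespace Cfsg.Agent.E82.Mach

open Module

/-- the field with two elements -/
abbrev F2 : Type := ZMod 2

section Basic

variable {V V' : Type*} [AddCommGroup V] [Module F2 V] [AddCommGroup V'] [Module F2 V']

theorem add_self' (v : V) : v + v = 0 := by
  have h : (1 + 1 : F2) = 0 := by decide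
  calc v + v = (1 + 1 : F2) • v := by rw [add_smul, one_smul]
    _ = 0 := by rw [h, zero_smul]

theorem neg_self' (v : V) : -v = v := neg_eq_of_add_eq_zero_left (add_self' v)

theorem sub_eq_add' (v w : V) : v - w = v + w := by rw [sub_eq_add_neg, neg_self']

theorem eq_of_add_eq_zero' {v w : V} (h : v + w = 0) : v = w := by
  rw [← sub_eq_add'] at h; exact sub_eq_zero.1 h

theorem f2_cases (c : F2) : c = 0 ∨ c = 1 := by revert c; decide

/-- the operator of a word -/
def wd (a : ℕ → End F2 V) (w : List ℕ) : End F2 V := (w.map a).prod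

theorem wd_nil (a : ℕ → End F2 V) : wd a [] = 1 := rfl

theorem wd_cons (a : ℕ → End F2 V) (j : ℕ) (w : List ℕ) : wd a (j :: w) = a j * wd a w := by
  rw [wd, List.map_cons, List.prod_cons]; rfl

theorem wd_append (a : ℕ → End F2 V) (w w' : List ℕ) : wd a (w ++ w') = wd a w * wd a w' := by
  rw [wd, List.map_append, List.prod_append]; rfl

theorem wd_single (a : ℕ → End F2 V) (j : ℕ) : wd a [j] = a j := by rw [wd_cons, wd_nil, mul_one]

theorem wd_nil_apply (a : ℕ → End F2 V) (v : V) : wd a [] v = v := rfl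

theorem wd_cons_apply (a : ℕ → End F2 V) (j : ℕ) (w : List ℕ) (v : V) : wd a (j :: w) v = a j (wd a w v) := by
  rw [wd_cons]; rfl

theorem wd_append_apply (a : ℕ → End F2 V) (w w' : List ℕ) (v : V) : wd a (w ++ w') v = wd a w (wd a w' v) := by
  rw [wd_append]; rfl

/-- invariant subspaces -/
def Inv (a : ℕ → End F2 V) (W : Submodule F2 V) : Prop := ∀ j, ∀ v ∈ W, a j v ∈ W

theorem Inv.wd {a : ℕ → End F2 V} {W : Submodule F2 V} (h : Inv a W) (w : List ℕ) {v : V} (hv : v ∈ W) :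
    wd a w v ∈ W := by
  induction w with
  | nil => exact hv
  | cons j w ih => rw [wd_cons_apply]; exact h j _ ih

/-- simple families -/
def Simple (a : ℕ → End F2 V) : Prop := (∃ v : V, v ≠ 0) ∧ ∀ W, Inv a W → W = ⊥ ∨ W = ⊤

/-- intertwining maps -/
def Hom (a : ℕ → End F2 V) (b : ℕ → End F2 V') (f : V →ₗ[F2] V') : Prop := ∀ j v, f (a j v) = b j (f v)

theorem Hom.wd {a : ℕ → End F2 V} {b : ℕ → End F2 V'} {f : V →ₗ[F2] V'} (h : Hom a b f) (w : List ℕ) (v : V) :
    f (wd a w v) = wd b w (f v) := by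
  induction w with
  | nil => rfl
  | cons j w ih => rw [wd_cons_apply, wd_cons_apply, h, ih]

/-- the relations accepted by `ok` hold, the letters from `k` on act as zero -/
structure Good (ok : List ℕ → List ℕ → Bool) (k : ℕ) (a : ℕ → End F2 V) : Prop where
  rel : ∀ w w', ok w w' = true → wd a w = wd a w'
  out : ∀ j, k ≤ j → a j = 0

theorem Good.of_inj {ok : List ℕ → List ℕ → Bool} {k : ℕ} {a : ℕ → End F2 V} {b : ℕ → End F2 V'} {f : V →ₗ[F2] V'}
    (h : Hom a b f) (hf : Function.Injective f) (hb : Good ok k b) : Good ok k a := by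
  refine ⟨fun w w' hw => LinearMap.ext fun v => hf ?_, fun j hj => LinearMap.ext fun v => hf ?_⟩
  · rw [h.wd, h.wd, hb.rel w w' hw]
  · rw [h, hb.out j hj, LinearMap.zero_apply, LinearMap.zero_apply, map_zero]

theorem Good.of_surj {ok : List ℕ → List ℕ → Bool} {k : ℕ} {a : ℕ → End F2 V} {b : ℕ → End F2 V'} {f : V →ₗ[F2] V'}
    (h : Hom a b f) (hf : Function.Surjective f) (ha : Good ok k a) : Good ok k b := by
  refine ⟨fun w w' hw => LinearMap.ext fun v => ?_, fun j hj => LinearMap.ext fun v => ?_⟩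
  · obtain ⟨v, rfl⟩ := hf v
    rw [← h.wd, ← h.wd, ha.rel w w' hw]
  · obtain ⟨v, rfl⟩ := hf v
    rw [← h, ha.out j hj, LinearMap.zero_apply, LinearMap.zero_apply, map_zero]

/-- the operators on an invariant subspace -/
def subOp (a : ℕ → End F2 V) (W : Submodule F2 V) (h : Inv a W) : ℕ → End F2 W :=
  fun j => (a j).restrict (h j)

/-- the operators on the quotient -/
def quoOp (a : ℕ → End F2 V) (W : Submodule F2 V) (h : Inv a W) : ℕ → End F2 (V ⧸ W) :=
  fun j => W.mapQ W (a j) (h j)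

theorem hom_sub (a : ℕ → End F2 V) (W : Submodule F2 V) (h : Inv a W) : Hom (subOp a W h) a W.subtype :=
  fun _ _ => rfl

theorem hom_quo (a : ℕ → End F2 V) (W : Submodule F2 V) (h : Inv a W) : Hom a (quoOp a W h) W.mkQ :=
  fun _ _ => rfl

theorem Inv.map {a : ℕ → End F2 V} {b : ℕ → End F2 V'} {f : V →ₗ[F2] V'} (h : Hom a b f) {W : Submodule F2 V}
    (hW : Inv a W) : Inv b (W.map f) := by
  rintro j _ ⟨v, hv, rfl⟩
  exact ⟨a j v, hW j v hv, h j v⟩

theorem Inv.comap {a : ℕ → End F2 V} {b : ℕ → End F2 V'} {f : V →ₗ[F2] V'} (h : Hom a b f) {W : Submodule F2 V'}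
    (hW : Inv b W) : Inv a (W.comap f) := by
  intro j v hv
  rw [Submodule.mem_comap, h]
  exact hW j _ hv

theorem inv_top (a : ℕ → End F2 V) : Inv a ⊤ := fun _ _ _ => trivial

/-- a nonzero invariant subspace contains a simple one -/
theorem exists_simple [FiniteDimensional F2 V] (a : ℕ → End F2 V) {U : Submodule F2 V} (hU : Inv a U) (h0 : U ≠ ⊥) :
    ∃ (W : Submodule F2 V) (h : Inv a W), W ≤ U ∧ Simple (subOp a W h) := by
  obtain ⟨n, hn⟩ : ∃ n, finrank F2 U = n := ⟨_, rfl⟩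
  induction n using Nat.strong_induction_on generalizing U with
  | _ n ih =>
    by_cases hs : Simple (subOp a U hU)
    · exact ⟨U, hU, le_rfl, hs⟩
    · have h1 : ∃ v : U, v ≠ 0 := by
        obtain ⟨v, hv, hv0⟩ := (Submodule.ne_bot_iff U).1 h0
        exact ⟨⟨v, hv⟩, fun e => hv0 (congrArg Subtype.val e)⟩
      have h2 : ∃ W, Inv (subOp a U hU) W ∧ W ≠ ⊥ ∧ W ≠ ⊤ := by
        by_contra hc
        refine hs ⟨h1, fun W hW => ?_⟩
        by_contra hd
        rw [not_or] at hd
        exact hc ⟨W, hW, hd.1, hd.2⟩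
      obtain ⟨W, hW, hb, ht⟩ := h2
      have h3 : finrank F2 (W.map U.subtype) < n := by
        rw [Submodule.finrank_map_subtype_eq, ← hn]
        exact Submodule.finrank_lt ht
      have h4 : W.map U.subtype ≠ ⊥ := by
        intro e
        apply hb
        rw [eq_bot_iff]
        intro v hv
        have : (v : V) ∈ W.map U.subtype := ⟨v, hv, rfl⟩
        rw [e, Submodule.mem_bot] at this
        exact (Submodule.mem_bot _).2 (Subtype.ext this)
      obtain ⟨W', h', hle, hs'⟩ := ih _ h3 (hW.map (hom_sub a U hU)) h4 rfl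
      exact ⟨W', h', hle.trans (Submodule.map_subtype_le U W), hs'⟩

end Basic

section Exact

variable {A V B : Type*} [AddCommGroup A] [Module F2 A] [AddCommGroup V] [Module F2 V] [AddCommGroup B] [Module F2 B]

/-- fixed vectors -/
def Fx (g : End F2 V) : Submodule F2 V := LinearMap.eqLocus g LinearMap.id

theorem mem_Fx {g : End F2 V} {v : V} : v ∈ Fx g ↔ g v = v := Iff.rfl

theorem Fx_one : Fx (1 : End F2 V) = ⊤ := by
  rw [eq_top_iff]; intro v _; rfl

/-- a left exact triple of subspaces -/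
theorem finrank_le_of_exact [FiniteDimensional F2 A] [FiniteDimensional F2 V] [FiniteDimensional F2 B]
    (ι : A →ₗ[F2] V) (π : V →ₗ[F2] B) (SA : Submodule F2 A) (SV : Submodule F2 V) (SB : Submodule F2 B)
    (h1 : ∀ v ∈ SV, π v ∈ SB) (h2 : ∀ v ∈ SV, π v = 0 → ∃ x ∈ SA, ι x = v) :
    finrank F2 SV ≤ finrank F2 SA + finrank F2 SB := by
  have e := LinearMap.finrank_range_add_finrank_ker (π.restrict h1)
  have e1 : finrank F2 (LinearMap.range (π.restrict h1)) ≤ finrank F2 SB := Submodule.finrank_le _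
  have e2 : finrank F2 (LinearMap.ker (π.restrict h1)) ≤ finrank F2 SA := by
    rw [← Submodule.finrank_map_subtype_eq]
    refine le_trans (Submodule.finrank_mono ?_) (Submodule.finrank_map_le ι SA)
    rintro _ ⟨v, hv, rfl⟩
    exact h2 v v.2 (congrArg Subtype.val (LinearMap.mem_ker.1 hv))
  omega

/-- an exact triple of subspaces -/
theorem finrank_ge_of_exact [FiniteDimensional F2 A] [FiniteDimensional F2 V] [FiniteDimensional F2 B]
    (ι : A →ₗ[F2] V) (π : V →ₗ[F2] B) (SA : Submodule F2 A) (SV : Submodule F2 V) (SB : Submodule F2 B)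
    (hι : Function.Injective ι) (h0 : ∀ x, π (ι x) = 0) (h1 : ∀ v ∈ SV, π v ∈ SB) (h2 : ∀ x ∈ SA, ι x ∈ SV)
    (h3 : ∀ y ∈ SB, ∃ v ∈ SV, π v = y) : finrank F2 SA + finrank F2 SB ≤ finrank F2 SV := by
  have e := LinearMap.finrank_range_add_finrank_ker (π.restrict h1)
  have e1 : LinearMap.range (π.restrict h1) = ⊤ := by
    rw [eq_top_iff]
    rintro ⟨y, hy⟩ _
    obtain ⟨v, hv, rfl⟩ := h3 y hy
    exact ⟨⟨v, hv⟩, rfl⟩
  have e2 : finrank F2 SA ≤ finrank F2 (LinearMap.ker (π.restrict h1)) := by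
    rw [← Submodule.finrank_map_subtype_eq, ← LinearEquiv.finrank_eq (Submodule.equivMapOfInjective ι hι SA).symm]
    refine Submodule.finrank_mono ?_
    rintro _ ⟨x, hx, rfl⟩
    exact ⟨⟨ι x, h2 x hx⟩, LinearMap.mem_ker.2 (Subtype.ext (h0 x)), rfl⟩
  rw [e1, finrank_top] at e
  omega

theorem pow_hom {f : V →ₗ[F2] B} {g : End F2 V} {g' : End F2 B} (h : ∀ v, f (g v) = g' (f v)) (n : ℕ) (v : V) :
    f ((g ^ n) v) = (g' ^ n) (f v) := by
  induction n with
  | zero => rfl
  | succ n ih => rw [pow_succ', pow_succ', End.mul_apply, End.mul_apply, h, ih]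

theorem odd_smul {n : ℕ} (hn : Odd n) (v : V) : n • v = v := by
  obtain ⟨k, rfl⟩ := hn
  rw [add_smul, one_smul, mul_comm, mul_smul, two_smul, add_self', smul_zero, zero_add]

/-- fixed vectors of an operator of odd order can be lifted -/
theorem lift_fix {π : V →ₗ[F2] B} {g : End F2 V} {g' : End F2 B} (h : ∀ v, π (g v) = g' (π v)) {n : ℕ} (hn : Odd n)
    (hg : g ^ n = 1) (hπ : Function.Surjective π) {y : B} (hy : y ∈ Fx g') : ∃ v ∈ Fx g, π v = y := by
  obtain ⟨v, rfl⟩ := hπ y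
  refine ⟨∑ i ∈ Finset.range n, (g ^ i) v, ?_, ?_⟩
  · rw [mem_Fx, map_sum]
    have e1 := Finset.sum_range_succ (fun i => (g ^ i) v) n
    have e2 := Finset.sum_range_succ' (fun i => (g ^ i) v) n
    rw [hg] at e1
    rw [pow_zero, e1] at e2
    have e3 := add_right_cancel e2
    rw [e3]
    refine Finset.sum_congr rfl fun i _ => ?_
    rw [pow_succ', End.mul_apply]
  · rw [map_sum]
    have e : ∀ i, π ((g ^ i) v) = π v := fun i => by
      rw [pow_hom h]
      induction i with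
      | zero => rfl
      | succ i ih => rw [pow_succ, End.mul_apply, mem_Fx.1 hy, ih]
    rw [Finset.sum_congr rfl fun i _ => e i, Finset.sum_const, Finset.card_range, odd_smul hn]

theorem finrank_Fx_add [FiniteDimensional F2 V] {W : Submodule F2 V} {g : End F2 V} {gA : End F2 W} {gB : End F2 (V ⧸ W)}
    (hA : ∀ x, W.subtype (gA x) = g (W.subtype x)) (hB : ∀ v, W.mkQ (g v) = gB (W.mkQ v)) {n : ℕ} (hn : Odd n)
    (hg : g ^ n = 1) : finrank F2 (Fx g) = finrank F2 (Fx gA) + finrank F2 (Fx gB) := by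
  have h1 : ∀ v ∈ Fx g, W.mkQ v ∈ Fx gB := fun v hv => by rw [mem_Fx, ← hB, mem_Fx.1 hv]
  refine le_antisymm (finrank_le_of_exact W.subtype W.mkQ _ _ _ h1 fun v hv h0 => ?_)
    (finrank_ge_of_exact W.subtype W.mkQ _ _ _ W.injective_subtype (fun x => ?_) h1 (fun x hx => ?_)
      fun y hy => lift_fix hB hn hg W.mkQ_surjective hy)
  · have hvW : v ∈ W := (Submodule.Quotient.mk_eq_zero W).1 h0
    refine ⟨⟨v, hvW⟩, ?_, rfl⟩
    rw [mem_Fx]
    apply W.injective_subtype
    rw [hA]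
    exact hv
  · exact (Submodule.Quotient.mk_eq_zero W).2 x.2
  · rw [mem_Fx, ← hA, mem_Fx.1 hx]

/-- the value of a word in two operators -/
def ev2 (g h : End F2 V) : List Bool → End F2 V
  | [] => 1
  | false :: w => g * ev2 g h w
  | true :: w => h * ev2 g h w

/-- the Fox derivative with respect to the second operator -/
def fox (g h : End F2 V) : List Bool → End F2 V
  | [] => 0
  | false :: w => g * fox g h w
  | true :: w => 1 + h * fox g h w

theorem ev2_false (g h : End F2 V) (w : List Bool) : ev2 g h (false :: w) = g * ev2 g h w := rfl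
theorem ev2_true (g h : End F2 V) (w : List Bool) : ev2 g h (true :: w) = h * ev2 g h w := rfl
theorem fox_false (g h : End F2 V) (w : List Bool) : fox g h (false :: w) = g * fox g h w := rfl
theorem fox_true (g h : End F2 V) (w : List Bool) : fox g h (true :: w) = 1 + h * fox g h w := rfl

theorem fox_inner {g h : End F2 V} {v : V} (hv : g v = v) (w : List Bool) :
    fox g h w (h v - v) = ev2 g h w v - v := by
  induction w with
  | nil => exact (sub_self v).symm
  | cons b w ih =>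
    cases b with
    | false => rw [fox_false, ev2_false, End.mul_apply, End.mul_apply, ih, map_sub, hv]
    | true =>
      rw [fox_true, ev2_true, LinearMap.add_apply, End.one_apply, End.mul_apply, End.mul_apply, ih]
      rw [map_sub h]
      abel

theorem fox_hom {f : V →ₗ[F2] B} {g h : End F2 V} {g' h' : End F2 B} (hg : ∀ v, f (g v) = g' (f v))
    (hh : ∀ v, f (h v) = h' (f v)) (w : List Bool) (v : V) : f (fox g h w v) = fox g' h' w (f v) := by
  induction w with
  | nil => exact map_zero f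
  | cons b w ih =>
    cases b with
    | false => rw [fox_false, fox_false, End.mul_apply, End.mul_apply, hg, ih]
    | true =>
      rw [fox_true, fox_true, LinearMap.add_apply, LinearMap.add_apply, End.mul_apply, End.mul_apply, map_add, hh, ih]
      rfl

/-- the solutions of the Fox equations -/
def Z0 (g h : End F2 V) (R : List (List Bool)) : Submodule F2 V where
  carrier := {v | ∀ w ∈ R, fox g h w v = 0}
  zero_mem' := fun _ _ => map_zero _
  add_mem' := fun {x y} hx hy w hw => by rw [map_add, hx w hw, hy w hw, add_zero]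
  smul_mem' := fun c x hx w hw => by rw [map_smul, hx w hw, smul_zero]

/-- the inner derivations -/
theorem finrank_Fx_le [FiniteDimensional F2 V] {g h : End F2 V} {R : List (List Bool)} (hR : ∀ w ∈ R, ev2 g h w = 1) :
    finrank F2 (Fx g) ≤ finrank F2 (Fx g ⊓ Fx h : Submodule F2 V) + finrank F2 (Z0 g h R) := by
  refine finrank_le_of_exact LinearMap.id (h - 1) _ _ _ (fun v hv w hw => ?_) fun v hv h0 => ⟨v, ⟨hv, ?_⟩, rfl⟩
  · have := fox_inner (h := h) (mem_Fx.1 hv) w
    rw [hR w hw, End.one_apply, sub_self] at this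
    exact this
  · exact sub_eq_zero.1 h0

theorem finrank_Z0_le [FiniteDimensional F2 V] {W : Submodule F2 V} {g h : End F2 V} {gA hA : End F2 W}
    {gB hB : End F2 (V ⧸ W)} (e1 : ∀ x, W.subtype (gA x) = g (W.subtype x)) (e2 : ∀ x, W.subtype (hA x) = h (W.subtype x))
    (e3 : ∀ v, W.mkQ (g v) = gB (W.mkQ v)) (e4 : ∀ v, W.mkQ (h v) = hB (W.mkQ v)) (R : List (List Bool)) :
    finrank F2 (Z0 g h R) ≤ finrank F2 (Z0 gA hA R) + finrank F2 (Z0 gB hB R) := by
  refine finrank_le_of_exact W.subtype W.mkQ _ _ _ (fun v hv w hw => ?_) fun v hv h0 => ?_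
  · rw [← fox_hom e3 e4, hv w hw, map_zero]
  · have hvW : v ∈ W := (Submodule.Quotient.mk_eq_zero W).1 h0
    refine ⟨⟨v, hvW⟩, fun w hw => W.injective_subtype ?_, rfl⟩
    rw [fox_hom e1 e2, map_zero]
    exact hv w hw

theorem finrank_Fx_equiv (e : V ≃ₗ[F2] B) {g : End F2 V} {g' : End F2 B} (h : ∀ v, e (g v) = g' (e v)) :
    finrank F2 (Fx g) = finrank F2 (Fx g') := by
  have : (Fx g).map (e : V →ₗ[F2] B) = Fx g' := by
    ext y
    constructor
    · rintro ⟨v, hv, rfl⟩
      show g' (e v) = e v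
      rw [← h, mem_Fx.1 hv]
    · intro hy
      refine ⟨e.symm y, e.injective ?_, e.apply_symm_apply y⟩
      show e (g (e.symm y)) = e (e.symm y)
      rw [h, e.apply_symm_apply]
      exact hy
  rw [← this, LinearEquiv.finrank_map_eq]

theorem finrank_Z0_equiv (e : V ≃ₗ[F2] B) {g h : End F2 V} {g' h' : End F2 B} (e1 : ∀ v, e (g v) = g' (e v))
    (e2 : ∀ v, e (h v) = h' (e v)) (R : List (List Bool)) : finrank F2 (Z0 g h R) = finrank F2 (Z0 g' h' R) := by
  have : (Z0 g h R).map (e : V →ₗ[F2] B) = Z0 g' h' R := by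
    ext y
    constructor
    · rintro ⟨v, hv, rfl⟩ w hw
      rw [← fox_hom (f := (e : V →ₗ[F2] B)) e1 e2, hv w hw, map_zero]
    · intro hy
      refine ⟨e.symm y, fun w hw => e.injective ?_, e.apply_symm_apply y⟩
      have := fox_hom (f := (e : V →ₗ[F2] B)) e1 e2 w (e.symm y)
      rw [LinearEquiv.coe_coe, e.apply_symm_apply, hy w hw] at this
      rw [this, map_zero]
  rw [← this, LinearEquiv.finrank_map_eq]

end Exact

section Sol

/-- the elements of odd order, the two generators, the relators -/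
structure Cls where
  /-- the words of the elements of odd order, with the orders -/
  cl : List (List ℕ × ℕ)
  /-- the first generator -/
  g : List ℕ
  /-- the second generator -/
  h : List ℕ
  /-- the relators -/
  R : List (List Bool)

variable {V : Type} [AddCommGroup V] [Module F2 V]

/-- the dimension of the fixed space of the `k`-th element -/
noncomputable def Cls.f (C : Cls) (a : ℕ → End F2 V) (k : ℕ) : ℕ := finrank F2 (Fx (wd a (C.cl.getD k ([], 1)).1))

/-- the dimension of the space of solutions of the Fox equations -/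
noncomputable def Cls.z (C : Cls) (a : ℕ → End F2 V) : ℕ := finrank F2 (Z0 (wd a C.g) (wd a C.h) C.R)

/-- the power of a word -/
def wpow (w : List ℕ) (n : ℕ) : List ℕ := (List.replicate n w).flatten

theorem wd_wpow (a : ℕ → End F2 V) (w : List ℕ) (n : ℕ) : wd a (wpow w n) = wd a w ^ n := by
  induction n with
  | zero => rfl
  | succ n ih =>
    rw [wpow, List.replicate_succ, List.flatten_cons, wd_append, pow_succ']
    exact congrArg _ ih

/-- the orders are odd and accepted -/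
def Cls.chk (C : Cls) (ok : List ℕ → List ℕ → Bool) : Bool :=
  C.cl.all fun p => (p.2 % 2 == 1) && ok (wpow p.1 p.2) []

theorem Cls.ord {C : Cls} {ok : List ℕ → List ℕ → Bool} (hC : C.chk ok = true) {k0 : ℕ} {a : ℕ → End F2 V}
    (ha : Good ok k0 a) (k : ℕ) : Odd (C.cl.getD k ([], 1)).2 ∧ wd a (C.cl.getD k ([], 1)).1 ^ (C.cl.getD k ([], 1)).2 = 1 := by
  by_cases hk : k < C.cl.length
  · rw [List.getD_eq_getElem _ _ hk]
    have h1 := List.all_eq_true.1 hC _ (List.getElem_mem hk)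
    rw [Bool.and_eq_true, beq_iff_eq] at h1
    refine ⟨Nat.odd_iff.2 h1.1, ?_⟩
    rw [← wd_wpow, ha.rel _ _ h1.2, wd_nil]
  · rw [List.getD_eq_default _ _ (not_lt.1 hk)]
    exact ⟨odd_one, by rw [wd_nil, one_pow]⟩

/-- the invariants are those of the multiplicities `n` -/
def Sol (C : Cls) (r : ℕ) (F : ℕ → ℕ → ℕ) (Z : ℕ → ℕ) (a : ℕ → End F2 V) (n : ℕ → ℕ) : Prop :=
  (∀ k, C.f a k = ∑ J ∈ Finset.range r, n J * F J k) ∧ C.z a ≤ ∑ J ∈ Finset.range r, n J * Z J

theorem Sol.add [FiniteDimensional F2 V] {C : Cls} {ok : List ℕ → List ℕ → Bool} (hC : C.chk ok = true) {k0 : ℕ}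
    {a : ℕ → End F2 V} (ha : Good ok k0 a) {r : ℕ} {F : ℕ → ℕ → ℕ} {Z : ℕ → ℕ} {W : Submodule F2 V} {hW : Inv a W}
    {n n' : ℕ → ℕ} (h1 : Sol C r F Z (subOp a W hW) n) (h2 : Sol C r F Z (quoOp a W hW) n') :
    Sol C r F Z a (n + n') := by
  refine ⟨fun k => ?_, ?_⟩
  · obtain ⟨ho, hp⟩ := C.ord hC ha k
    have e := finrank_Fx_add ((hom_sub a W hW).wd _) ((hom_quo a W hW).wd _) ho hp
    have e1 := h1.1 k
    have e2 := h2.1 k
    unfold Cls.f at e1 e2 ⊢
    rw [e, e1, e2, ← Finset.sum_add_distrib]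
    exact Finset.sum_congr rfl fun J _ => by rw [Pi.add_apply, add_mul]
  · have e := finrank_Z0_le ((hom_sub a W hW).wd C.g) ((hom_sub a W hW).wd C.h) ((hom_quo a W hW).wd C.g)
      ((hom_quo a W hW).wd C.h) C.R
    have e1 := h1.2
    have e2 := h2.2
    unfold Cls.z at e1 e2 ⊢
    refine e.trans ((add_le_add e1 e2).trans (le_of_eq ?_))
    rw [← Finset.sum_add_distrib]
    exact Finset.sum_congr rfl fun J _ => by rw [Pi.add_apply, add_mul]

/-- the invariants of the simple families of dimension at most `d` are in the table -/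
def Tab (ok : List ℕ → List ℕ → Bool) (k0 d : ℕ) (C : Cls) (r : ℕ) (F : ℕ → ℕ → ℕ) (Z : ℕ → ℕ) : Prop :=
  ∀ (M : Type) [AddCommGroup M] [Module F2 M] [FiniteDimensional F2 M] (a : ℕ → End F2 M), Good ok k0 a → Simple a →
    finrank F2 M ≤ d → ∃ J < r, (∀ k, C.f a k = F J k) ∧ C.z a ≤ Z J

theorem sol {C : Cls} {ok : List ℕ → List ℕ → Bool} (hC : C.chk ok = true) {k0 d r : ℕ} {F : ℕ → ℕ → ℕ} {Z : ℕ → ℕ}
    (hT : Tab ok k0 d C r F Z) (m : ℕ) : ∀ (V : Type) [AddCommGroup V] [Module F2 V] [FiniteDimensional F2 V]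
      (a : ℕ → End F2 V), finrank F2 V = m → m ≤ d → Good ok k0 a → ∃ n, Sol C r F Z a n := by
  induction m using Nat.strong_induction_on with
  | _ m ih =>
    intro V _ _ _ a hm hd ha
    by_cases h0 : (⊤ : Submodule F2 V) = ⊥
    · have hz : ∀ S : Submodule F2 V, finrank F2 S = 0 := fun S => by
        rw [Submodule.finrank_eq_zero, eq_bot_iff, ← h0]; exact le_top
      refine ⟨0, fun k => ?_, ?_⟩
      · rw [Cls.f, hz, Finset.sum_eq_zero fun J _ => by rw [Pi.zero_apply, zero_mul]]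
      · rw [Cls.z, hz]; exact Nat.zero_le _
    · obtain ⟨W, hW, -, hs⟩ := exists_simple a (inv_top a) h0
      have e := Submodule.finrank_quotient_add_finrank W
      have hpos : 0 < finrank F2 W := by
        obtain ⟨v, hv⟩ := hs.1
        exact finrank_pos_iff_exists_ne_zero.2 ⟨v, hv⟩
      obtain ⟨J, hJ, h1, h2⟩ := hT W (subOp a W hW) (ha.of_inj (hom_sub a W hW) W.injective_subtype) hs (by omega)
      obtain ⟨n', h3⟩ := ih (finrank F2 (V ⧸ W)) (by omega) (V ⧸ W) (quoOp a W hW) rfl (by omega)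
        (ha.of_surj (hom_quo a W hW) W.mkQ_surjective)
      refine ⟨Pi.single J 1 + n', Sol.add hC ha (hW := hW) ⟨fun k => ?_, ?_⟩ h3⟩
      · rw [h1, Finset.sum_eq_single J (fun b _ hb => by rw [Pi.single_eq_of_ne hb, zero_mul])
          (fun hb => absurd (Finset.mem_range.2 hJ) hb), Pi.single_eq_same, one_mul]
      · rw [Finset.sum_eq_single J (fun b _ hb => by rw [Pi.single_eq_of_ne hb, zero_mul])
          (fun hb => absurd (Finset.mem_range.2 hJ) hb), Pi.single_eq_same, one_mul]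
        exact h2

end Sol

end Cfsg.Agent.E82.Mach
end

-- part: E82/Mach/Bits
section
/-!
# The pressure machine: vectors and operators as natural numbers (helper38)

* `bv n v` : the vector of the bits of `v`; `lin n T` : the operator whose rows are packed in `T`;
* `ops n G` : the family `1 + N` given by lists of entries; `evW`, `okT` : evaluation of words;
* `rk` : the rank of a list of numbers.
-/

set_option autoImplicit false

namespace Cfsg.Agent.E82.Mach

open Module

/-- evaluate the number first -/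
noncomputable def force {α : Type} (n : ℕ) (f : ℕ → α) : α := Nat.rec (f 0) (fun k _ => f (Nat.succ k)) n

theorem force_eq {α : Type} (n : ℕ) (f : ℕ → α) : force n f = f n := by cases n <;> rfl

/-- a bit as an element of the field -/
def bt (v i : ℕ) : F2 := if v.testBit i then 1 else 0

theorem bt_xor (a b i : ℕ) : bt (a ^^^ b) i = bt a i + bt b i := by
  unfold bt
  rw [Nat.testBit_xor]
  cases a.testBit i <;> cases b.testBit i <;> decide

theorem bt_and (a b i : ℕ) : bt (a &&& b) i = bt a i * bt b i := by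
  unfold bt
  rw [Nat.testBit_and]
  cases a.testBit i <;> cases b.testBit i <;> decide

theorem bt_zero (i : ℕ) : bt 0 i = 0 := by unfold bt; rw [Nat.zero_testBit]; rfl

theorem bt_two_pow (j i : ℕ) : bt (2 ^ j) i = if j = i then 1 else 0 := by
  unfold bt
  rw [Nat.testBit_two_pow]
  by_cases h : j = i
  · rw [if_pos h, if_pos (decide_eq_true h)]
  · rw [if_neg h, if_neg (by rw [decide_eq_false h]; decide)]

theorem bt_shiftRight (a k i : ℕ) : bt (a >>> k) i = bt a (k + i) := by unfold bt; rw [Nat.testBit_shiftRight]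

theorem bt_shiftLeft (a k i : ℕ) : bt (a <<< k) i = if k ≤ i then bt a (i - k) else 0 := by
  unfold bt
  rw [Nat.testBit_shiftLeft]
  by_cases h : k ≤ i
  · rw [if_pos h, decide_eq_true (ge_iff_le.2 h), Bool.true_and]
  · rw [if_neg h, decide_eq_false (fun e => h (ge_iff_le.1 e)), Bool.false_and]; rfl

theorem bt_mask (n i : ℕ) : bt (2 ^ n - 1) i = if i < n then 1 else 0 := by
  unfold bt
  rw [Nat.testBit_two_pow_sub_one]
  by_cases h : i < n
  · rw [if_pos h, if_pos (decide_eq_true h)]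
  · rw [if_neg h, if_neg (by rw [decide_eq_false h]; decide)]

theorem bt_true {v i : ℕ} (h : v.testBit i = true) : bt v i = 1 := by unfold bt; rw [if_pos h]

theorem bt_false {v i : ℕ} (h : v.testBit i = false) : bt v i = 0 := by unfold bt; rw [h]; rfl

/-- the test of a bit, for the kernel -/
def tb (v i : ℕ) : Bool := Nat.beq (Nat.land (Nat.shiftRight v i) 1) 1

theorem tb_eq (v i : ℕ) : tb v i = v.testBit i := by
  have h : Nat.land (Nat.shiftRight v i) 1 = (v >>> i) % 2 := Nat.and_one_is_mod _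
  rw [tb, h, Nat.testBit_eq_decide_div_mod_eq, Nat.shiftRight_eq_div_pow]
  by_cases e : v / 2 ^ i % 2 = 1
  · rw [e, decide_eq_true rfl]; rfl
  · rw [decide_eq_false e]
    exact Bool.eq_false_iff.2 fun h => e (Nat.eq_of_beq_eq_true h)

/-- the space of dimension `n` -/
abbrev X (n : ℕ) : Type := Fin n → F2

/-- the vector of the first `n` bits -/
def bv (n v : ℕ) : X n := fun i => bt v i

/-- the sequence of all bits -/
def bw (v : ℕ) : ℕ → F2 := fun i => bt v i

theorem bv_xor (n a b : ℕ) : bv n (a ^^^ b) = bv n a + bv n b := funext fun i => bt_xor a b i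

theorem bv_zero (n : ℕ) : bv n 0 = 0 := funext fun i => bt_zero i

theorem bw_xor (a b : ℕ) : bw (a ^^^ b) = bw a + bw b := funext fun i => bt_xor a b i

theorem bw_zero : bw 0 = 0 := funext fun i => bt_zero i

theorem bv_two_pow {n : ℕ} (j : Fin n) : bv n (2 ^ (j : ℕ)) = Pi.single j 1 := by
  funext i
  rw [bv, bt_two_pow, Pi.single_apply]
  by_cases h : i = j
  · rw [if_pos h, if_pos (congrArg Fin.val h).symm]
  · rw [if_neg h, if_neg fun e => h (Fin.ext e).symm]

/-- the `i`-th row of a table -/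
def row (n T i : ℕ) : ℕ := Nat.land (Nat.shiftRight T (Nat.mul n i)) (Nat.sub (Nat.pow 2 n) 1)

theorem bt_row (n T i t : ℕ) : bt (row n T i) t = if t < n then bt T (n * i + t) else 0 := by
  have h : row n T i = (T >>> (n * i)) &&& (2 ^ n - 1) := rfl
  rw [h, bt_and, bt_shiftRight, bt_mask]
  split_ifs
  · rw [mul_one]
  · rw [mul_zero]

theorem bv_row_xor (n A B i : ℕ) : bv n (row n (A ^^^ B) i) = bv n (row n A i) + bv n (row n B i) := by
  funext t
  rw [Pi.add_apply, bv, bv, bv, bt_row, bt_row, bt_row, if_pos t.2, if_pos t.2, if_pos t.2, bt_xor]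

theorem bv_row_zero (n i : ℕ) : bv n (row n 0 i) = 0 := by
  funext t
  rw [bv, bt_row, if_pos t.2, bt_zero]; rfl

/-- the number has at most `n` bits -/
def Sm (n r : ℕ) : Prop := ∀ t, n ≤ t → bt r t = 0

theorem sm_row (n T i : ℕ) : Sm n (row n T i) := fun t ht => by rw [bt_row, if_neg (not_lt.2 ht)]

theorem sm_two_pow {n j : ℕ} (h : j < n) : Sm n (2 ^ j) := fun t ht => by rw [bt_two_pow, if_neg (by omega)]

theorem Sm.xor {n a b : ℕ} (ha : Sm n a) (hb : Sm n b) : Sm n (a ^^^ b) := fun t ht => by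
  rw [bt_xor, ha t ht, hb t ht, add_zero]

theorem sm_zero (n : ℕ) : Sm n 0 := fun t _ => bt_zero t

theorem bv_row_shift {n r : ℕ} (hr : Sm n r) (k i : ℕ) :
    bv n (row n (r <<< (n * k)) i) = if i = k then bv n r else 0 := by
  funext t
  rw [bv, bt_row, if_pos t.2, bt_shiftLeft]
  rcases lt_trichotomy i k with h | h | h
  · have : n * (i + 1) ≤ n * k := Nat.mul_le_mul_left n h
    have h2 := t.2
    rw [if_neg (by rw [mul_add, mul_one] at this; omega), if_neg h.ne]; rfl
  · rw [h, if_pos (Nat.le_add_right _ _), if_pos rfl, Nat.add_sub_cancel_left]; rfl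
  · have : n * (k + 1) ≤ n * i := Nat.mul_le_mul_left n h
    rw [mul_add, mul_one] at this
    rw [if_pos (by omega), if_neg h.ne', hr _ (by omega)]; rfl

/-- the operator of a table -/
noncomputable def lin (n T : ℕ) : End F2 (X n) := (Pi.basisFun F2 (Fin n)).constr F2 fun i => bv n (row n T i)

theorem lin_single (n T : ℕ) (i : Fin n) : lin n T (Pi.single i 1) = bv n (row n T i) := by
  rw [← Pi.basisFun_apply]; exact Basis.constr_basis _ _ _ _

theorem x_ext {n : ℕ} {V : Type*} [AddCommGroup V] [Module F2 V] {f g : X n →ₗ[F2] V}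
    (h : ∀ i : Fin n, f (Pi.single i 1) = g (Pi.single i 1)) : f = g :=
  (Pi.basisFun F2 (Fin n)).ext fun i => by rw [Pi.basisFun_apply]; exact h i

theorem lin_xor (n A B : ℕ) : lin n (A ^^^ B) = lin n A + lin n B :=
  x_ext fun i => by rw [LinearMap.add_apply, lin_single, lin_single, lin_single, bv_row_xor]

theorem lin_zero (n : ℕ) : lin n 0 = 0 := x_ext fun i => by rw [lin_single, bv_row_zero]; rfl

/-- the `i`-th coordinate -/
def co (n i : ℕ) : X n →ₗ[F2] F2 := if h : i < n then LinearMap.proj ⟨i, h⟩ else 0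

theorem co_single {n : ℕ} (k : ℕ) (i : Fin n) : co n k (Pi.single i 1) = if (i : ℕ) = k then 1 else 0 := by
  unfold co
  by_cases h : k < n
  · rw [dif_pos h, LinearMap.proj_apply, Pi.single_apply]
    by_cases e : (i : ℕ) = k
    · rw [if_pos e, if_pos (Fin.ext e.symm)]
    · rw [if_neg e, if_neg fun e' => e (congrArg Fin.val e').symm]
  · rw [dif_neg h, if_neg fun e : (i : ℕ) = k => h (e ▸ i.2)]; rfl

theorem co_bv {n k : ℕ} (h : k < n) (v : ℕ) : co n k (bv n v) = bt v k := by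
  unfold co; rw [dif_pos h]; rfl

theorem lin_shift {n r : ℕ} (hr : Sm n r) (k : ℕ) : lin n (r <<< (n * k)) = (co n k).smulRight (bv n r) :=
  x_ext fun i => by
    rw [lin_single, bv_row_shift hr, LinearMap.smulRight_apply, co_single]
    split_ifs
    · rw [one_smul]
    · rw [zero_smul]

/-- the entry `e_i ↦ e_j` -/
noncomputable def ent (n : ℕ) (p : ℕ × ℕ) : End F2 (X n) := (co n p.1).smulRight (bv n (2 ^ p.2))

/-- the operator `1 + N` -/
noncomputable def opL (n : ℕ) (L : List (ℕ × ℕ)) : End F2 (X n) := 1 + (L.map (ent n)).sum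

/-- the family of operators -/
noncomputable def ops (n : ℕ) (G : List (List (ℕ × ℕ))) : ℕ → End F2 (X n) :=
  fun j => Option.rec 0 (opL n) G[j]?

/-- the entries are in range -/
def wfL (n : ℕ) (L : List (ℕ × ℕ)) : Bool := L.all fun p => Nat.blt p.1 n && Nat.blt p.2 n

/-- the entries are in range -/
def wfG (n : ℕ) (G : List (List (ℕ × ℕ))) : Bool := G.all (wfL n)

theorem wfL_cons {n : ℕ} {p : ℕ × ℕ} {L : List (ℕ × ℕ)} (h : wfL n (p :: L) = true) :
    p.1 < n ∧ p.2 < n ∧ wfL n L = true := by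
  rw [wfL, List.all_cons, Bool.and_eq_true, Bool.and_eq_true, Nat.blt_eq, Nat.blt_eq] at h
  exact ⟨h.1.1, h.1.2, h.2⟩

theorem wfG_get {n : ℕ} {G : List (List (ℕ × ℕ))} (h : wfG n G = true) {j : ℕ} {L : List (ℕ × ℕ)} (e : G[j]? = some L) :
    wfL n L = true := List.all_eq_true.1 h L (List.mem_of_getElem? e)

theorem lin_mul_ent {n : ℕ} (P : ℕ) {p : ℕ × ℕ} (h : p.2 < n) :
    lin n P * ent n p = lin n (row n P p.2 <<< (n * p.1)) := by
  rw [lin_shift (sm_row n P p.2)]
  refine LinearMap.ext fun v => ?_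
  rw [End.mul_apply, ent, LinearMap.smulRight_apply, LinearMap.smulRight_apply, map_smul,
    bv_two_pow (⟨p.2, h⟩ : Fin n), lin_single]

/-- a copy of a number whose low bits depend on all bits (this is good for the hash tables of the kernel) -/
def slt (P : ℕ) : ℕ := Nat.xor (Nat.shiftLeft P 64) (Nat.mod P 2305843009213693951)

theorem slt_shift (P k : ℕ) : slt P >>> (64 + k) = P >>> k := by
  have h : slt P = (P <<< 64) ^^^ (P % 2305843009213693951) := rfl
  have h1 : P % 2305843009213693951 < 2 ^ (64 + k) :=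
    lt_of_lt_of_le (Nat.mod_lt _ (by norm_num)) (le_trans (by norm_num) (Nat.pow_le_pow_right two_pos (Nat.le_add_right 64 k)))
  rw [h, Nat.shiftRight_xor_distrib, Nat.shiftRight_eq_zero _ _ h1, Nat.xor_zero, Nat.shiftRight_add, Nat.shiftLeft_shiftRight]

/-- the table of the product with `1 + N` -/
noncomputable def mulR (n P : ℕ) (L : List (ℕ × ℕ)) : ℕ :=
  force (slt P) fun Q => Nat.xor P (List.rec (motive := fun _ => ℕ) 0
    (fun p _ ih => Nat.xor (Nat.shiftLeft (Nat.land (Nat.shiftRight Q (Nat.add 64 (Nat.mul n p.2))) (Nat.sub (Nat.pow 2 n) 1))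
      (Nat.mul n p.1)) ih) L)

theorem lin_mulR {n : ℕ} (P : ℕ) {L : List (ℕ × ℕ)} (h : wfL n L = true) : lin n (mulR n P L) = lin n P * opL n L := by
  have key : ∀ (L : List (ℕ × ℕ)), wfL n L = true → lin n (List.rec (motive := fun _ => ℕ) 0
      (fun p _ ih => Nat.xor (Nat.shiftLeft (Nat.land (Nat.shiftRight (slt P) (Nat.add 64 (Nat.mul n p.2)))
        (Nat.sub (Nat.pow 2 n) 1)) (Nat.mul n p.1)) ih) L) = lin n P * (L.map (ent n)).sum := by
    intro L
    induction L with
    | nil => intro _; rw [List.map_nil, List.sum_nil, mul_zero]; exact lin_zero n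
    | cons p L ih =>
      intro h
      obtain ⟨-, h2, h3⟩ := wfL_cons h
      have e : row n P p.2 = Nat.land (Nat.shiftRight (slt P) (Nat.add 64 (Nat.mul n p.2))) (Nat.sub (Nat.pow 2 n) 1) :=
        congrArg (Nat.land · _) (slt_shift P _).symm
      rw [List.map_cons, List.sum_cons, mul_add, lin_mul_ent P h2, ← ih h3, ← lin_xor, e]
      rfl
  rw [opL, mul_add, mul_one, ← key L h, ← lin_xor, mulR, force_eq]
  rfl

/-- the table of the product with a letter -/
noncomputable def mulJ (n : ℕ) (G : List (List (ℕ × ℕ))) (P j : ℕ) : ℕ := Option.rec 0 (mulR n P) G[j]?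

theorem lin_mulJ {n : ℕ} {G : List (List (ℕ × ℕ))} (h : wfG n G = true) (P j : ℕ) :
    lin n (mulJ n G P j) = lin n P * ops n G j := by
  unfold mulJ ops
  cases e : G[j]? with
  | none => exact (lin_zero n).trans (mul_zero _).symm
  | some L => exact lin_mulR P (wfG_get h e)

/-- the table of the product with a word -/
noncomputable def mulW (n : ℕ) (G : List (List (ℕ × ℕ))) (w : List ℕ) : ℕ → ℕ :=
  List.rec (motive := fun _ => ℕ → ℕ) (fun P => P) (fun j _ ih P => force (mulJ n G P j) ih) w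

theorem lin_mulW {n : ℕ} {G : List (List (ℕ × ℕ))} (h : wfG n G = true) (w : List ℕ) (P : ℕ) :
    lin n (mulW n G w P) = lin n P * wd (ops n G) w := by
  induction w generalizing P with
  | nil => exact (mul_one _).symm
  | cons j w ih =>
    rw [wd_cons, ← mul_assoc, ← lin_mulJ h, ← ih]
    exact congrArg _ (force_eq _ _)

/-- the table of the identity on the first coordinates -/
noncomputable def idK (n k : ℕ) : ℕ :=
  Nat.rec (motive := fun _ => ℕ → ℕ) (fun acc => acc)
    (fun i ih acc => force (Nat.xor acc (Nat.shiftLeft (Nat.pow 2 i) (Nat.mul n i))) ih) k 0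

theorem lin_idK (n : ℕ) : lin n (idK n n) = 1 := by
  have key : ∀ k, k ≤ n → ∀ acc (i : Fin n), bv n (row n (Nat.rec (motive := fun _ => ℕ → ℕ) (fun acc => acc)
      (fun i ih acc => force (Nat.xor acc (Nat.shiftLeft (Nat.pow 2 i) (Nat.mul n i))) ih) k acc) i) =
        bv n (row n acc i) + if (i : ℕ) < k then Pi.single i 1 else 0 := by
    intro k
    induction k with
    | zero => intro _ acc i; rw [if_neg (Nat.not_lt_zero _), add_zero]; rfl
    | succ k ih =>
      intro hk acc i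
      have e := ih (by omega) (acc ^^^ (2 ^ k <<< (n * k))) i
      rw [bv_row_xor, bv_row_shift (sm_two_pow (by omega : k < n)), add_assoc] at e
      refine Eq.trans (congrArg (fun t => bv n (row n t i)) (force_eq _ _)) (e.trans (congrArg _ ?_))
      rcases lt_trichotomy (i : ℕ) k with h | h | h
      · rw [if_neg h.ne, if_pos h, if_pos (by omega), zero_add]
      · rw [if_pos h, if_neg (by omega), if_pos (by omega), add_zero, ← h, bv_two_pow]
      · rw [if_neg h.ne', if_neg (by omega), if_neg (by omega), add_zero]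
  refine x_ext fun i => ?_
  rw [lin_single, idK, key n le_rfl, bv_row_zero, zero_add, if_pos i.2]; rfl

/-- the table of a word -/
noncomputable def evW (n : ℕ) (G : List (List (ℕ × ℕ))) (w : List ℕ) : ℕ := force (idK n n) (mulW n G w)

theorem lin_evW {n : ℕ} {G : List (List (ℕ × ℕ))} (h : wfG n G = true) (w : List ℕ) :
    lin n (evW n G w) = wd (ops n G) w := by
  rw [evW, force_eq, lin_mulW h, lin_idK, one_mul]

/-- two words have the same table -/
noncomputable def okT (n : ℕ) (G : List (List (ℕ × ℕ))) (w w' : List ℕ) : Bool := Nat.beq (evW n G w) (evW n G w')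

theorem okT_sound {n : ℕ} {G : List (List (ℕ × ℕ))} (h : wfG n G = true) {w w' : List ℕ} (e : okT n G w w' = true) :
    wd (ops n G) w = wd (ops n G) w' := by
  rw [← lin_evW h, ← lin_evW h, Nat.eq_of_beq_eq_true e]

theorem ops_out (n : ℕ) (G : List (List (ℕ × ℕ))) {j : ℕ} (hj : G.length ≤ j) : ops n G j = 0 := by
  rw [ops, List.getElem?_eq_none hj]

theorem tb_slt (v i : ℕ) : tb (slt v) (64 + i) = v.testBit i := by
  rw [← tb_eq]
  exact congrArg (fun t => Nat.beq (Nat.land t 1) 1) (slt_shift v i)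

/-- the image of a vector under `1 + N` -/
noncomputable def actL (L : List (ℕ × ℕ)) (v : ℕ) : ℕ :=
  force (slt v) fun u => List.rec (motive := fun _ => ℕ) v
    (fun p _ ih => Bool.rec ih (Nat.xor (Nat.pow 2 p.2) ih) (tb u (Nat.add 64 p.1))) L

theorem actL_spec {n : ℕ} {L : List (ℕ × ℕ)} (h : wfL n L = true) {v : ℕ} (hv : Sm n v) :
    Sm n (actL L v) ∧ bv n (actL L v) = opL n L (bv n v) := by
  have key : ∀ (L : List (ℕ × ℕ)), wfL n L = true → ∀ r, List.rec (motive := fun _ => ℕ) v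
      (fun p _ ih => Bool.rec ih (Nat.xor (Nat.pow 2 p.2) ih) (tb (slt v) (Nat.add 64 p.1))) L = r →
        Sm n r ∧ bv n r = bv n v + (L.map (ent n)).sum (bv n v) := by
    intro L
    induction L with
    | nil =>
      rintro _ r rfl
      exact ⟨hv, (add_zero _).symm⟩
    | cons p L ih =>
      intro h r hr
      obtain ⟨h1, h2, h3⟩ := wfL_cons h
      obtain ⟨h4, h5⟩ := ih h3 _ rfl
      rw [List.map_cons, List.sum_cons, LinearMap.add_apply, ent, LinearMap.smulRight_apply, co_bv h1]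
      have hr' : Bool.rec (motive := fun _ => ℕ) _ _ (tb (slt v) (64 + p.1)) = r := hr
      rw [tb_slt] at hr'
      cases e : v.testBit p.1 with
      | false =>
        rw [e] at hr'
        rw [bt_false e, zero_smul, zero_add, ← hr']
        exact ⟨h4, h5⟩
      | true =>
        rw [e] at hr'
        rw [bt_true e, one_smul, add_left_comm, ← h5, ← bv_xor, ← hr']
        exact ⟨(sm_two_pow h2).xor h4, rfl⟩
  rw [actL, force_eq]
  exact key L h _ rfl

/-- the image of a vector under a letter -/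
noncomputable def actJ (G : List (List (ℕ × ℕ))) (j v : ℕ) : ℕ := Option.rec 0 (fun L => actL L v) G[j]?

theorem actJ_spec {n : ℕ} {G : List (List (ℕ × ℕ))} (h : wfG n G = true) (j : ℕ) {v : ℕ} (hv : Sm n v) :
    Sm n (actJ G j v) ∧ bv n (actJ G j v) = ops n G j (bv n v) := by
  unfold actJ ops
  cases e : G[j]? with
  | none => exact ⟨sm_zero n, bv_zero n⟩
  | some L => exact actL_spec (wfG_get h e) hv

/-- the transposed family -/
def trG (G : List (List (ℕ × ℕ))) : List (List (ℕ × ℕ)) := G.map fun L => L.map Prod.swap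

theorem wfG_tr {n : ℕ} {G : List (List (ℕ × ℕ))} (h : wfG n G = true) : wfG n (trG G) = true := by
  rw [wfG, List.all_eq_true]
  intro L hL
  obtain ⟨L', hL', rfl⟩ := List.mem_map.1 hL
  rw [wfL, List.all_eq_true]
  intro p hp
  obtain ⟨p', hp', rfl⟩ := List.mem_map.1 hp
  have := List.all_eq_true.1 (List.all_eq_true.1 h L' hL') p' hp'
  rw [Bool.and_comm] at this
  exact this

theorem co_eq_dot {n k : ℕ} (v : X n) : co n k v = bv n (2 ^ k) ⬝ᵥ v := by
  unfold co
  by_cases h : k < n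
  · rw [dif_pos h, bv_two_pow (⟨k, h⟩ : Fin n), single_one_dotProduct]; rfl
  · have : bv n (2 ^ k) = 0 := funext fun i => by
      rw [bv, bt_two_pow, if_neg fun e : k = i => h (e ▸ i.2)]; rfl
    rw [dif_neg h, this, zero_dotProduct]; rfl

theorem ops_tr (n : ℕ) (G : List (List (ℕ × ℕ))) (j : ℕ) (c v : X n) : ops n (trG G) j c ⬝ᵥ v = c ⬝ᵥ ops n G j v := by
  unfold ops trG
  rw [List.getElem?_map]
  cases G[j]? with
  | none => exact (zero_dotProduct v).trans (dotProduct_zero c).symm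
  | some L =>
    show opL n (L.map Prod.swap) c ⬝ᵥ v = c ⬝ᵥ opL n L v
    rw [opL, opL, LinearMap.add_apply, LinearMap.add_apply, add_dotProduct, dotProduct_add]
    refine congrArg _ ?_
    induction L with
    | nil => exact (zero_dotProduct v).trans (dotProduct_zero c).symm
    | cons p L ih =>
      rw [List.map_cons, List.map_cons, List.map_cons, List.sum_cons, List.sum_cons, LinearMap.add_apply,
        LinearMap.add_apply, add_dotProduct, dotProduct_add, ih, ent, ent, LinearMap.smulRight_apply,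
        LinearMap.smulRight_apply, smul_dotProduct, dotProduct_smul, co_eq_dot, co_eq_dot, Prod.fst_swap, Prod.snd_swap,
        smul_eq_mul, smul_eq_mul, mul_comm, dotProduct_comm c (bv n _)]

theorem wd_tr (n : ℕ) (G : List (List (ℕ × ℕ))) (w : List ℕ) (c v : X n) :
    wd (ops n (trG G)) w c ⬝ᵥ v = c ⬝ᵥ wd (ops n G) w.reverse v := by
  induction w generalizing v with
  | nil => rfl
  | cons j w ih => rw [wd_cons_apply, ops_tr, ih, List.reverse_cons, wd_append_apply, wd_single]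

end Cfsg.Agent.E82.Mach
end

-- part: E82/Mach/Hecke
section
/-!
# The pressure machine: fixed vectors and common eigenvectors of idempotents (helper38)

* `chain` : a nonzero vector fixed by a chain of involutions, `dchain` : the same for functionals;
* `zeroOk` : a sum of words kills the fixed vectors;
* `eigen` : a common eigenvector of operators that satisfy rewriting rules.
-/

set_option autoImplicit false

namespace Cfsg.Agent.E82.Mach

open Module

variable {V : Type*} [AddCommGroup V] [Module F2 V]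

/-- the relations accepted by `ok` hold -/
def Snd (ok : List ℕ → List ℕ → Bool) (a : ℕ → End F2 V) : Prop := ∀ w w', ok w w' = true → wd a w = wd a w'

/-- the vectors fixed by a list of words -/
def FixL (a : ℕ → End F2 V) (ys : List (List ℕ)) : Submodule F2 V where
  carrier := {v | ∀ y ∈ ys, wd a y v = v}
  zero_mem' := fun _ _ => map_zero _
  add_mem' := fun {x y} hx hy w hw => by rw [map_add, hx w hw, hy w hw]
  smul_mem' := fun c x hx w hw => by rw [map_smul, hx w hw]

/-- a product of words of the list -/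
def flat (ys : List (List ℕ)) (c : List ℕ) : List ℕ := c.flatMap fun i => ys.getD i []

theorem wd_flat {a : ℕ → End F2 V} {ys : List (List ℕ)} {v : V} (hv : v ∈ FixL a ys) (c : List ℕ) :
    wd a (flat ys c) v = v := by
  induction c with
  | nil => rfl
  | cons i c ih =>
    rw [flat, List.flatMap_cons, wd_append_apply]
    rw [flat] at ih
    rw [ih]
    by_cases hi : i < ys.length
    · rw [List.getD_eq_getElem _ _ hi]; exact hv _ (List.getElem_mem hi)
    · rw [List.getD_eq_default _ _ (not_lt.1 hi)]; rfl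

/-- every word is an involution modulo, and normalises, the words after it -/
noncomputable def chainOk (ok : List ℕ → List ℕ → Bool) (l : List (List ℕ × List ℕ × List (List ℕ))) : Bool :=
  List.rec (motive := fun _ => Bool) true
    (fun p l ih => ih && ok (p.1 ++ p.1) (flat (l.map Prod.fst) p.2.1) &&
      (List.range l.length).all fun t =>
        ok ((l.map Prod.fst).getD t [] ++ p.1) (p.1 ++ flat (l.map Prod.fst) (p.2.2.getD t []))) l

theorem chain {ok : List ℕ → List ℕ → Bool} {a : ℕ → End F2 V} (ha : Snd ok a) (h0 : ∃ v : V, v ≠ 0)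
    {l : List (List ℕ × List ℕ × List (List ℕ))} (h : chainOk ok l = true) : ∃ v ∈ FixL a (l.map Prod.fst), v ≠ 0 := by
  induction l with
  | nil =>
    obtain ⟨v, hv⟩ := h0
    exact ⟨v, fun _ hy => absurd hy List.not_mem_nil, hv⟩
  | cons p l ih =>
    have h' : (chainOk ok l && ok (p.1 ++ p.1) (flat (l.map Prod.fst) p.2.1) &&
      (List.range l.length).all fun t =>
        ok ((l.map Prod.fst).getD t [] ++ p.1) (p.1 ++ flat (l.map Prod.fst) (p.2.2.getD t []))) = true := h
    rw [Bool.and_eq_true, Bool.and_eq_true, List.all_eq_true] at h'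
    obtain ⟨⟨h1, h2⟩, h3⟩ := h'
    obtain ⟨v, hv, hv0⟩ := ih h1
    by_cases e : wd a p.1 v = v
    · refine ⟨v, fun y hy => ?_, hv0⟩
      rcases List.mem_cons.1 hy with rfl | hy
      · exact e
      · exact hv y hy
    · refine ⟨wd a p.1 v + v, fun y hy => ?_, fun e' => e (eq_of_add_eq_zero' e')⟩
      rcases List.mem_cons.1 hy with rfl | hy
      · rw [map_add, ← wd_append_apply, ha _ _ h2, wd_flat hv, add_comm]
      · obtain ⟨t, ht, rfl⟩ := List.getElem_of_mem hy
        have e1 := ha _ _ (h3 t (List.mem_range.2 (by rwa [List.length_map] at ht)))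
        rw [List.getD_eq_getElem _ _ ht] at e1
        rw [map_add, ← wd_append_apply, e1, wd_append_apply, wd_flat hv, hv _ hy]

/-- the transposed operators -/
def dop (a : ℕ → End F2 V) : ℕ → End F2 (Dual F2 V) := fun j => (a j).dualMap

theorem wd_dop (a : ℕ → End F2 V) (w : List ℕ) (φ : Dual F2 V) (v : V) : wd (dop a) w φ v = φ (wd a w.reverse v) := by
  induction w generalizing v with
  | nil => rfl
  | cons j w ih =>
    rw [wd_cons_apply, List.reverse_cons, wd_append_apply, wd_single, ← ih]; rfl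

theorem Snd.dop {ok : List ℕ → List ℕ → Bool} {a : ℕ → End F2 V} (ha : Snd ok a) :
    Snd (fun w w' => ok w.reverse w'.reverse) (dop a) := fun w w' h =>
  LinearMap.ext fun φ => LinearMap.ext fun v => by rw [wd_dop, wd_dop, ha _ _ h]

theorem dchain {ok : List ℕ → List ℕ → Bool} {a : ℕ → End F2 V} (ha : Snd ok a) (h0 : ∃ v : V, v ≠ 0)
    {l : List (List ℕ × List ℕ × List (List ℕ))} (h : chainOk (fun w w' => ok w.reverse w'.reverse) l = true) :
    ∃ φ : Dual F2 V, φ ≠ 0 ∧ ∀ y ∈ l.map Prod.fst, ∀ v, φ (wd a y.reverse v) = φ v := by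
  have h1 : ∃ φ : Dual F2 V, φ ≠ 0 := by
    obtain ⟨v, hv⟩ := h0
    by_contra hc
    refine hv ((Module.forall_dual_apply_eq_zero_iff F2 v).1 fun φ => ?_)
    by_contra hφ
    exact hc ⟨φ, fun e => hφ (by rw [e]; rfl)⟩
  obtain ⟨φ, h2, h3⟩ := chain ha.dop h1 h
  exact ⟨φ, h3, fun y hy v => by rw [← wd_dop, h2 y hy]⟩

/-- the sum of the values of a list of words -/
def sumW (a : ℕ → End F2 V) (L : List (List ℕ)) (v : V) : V := (L.map fun w => wd a w v).sum

theorem sumW_nil (a : ℕ → End F2 V) (v : V) : sumW a [] v = 0 := rfl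

theorem sumW_cons (a : ℕ → End F2 V) (w : List ℕ) (L : List (List ℕ)) (v : V) :
    sumW a (w :: L) v = wd a w v + sumW a L v := by rw [sumW, List.map_cons, List.sum_cons]; rfl

theorem sumW_append (a : ℕ → End F2 V) (L L' : List (List ℕ)) (v : V) : sumW a (L ++ L') v = sumW a L v + sumW a L' v := by
  rw [sumW, List.map_append, List.sum_append]; rfl

theorem sumW_map (a : ℕ → End F2 V) (y : List ℕ) (L : List (List ℕ)) (v : V) :
    sumW a (L.map (y ++ ·)) v = wd a y (sumW a L v) := by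
  induction L with
  | nil => exact (map_zero _).symm
  | cons w L ih => rw [List.map_cons, sumW_cons, sumW_cons, map_add, ih, wd_append_apply]

/-- the words cancel in pairs modulo the words of `ys` on the right -/
def zeroOk (ok : List ℕ → List ℕ → Bool) (ys L : List (List ℕ)) (c : List (List ℕ × List ℕ × List ℕ)) : Bool :=
  (c.flatMap fun p => [p.1, p.2.1]).isPerm L && c.all fun p => ok p.1 (p.2.1 ++ flat ys p.2.2)

theorem zero_sound {ok : List ℕ → List ℕ → Bool} {a : ℕ → End F2 V} (ha : Snd ok a) {ys L : List (List ℕ)}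
    {c : List (List ℕ × List ℕ × List ℕ)} (h : zeroOk ok ys L c = true) {v : V} (hv : v ∈ FixL a ys) : sumW a L v = 0 := by
  rw [zeroOk, Bool.and_eq_true, List.isPerm_iff, List.all_eq_true] at h
  rw [sumW, ← (h.1.map _).sum_eq]
  have h2 := h.2
  clear h
  induction c with
  | nil => rfl
  | cons p c ih =>
    rw [List.flatMap_cons, List.map_append, List.sum_append, ih fun q hq => h2 q (List.mem_cons_of_mem _ hq), add_zero]
    show wd a p.1 v + (wd a p.2.1 v + 0) = 0
    rw [ha _ _ (h2 p List.mem_cons_self), wd_append_apply, wd_flat hv, add_zero, add_self']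

/-- evaluate a list first -/
noncomputable def forceL {α : Type} (l : List ℕ) : (List ℕ → α) → α :=
  List.rec (motive := fun _ => (List ℕ → α) → α) (fun k => k []) (fun x _ ih k => force x fun y => ih fun l' => k (y :: l')) l

theorem forceL_eq {α : Type} (l : List ℕ) (k : List ℕ → α) : forceL l k = k l := by
  induction l generalizing k with
  | nil => rfl
  | cons x l ih => exact (force_eq x fun y => forceL l fun l' => k (y :: l')).trans (ih _)

/-- one rewriting step: position `d / 32`, rule `d % 32` -/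
def mv (rules : List (List ℕ × List ℕ)) (w : List ℕ) (d : ℕ) : List ℕ :=
  cond ((rules.getD (d % 32) ([], [])).1.isPrefixOf (w.drop (d / 32)))
    (w.take (d / 32) ++ ((rules.getD (d % 32) ([], [])).2 ++ (w.drop (d / 32)).drop (rules.getD (d % 32) ([], [])).1.length)) w

theorem wd_mem {T : ℕ → End F2 V} {Q : V → Prop} (hQ : ∀ i v, Q v → Q (T i v)) (w : List ℕ) {v : V} (hv : Q v) :
    Q (wd T w v) := by
  induction w with
  | nil => exact hv
  | cons j w ih => rw [wd_cons_apply]; exact hQ j _ ih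

theorem wd_mv {T : ℕ → End F2 V} {Q : V → Prop} (hQ : ∀ i v, Q v → Q (T i v)) {rules : List (List ℕ × List ℕ)}
    (hr : ∀ p ∈ rules, ∀ v, Q v → wd T p.1 v = wd T p.2 v ∨ wd T p.1 v = 0) (w : List ℕ) (d : ℕ) {v : V} (hv : Q v) :
    wd T w v = wd T (mv rules w d) v ∨ wd T w v = 0 := by
  have h1 : ∀ v, Q v → wd T (rules.getD (d % 32) ([], [])).1 v = wd T (rules.getD (d % 32) ([], [])).2 v ∨
      wd T (rules.getD (d % 32) ([], [])).1 v = 0 := by
    by_cases hi : d % 32 < rules.length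
    · rw [List.getD_eq_getElem _ _ hi]; exact hr _ (List.getElem_mem hi)
    · rw [List.getD_eq_default _ _ (not_lt.1 hi)]; exact fun _ _ => Or.inl rfl
  unfold mv
  cases e : (rules.getD (d % 32) ([], [])).1.isPrefixOf (w.drop (d / 32)) with
  | false => exact Or.inl rfl
  | true =>
    have e1 := List.prefix_iff_eq_append.1 (List.isPrefixOf_iff_prefix.1 e)
    have e2 : wd T w v = wd T (w.take (d / 32)) (wd T (rules.getD (d % 32) ([], [])).1
        (wd T ((w.drop (d / 32)).drop (rules.getD (d % 32) ([], [])).1.length) v)) := by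
      rw [← wd_append_apply T (rules.getD _ _).1, e1, ← wd_append_apply, List.take_append_drop]
    rw [cond_true, wd_append_apply, wd_append_apply, e2]
    rcases h1 _ (wd_mem hQ ((w.drop (d / 32)).drop (rules.getD (d % 32) ([], [])).1.length) hv) with h | h
    · exact Or.inl (congrArg _ h)
    · exact Or.inr ((congrArg _ h).trans (map_zero _))

/-- the rewriting steps are the digits of a number -/
noncomputable def mvs (rules : List (List ℕ × List ℕ)) (w' : List ℕ) (f : ℕ) : ℕ → List ℕ → Bool :=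
  Nat.rec (motive := fun _ => ℕ → List ℕ → Bool) (fun _ _ => false)
    (fun _ ih x w => Nat.rec (motive := fun _ => Bool) (w == w')
      (fun _ _ => force (Nat.mod x 1024) fun d => force (Nat.div x 1024) fun x' => forceL (mv rules w d) (ih x')) x) f

theorem wd_mvs {T : ℕ → End F2 V} {Q : V → Prop} (hQ : ∀ i v, Q v → Q (T i v)) {rules : List (List ℕ × List ℕ)}
    (hr : ∀ p ∈ rules, ∀ v, Q v → wd T p.1 v = wd T p.2 v ∨ wd T p.1 v = 0) {w' : List ℕ} {f x : ℕ} {w : List ℕ}
    (h : mvs rules w' f x w = true) {v : V} (hv : Q v) : wd T w v = wd T w' v ∨ wd T w v = 0 := by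
  induction f generalizing x w with
  | zero => exact absurd h Bool.false_ne_true
  | succ f ih =>
    cases x with
    | zero => rw [beq_iff_eq.1 (show (w == w') = true from h)]; exact Or.inl rfl
    | succ x =>
      have h' : (force ((x + 1) % 1024) fun d => force ((x + 1) / 1024) fun x' => forceL (mv rules w d) (mvs rules w' f x')) =
        true := h
      rw [force_eq, force_eq, forceL_eq] at h'
      rcases wd_mv hQ hr w ((x + 1) % 1024) hv with e | e
      · rw [e]; exact ih h'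
      · exact Or.inr e

/-- the table of normal forms: the product of a letter with a normal form is the same or a later normal form -/
noncomputable def tabOk (r : ℕ) (rules : List (List ℕ × List ℕ)) (tab : List (List ℕ × List (ℕ × ℕ))) : Bool :=
  ((tab.getD 0 ([0], [])).1 == []) && (List.range tab.length).all fun k => (List.range r).all fun i =>
    force ((tab.getD k ([], [])).2.getD i (0, 0)).1 fun k' => Nat.ble k k' && Nat.blt k' tab.length &&
      mvs rules (tab.getD k' ([], [])).1 200 ((tab.getD k ([], [])).2.getD i (0, 0)).2 (i :: (tab.getD k ([], [])).1)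

theorem eigen {T : ℕ → End F2 V} {Q : V → Prop} (hQ : ∀ i v, Q v → Q (T i v)) {rules : List (List ℕ × List ℕ)}
    (hr : ∀ p ∈ rules, ∀ v, Q v → wd T p.1 v = wd T p.2 v ∨ wd T p.1 v = 0) {r : ℕ} {tab : List (List ℕ × List (ℕ × ℕ))}
    (h : tabOk r rules tab = true) {v : V} (hv : Q v) (h0 : v ≠ 0) :
    ∃ m, Q m ∧ m ≠ 0 ∧ ∀ i < r, T i m = 0 ∨ T i m = m := by
  classical
  rw [tabOk, Bool.and_eq_true, beq_iff_eq, List.all_eq_true] at h
  obtain ⟨h1, h2⟩ := h
  have hl : 0 < tab.length := by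
    by_contra hc
    rw [List.getD_eq_default _ _ (not_lt.1 hc)] at h1
    exact List.cons_ne_nil _ _ h1
  obtain ⟨K, hK, hm⟩ := Finset.exists_max_image ((Finset.range tab.length).filter fun k => wd T (tab.getD k ([], [])).1 v ≠ 0)
    id ⟨0, Finset.mem_filter.2 ⟨Finset.mem_range.2 hl, by
      rw [List.getD_eq_getElem _ _ hl] at h1 ⊢
      rw [h1]; exact h0⟩⟩
  obtain ⟨hK1, hK2⟩ := Finset.mem_filter.1 hK
  refine ⟨_, wd_mem hQ _ hv, hK2, fun i hi => ?_⟩
  have h3 := List.all_eq_true.1 (h2 K (List.mem_range.2 (Finset.mem_range.1 hK1))) i (List.mem_range.2 hi)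
  rw [force_eq, Bool.and_eq_true, Bool.and_eq_true, Nat.ble_eq, Nat.blt_eq] at h3
  have h4 := wd_mvs hQ hr h3.2 hv
  rw [wd_cons_apply] at h4
  rcases h4 with h4 | h4
  · rw [h4]
    by_cases e : wd T (tab.getD ((tab.getD K ([], [])).2.getD i (0, 0)).1 ([], [])).1 v = 0
    · exact Or.inl e
    · have h5 : ((tab.getD K ([], [])).2.getD i (0, 0)).1 ≤ K := hm _ (Finset.mem_filter.2 ⟨Finset.mem_range.2 h3.1.2, e⟩)
      rw [le_antisymm h5 h3.1.1]
      exact Or.inr rfl
  · exact Or.inl h4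

end Cfsg.Agent.E82.Mach
end

-- part: E82/Mach/Rank
section
/-!
# The pressure machine: ranks computed by the kernel (helper38)

* `rkF m f` : the rank of the numbers `f 0, …, f (m-1)`;
* `fxRk`, `zRk` : the fixed space of a word, the solutions of the Fox equations;
* `spinOk` : a vector generates the space; `bigRk` : the rank of a product of matrix coefficients.
-/

set_option autoImplicit false

namespace Cfsg.Agent.E82.Mach

open Module

/-- the span of a list of numbers -/
def spL (l : List ℕ) : Submodule F2 (ℕ → F2) := Submodule.span F2 (bw '' {x | x ∈ l})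

theorem spL_nil : spL [] = ⊥ := by
  rw [spL, Submodule.span_eq_bot]
  rintro _ ⟨x, hx, -⟩
  exact absurd hx List.not_mem_nil

theorem spL_cons (v : ℕ) (l : List ℕ) : spL (v :: l) = Submodule.span F2 {bw v} ⊔ spL l := by
  have e : {x | x ∈ v :: l} = insert v {x | x ∈ l} := Set.ext fun _ => List.mem_cons
  rw [spL, e, Set.image_insert_eq, Submodule.span_insert]; rfl

theorem spL_fin (l : List ℕ) : Module.Finite F2 (spL l) := Module.Finite.span_of_finite F2 ((List.finite_toSet l).image bw)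

theorem spL_le {l : List ℕ} {W : Submodule F2 (ℕ → F2)} (h : ∀ x ∈ l, bw x ∈ W) : spL l ≤ W := by
  rw [spL, Submodule.span_le]
  rintro _ ⟨x, hx, rfl⟩
  exact h x hx

theorem mem_spL {l : List ℕ} {x : ℕ} (h : x ∈ l) : bw x ∈ spL l := Submodule.subset_span ⟨x, h, rfl⟩

/-- clear the bit `p` with the number `v` -/
noncomputable def elim (p v : ℕ) (k : List ℕ → ℕ) (l : List ℕ) : List ℕ → ℕ :=
  List.rec (motive := fun _ => List ℕ → ℕ) k
    (fun w _ ih acc => Bool.rec (ih (w :: acc))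
      (Nat.rec (motive := fun _ => ℕ) (ih acc) (fun t _ => ih (Nat.succ t :: acc)) (Nat.xor w v)) (tb w p)) l

theorem elim_spec {p v : ℕ} (hv : bt v p = 1) (k : List ℕ → ℕ) (l acc : List ℕ) (ha : ∀ x ∈ acc, bt x p = 0) :
    ∃ l', elim p v k l acc = k l' ∧ l'.length ≤ l.length + acc.length ∧ (∀ x ∈ l', bt x p = 0) ∧
      Submodule.span F2 {bw v} ⊔ spL l' = Submodule.span F2 {bw v} ⊔ spL l ⊔ spL acc := by
  induction l generalizing acc with
  | nil => exact ⟨acc, rfl, by rw [List.length_nil, zero_add], ha, by rw [spL_nil, sup_bot_eq]⟩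
  | cons w l ih =>
    have e0 : elim p v k (w :: l) acc = Bool.rec (motive := fun _ => ℕ) (elim p v k l (w :: acc))
      (Nat.rec (motive := fun _ => ℕ) (elim p v k l acc) (fun t _ => elim p v k l (Nat.succ t :: acc)) (w ^^^ v))
        (tb w p) := rfl
    rw [e0, tb_eq]
    cases e : w.testBit p with
    | false =>
      obtain ⟨l', h1, h2, h3, h4⟩ := ih (w :: acc) fun x hx => by
        rcases List.mem_cons.1 hx with rfl | hx
        · exact bt_false e
        · exact ha x hx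
      refine ⟨l', h1, by rw [List.length_cons] at h2 ⊢; omega, h3, ?_⟩
      rw [h4, spL_cons, spL_cons]
      ac_rfl
    | true =>
      have hw : Submodule.span F2 {bw v} ⊔ Submodule.span F2 {bw (w ^^^ v)} =
          Submodule.span F2 {bw v} ⊔ Submodule.span F2 {bw w} := by
        have hv1 : ∀ S : Submodule F2 (ℕ → F2), bw v ∈ Submodule.span F2 {bw v} ⊔ S := fun S =>
          Submodule.mem_sup_left (Submodule.mem_span_singleton_self _)
        refine le_antisymm (sup_le le_sup_left ?_) (sup_le le_sup_left ?_)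
        · rw [Submodule.span_singleton_le_iff_mem, bw_xor]
          exact add_mem (Submodule.mem_sup_right (Submodule.mem_span_singleton_self _)) (hv1 _)
        · rw [Submodule.span_singleton_le_iff_mem]
          have : bw w = bw (w ^^^ v) + bw v := by rw [bw_xor, add_assoc, add_self', add_zero]
          rw [this]
          exact add_mem (Submodule.mem_sup_right (Submodule.mem_span_singleton_self _)) (hv1 _)
      cases e1 : w ^^^ v with
      | zero =>
        obtain ⟨l', h1, h2, h3, h4⟩ := ih acc ha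
        refine ⟨l', h1, by rw [List.length_cons]; omega, h3, ?_⟩
        rw [e1, bw_zero, Submodule.span_zero_singleton, sup_bot_eq] at hw
        rw [h4, spL_cons, ← sup_assoc, ← hw]
      | succ t =>
        obtain ⟨l', h1, h2, h3, h4⟩ := ih ((t + 1) :: acc) fun x hx => by
          rcases List.mem_cons.1 hx with rfl | hx
          · rw [← e1, bt_xor, bt_true e, hv]; decide
          · exact ha x hx
        refine ⟨l', h1, by rw [List.length_cons] at h2 ⊢; omega, h3, ?_⟩
        rw [h4, spL_cons, spL_cons, ← sup_assoc _ (Submodule.span F2 {bw w}), ← hw, e1]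
        ac_rfl

/-- the highest bit, by bisection -/
noncomputable def hib (k : ℕ) : ℕ → ℕ → ℕ :=
  Nat.rec (motive := fun _ => ℕ → ℕ → ℕ) (fun _ p => p)
    (fun i ih x p => Nat.rec (motive := fun _ => ℕ) (ih x p) (fun t _ => ih (Nat.succ t) (Nat.add p (Nat.pow 2 i)))
      (Nat.shiftRight x (Nat.pow 2 i))) k

/-- the position of a bit that is set -/
noncomputable def piv (v : ℕ) : ℕ := force (hib 18 v 0) fun p => Bool.rec (Nat.log2 v) p (tb v p)

private theorem bt_piv_aux {v : ℕ} (h : v ≠ 0) (q : ℕ) :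
    bt v (force q fun p => Bool.rec (motive := fun _ => ℕ) (Nat.log2 v) p (tb v p)) = 1 := by
  rw [force_eq, tb_eq]
  cases e : v.testBit q with
  | false => exact bt_true (Nat.testBit_log2 h)
  | true => exact bt_true e

theorem bt_piv {v : ℕ} (h : v ≠ 0) : bt v (piv v) = 1 := bt_piv_aux h (hib 18 v 0)

/-- the rank, by elimination -/
noncomputable def rk (f : ℕ) : List ℕ → ℕ → ℕ :=
  Nat.rec (motive := fun _ => List ℕ → ℕ → ℕ) (fun _ c => c)
    (fun _ ih l c => List.rec (motive := fun _ => ℕ) c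
      (fun v l' _ => Nat.rec (motive := fun _ => ℕ) (ih l' c)
        (fun _ _ => force (piv v) fun p => elim p v (fun l'' => ih l'' (Nat.succ c)) l' []) v) l) f

private theorem rk_step (f t c p : ℕ) (l : List ℕ) (hv : bt (t + 1) p = 1) (h : l.length + 1 ≤ f + 1)
    (ih : ∀ (l : List ℕ) (c : ℕ), l.length ≤ f → rk f l c = c + finrank F2 (spL l)) :
    elim p (t + 1) (fun l'' => rk f l'' (c + 1)) l [] = c + finrank F2 (spL ((t + 1) :: l)) := by
  obtain ⟨l', h1, h2, h3, h4⟩ := elim_spec hv (fun l'' => rk f l'' (c + 1)) l [] fun _ hx => absurd hx List.not_mem_nil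
  rw [List.length_nil] at h2
  rw [spL_nil, sup_bot_eq] at h4
  rw [h1, ih l' _ (by omega), spL_cons, ← h4]
  have hn : bw (t + 1) ∉ spL l' := fun hm => by
    have : spL l' ≤ LinearMap.ker (LinearMap.proj p : (ℕ → F2) →ₗ[F2] F2) := spL_le fun x hx => h3 x hx
    exact one_ne_zero (hv.symm.trans (this hm))
  have h0 : bw (t + 1) ≠ 0 := fun e => hn (e ▸ zero_mem _)
  have := spL_fin l'
  have e := Submodule.finrank_sup_add_finrank_inf_eq (Submodule.span F2 {bw (t + 1)}) (spL l')
  rw [finrank_span_singleton h0, ((Submodule.disjoint_span_singleton' h0).2 hn).symm.eq_bot, finrank_bot] at e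
  omega

theorem rk_eq (f : ℕ) (l : List ℕ) (c : ℕ) (h : l.length ≤ f) : rk f l c = c + finrank F2 (spL l) := by
  induction f generalizing l c with
  | zero =>
    rw [List.length_eq_zero_iff.1 (Nat.le_zero.1 h), spL_nil, finrank_bot]; rfl
  | succ f ih =>
    cases l with
    | nil => rw [spL_nil, finrank_bot]; rfl
    | cons v l =>
      rw [List.length_cons] at h
      cases v with
      | zero =>
        rw [spL_cons, bw_zero, Submodule.span_zero_singleton, bot_sup_eq, ← ih l c (by omega)]; rfl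
      | succ t =>
        have e0 : rk (f + 1) ((t + 1) :: l) c =
          force (piv (t + 1)) fun p => elim p (t + 1) (fun l'' => rk f l'' (c + 1)) l [] := rfl
        exact e0.trans ((force_eq _ _).trans (rk_step f t c _ l (bt_piv (Nat.succ_ne_zero t)) h ih))

/-- evaluate the numbers `f i` first -/
noncomputable def mapK (f : ℕ → ℕ) (k : List ℕ → ℕ) (m : ℕ) : List ℕ → ℕ :=
  Nat.rec (motive := fun _ => List ℕ → ℕ) k (fun i ih acc => force (f i) fun x => ih (x :: acc)) m

theorem mapK_eq (f : ℕ → ℕ) (k : List ℕ → ℕ) (m : ℕ) (acc : List ℕ) : mapK f k m acc = k ((List.range m).map f ++ acc) := by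
  induction m generalizing acc with
  | zero => rfl
  | succ m ih =>
    rw [List.range_succ, List.map_append, List.append_assoc, ← ih]
    exact force_eq (f m) fun x => mapK f k m (x :: acc)

/-- the shift of a sequence -/
def sh (n : ℕ) : (ℕ → F2) →ₗ[F2] (ℕ → F2) := LinearMap.pi fun t => if n ≤ t then LinearMap.proj (t - n) else 0

theorem sh_bw (n b : ℕ) : sh n (bw b) = bw (b <<< n) := by
  funext t
  rw [sh, LinearMap.pi_apply, bw, bt_shiftLeft]
  split_ifs <;> rfl

/-- the sum of the blocks of 64 bits -/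
noncomputable def fold (j : ℕ) : ℕ → ℕ :=
  Nat.rec (motive := fun _ => ℕ → ℕ) (fun x => x)
    (fun i ih x => force (Nat.xor x (Nat.shiftRight x (Nat.shiftLeft 64 i))) ih) j

theorem fold_lin (j : ℕ) : ∃ A : (ℕ → F2) →ₗ[F2] (ℕ → F2), ∀ x, A (bw x) = bw (fold j x) := by
  induction j with
  | zero => exact ⟨LinearMap.id, fun _ => rfl⟩
  | succ j ih =>
    obtain ⟨A, hA⟩ := ih
    let B : (ℕ → F2) →ₗ[F2] (ℕ → F2) := LinearMap.pi fun t => LinearMap.proj (64 <<< j + t)
    refine ⟨A ∘ₗ (LinearMap.id + B), fun x => ?_⟩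
    have e : fold (j + 1) x = fold j (x ^^^ (x >>> (64 <<< j))) := force_eq _ (fold j)
    rw [e, ← hA, bw_xor]
    exact congrArg (fun y => A (bw x + y)) (funext fun t => (bt_shiftRight x _ t).symm)

/-- the low bits depend on all bits (this is good for the hash tables of the kernel) -/
noncomputable def salt (x : ℕ) : ℕ :=
  force x fun y => Nat.xor (Nat.shiftLeft y 64) (Nat.land (fold 8 y) (Nat.sub (Nat.pow 2 64) 1))

theorem salt_lin : ∃ A : (ℕ → F2) →ₗ[F2] (ℕ → F2), Function.Injective A ∧ ∀ x, A (bw x) = bw (salt x) := by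
  obtain ⟨A, hA⟩ := fold_lin 8
  let B : (ℕ → F2) →ₗ[F2] (ℕ → F2) := LinearMap.pi fun t => if t < 64 then LinearMap.proj t else 0
  refine ⟨sh 64 + B ∘ₗ A, (injective_iff_map_eq_zero _).2 fun f hf => funext fun t => ?_, fun x => ?_⟩
  · have := congrFun hf (64 + t)
    rw [LinearMap.add_apply, Pi.add_apply, sh, LinearMap.pi_apply, if_pos (Nat.le_add_right _ _), LinearMap.comp_apply,
      LinearMap.pi_apply, if_neg (by omega), LinearMap.zero_apply, add_zero, Nat.add_sub_cancel_left] at this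
    exact this
  · have e : salt x = (x <<< 64) ^^^ (fold 8 x &&& (2 ^ 64 - 1)) := force_eq _ _
    rw [e, bw_xor, LinearMap.add_apply, sh_bw, LinearMap.comp_apply, hA]
    refine congrArg _ (funext fun t => ?_)
    rw [LinearMap.pi_apply, bw, bt_and, bt_mask]
    split_ifs
    · exact (mul_one _).symm
    · exact (mul_zero _).symm

/-- the rank of `f 0, …, f (m-1)` -/
noncomputable def rkF (m : ℕ) (f : ℕ → ℕ) : ℕ := mapK (fun i => salt (f i)) (fun l => rk m l 0) m []

theorem rkF_eq (m : ℕ) (f : ℕ → ℕ) : rkF m f = finrank F2 (spL ((List.range m).map f)) := by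
  obtain ⟨A, h1, h2⟩ := salt_lin
  have e : spL ((List.range m).map fun i => salt (f i)) = (spL ((List.range m).map f)).map A := by
    refine le_antisymm (spL_le fun x hx => ?_) (Submodule.map_le_iff_le_comap.2 (spL_le fun x hx => ?_))
    · obtain ⟨i, hi, rfl⟩ := List.mem_map.1 hx
      exact ⟨_, mem_spL (List.mem_map.2 ⟨i, hi, rfl⟩), h2 _⟩
    · obtain ⟨i, hi, rfl⟩ := List.mem_map.1 hx
      rw [Submodule.mem_comap, h2]
      exact mem_spL (List.mem_map.2 ⟨i, hi, rfl⟩)
  rw [rkF, mapK_eq, List.append_nil, rk_eq _ _ _ (by rw [List.length_map, List.length_range]), zero_add, e]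
  exact (LinearEquiv.finrank_eq (Submodule.equivMapOfInjective A h1 _)).symm

theorem rkF_le {N : Type*} [AddCommGroup N] [Module F2 N] [FiniteDimensional F2 N] (Θ : N →ₗ[F2] (ℕ → F2)) {m : ℕ}
    {f : ℕ → ℕ} (h : ∀ a < m, ∃ y, Θ y = bw (f a)) : rkF m f ≤ finrank F2 N := by
  rw [rkF_eq]
  refine le_trans (Submodule.finrank_mono (spL_le fun x hx => ?_)) (LinearMap.finrank_range_le Θ)
  obtain ⟨a, ha, rfl⟩ := List.mem_map.1 hx
  exact h a (List.mem_range.1 ha)

theorem rkF_ker {n : ℕ} (A : X n →ₗ[F2] (ℕ → F2)) {f : ℕ → ℕ} (h : ∀ i : Fin n, A (Pi.single i 1) = bw (f i)) :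
    rkF n f + finrank F2 (LinearMap.ker A) = n := by
  have e : LinearMap.range A = spL ((List.range n).map f) := by
    refine le_antisymm ?_ (spL_le fun x hx => ?_)
    · rw [LinearMap.range_eq_map, ← (Pi.basisFun F2 (Fin n)).span_eq, Submodule.map_span_le]
      rintro _ ⟨i, rfl⟩
      rw [Pi.basisFun_apply, h]
      exact mem_spL (List.mem_map.2 ⟨i, List.mem_range.2 i.2, rfl⟩)
    · obtain ⟨a, ha, rfl⟩ := List.mem_map.1 hx
      exact ⟨_, h ⟨a, List.mem_range.1 ha⟩⟩
  rw [rkF_eq, ← e, LinearMap.finrank_range_add_finrank_ker, Module.finrank_fin_fun]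

/-- extension by zero -/
def ext0 (n : ℕ) : X n →ₗ[F2] (ℕ → F2) := LinearMap.pi (co n)

theorem ext0_bv {n a : ℕ} (h : Sm n a) : ext0 n (bv n a) = bw a := by
  funext t
  rw [ext0, LinearMap.pi_apply]
  by_cases ht : t < n
  · exact co_bv ht a
  · rw [co, dif_neg ht, bw, h t (not_lt.1 ht)]; rfl

theorem ext0_inj (n : ℕ) : Function.Injective (ext0 n) := by
  intro v w e
  funext i
  have := congrFun e i
  rw [ext0, LinearMap.pi_apply, LinearMap.pi_apply, co, dif_pos i.2] at this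
  exact this

/-- the rank of `g - 1` -/
noncomputable def fxRk (n : ℕ) (G : List (List (ℕ × ℕ))) (w : List ℕ) : ℕ :=
  force (Nat.xor (evW n G w) (idK n n)) fun T => rkF n (row n T)

theorem fxRk_eq {n : ℕ} {G : List (List (ℕ × ℕ))} (h : wfG n G = true) (w : List ℕ) :
    fxRk n G w + finrank F2 (Fx (wd (ops n G) w)) = n := by
  have e := rkF_ker (ext0 n ∘ₗ lin n (evW n G w ^^^ idK n n)) (f := row n (evW n G w ^^^ idK n n)) fun i => by
    rw [LinearMap.comp_apply, lin_single, ext0_bv (sm_row _ _ _)]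
  have e1 : LinearMap.ker (ext0 n ∘ₗ lin n (evW n G w ^^^ idK n n)) = Fx (wd (ops n G) w) := by
    ext v
    rw [LinearMap.ker_comp_of_ker_eq_bot _ (LinearMap.ker_eq_bot.2 (ext0_inj n)), lin_xor, lin_evW h, lin_idK,
      LinearMap.mem_ker, mem_Fx, LinearMap.add_apply, End.one_apply]
    exact ⟨eq_of_add_eq_zero', fun e => by rw [e, add_self']⟩
  rw [e1] at e
  rw [fxRk, force_eq]
  exact e

/-- the table of a Fox derivative -/
noncomputable def foxT (n : ℕ) (G : List (List (ℕ × ℕ))) (g h : List ℕ) (w : List Bool) : ℕ → ℕ → ℕ :=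
  List.rec (motive := fun _ => ℕ → ℕ → ℕ) (fun _ F => F)
    (fun b _ ih P F => Bool.rec (force (mulW n G g P) fun P' => ih P' F)
      (force (mulW n G h P) fun P' => force (Nat.xor F P) fun F' => ih P' F') b) w

theorem lin_foxT {n : ℕ} {G : List (List (ℕ × ℕ))} (hG : wfG n G = true) (g h : List ℕ) (w : List Bool) (P F : ℕ) :
    lin n (foxT n G g h w P F) = lin n F + lin n P * fox (wd (ops n G) g) (wd (ops n G) h) w := by
  induction w generalizing P F with
  | nil => exact ((congrArg _ (mul_zero _)).trans (add_zero _)).symm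
  | cons b w ih =>
    cases b with
    | false =>
      rw [fox_false, ← mul_assoc, ← lin_mulW hG, ← ih]
      exact congrArg _ (force_eq (mulW n G g P) fun P' => foxT n G g h w P' F)
    | true =>
      rw [fox_true, mul_add, mul_one, ← mul_assoc, ← lin_mulW hG, ← add_assoc, ← lin_xor, ← ih]
      exact congrArg _ ((force_eq (mulW n G h P) fun P' => force (F ^^^ P) fun F' => foxT n G g h w P' F').trans
        (force_eq (F ^^^ P) fun F' => foxT n G g h w (mulW n G h P) F'))

/-- evaluate the numbers `f x` first -/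
noncomputable def lmapK {α : Type} (f : α → ℕ) (k : List ℕ → ℕ) (l : List α) : List ℕ → ℕ :=
  List.rec (motive := fun _ => List ℕ → ℕ) k (fun x _ ih acc => force (f x) fun y => ih (y :: acc)) l

theorem lmapK_eq {α : Type} (f : α → ℕ) (k : List ℕ → ℕ) (l : List α) (acc : List ℕ) :
    lmapK f k l acc = k ((l.map f).reverse ++ acc) := by
  induction l generalizing acc with
  | nil => rfl
  | cons x l ih =>
    rw [List.map_cons, List.reverse_cons, List.append_assoc, ← ih]
    exact force_eq (f x) fun y => lmapK f k l (y :: acc)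

/-- the rows of several tables, one after the other -/
noncomputable def cat (n : ℕ) (Ts : List ℕ) (i : ℕ) : ℕ :=
  List.rec (motive := fun _ => ℕ) 0 (fun T _ ih => Nat.xor (row n T i) (Nat.shiftLeft ih n)) Ts

theorem cat_spec (n : ℕ) (Ts : List ℕ) : ∃ A : X n →ₗ[F2] (ℕ → F2), (∀ i : Fin n, A (Pi.single i 1) = bw (cat n Ts i)) ∧
    ∀ v, (∀ T ∈ Ts, lin n T v = 0) → A v = 0 := by
  induction Ts with
  | nil => exact ⟨0, fun _ => bw_zero.symm, fun _ _ => rfl⟩
  | cons T Ts ih =>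
    obtain ⟨A, h1, h2⟩ := ih
    refine ⟨ext0 n ∘ₗ lin n T + sh n ∘ₗ A, fun i => ?_, fun v hv => ?_⟩
    · rw [LinearMap.add_apply, LinearMap.comp_apply, LinearMap.comp_apply, lin_single, ext0_bv (sm_row _ _ _), h1, sh_bw,
        ← bw_xor]
      rfl
    · rw [LinearMap.add_apply, LinearMap.comp_apply, LinearMap.comp_apply, hv T List.mem_cons_self,
        h2 v fun T' hT => hv T' (List.mem_cons_of_mem _ hT), map_zero, map_zero, add_zero]

/-- the rank of the Fox equations -/
noncomputable def zRk (n : ℕ) (G : List (List (ℕ × ℕ))) (g h : List ℕ) (R : List (List Bool)) : ℕ :=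
  force (idK n n) fun I => lmapK (fun w => foxT n G g h w I 0) (fun Ts => rkF n (cat n Ts)) R []

theorem zRk_le {n : ℕ} {G : List (List (ℕ × ℕ))} (hG : wfG n G = true) (g h : List ℕ) (R : List (List Bool)) :
    zRk n G g h R + finrank F2 (Z0 (wd (ops n G) g) (wd (ops n G) h) R) ≤ n := by
  obtain ⟨A, h1, h2⟩ := cat_spec n ((R.map fun w => foxT n G g h w (idK n n) 0).reverse ++ [])
  have e := rkF_ker A h1
  have e1 : Z0 (wd (ops n G) g) (wd (ops n G) h) R ≤ LinearMap.ker A := fun v hv => h2 v fun T hT => by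
    rw [List.append_nil, List.mem_reverse] at hT
    obtain ⟨w, hw, rfl⟩ := List.mem_map.1 hT
    rw [lin_foxT hG, lin_zero, lin_idK, zero_add, one_mul]
    exact hv w hw
  have e2 := Submodule.finrank_mono e1
  rw [zRk, force_eq, lmapK_eq]
  omega

/-- the table of the vectors of a tree of words -/
noncomputable def build (s : ℕ) (G : List (List (ℕ × ℕ))) (prog : List (ℕ × ℕ)) : ℕ → ℕ → ℕ :=
  List.rec (motive := fun _ => ℕ → ℕ → ℕ) (fun _ V => V)
    (fun p _ ih k V => force (row s V (Nat.mod p.1 k)) fun x =>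
      force (Nat.xor V (Nat.shiftLeft (actJ G p.2 x) (Nat.mul s k))) fun V' => force (Nat.succ k) fun k' => ih k' V') prog

/-- the words of a tree -/
noncomputable def wrds (prog : List (ℕ × ℕ)) : ℕ → (ℕ → List ℕ) → ℕ → List ℕ :=
  List.rec (motive := fun _ => ℕ → (ℕ → List ℕ) → ℕ → List ℕ) (fun _ W => W)
    (fun p _ ih k W => ih (k + 1) (Function.update W k (p.2 :: W (p.1 % k)))) prog

theorem build_aux {s : ℕ} {G : List (List (ℕ × ℕ))} (hG : wfG s G = true) (x : X s) (prog : List (ℕ × ℕ)) (k V : ℕ)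
    (W : ℕ → List ℕ) (hk : 0 < k) (h1 : ∀ b < k, bv s (row s V b) = wd (ops s G) (W b) x)
    (h2 : ∀ b, k ≤ b → bv s (row s V b) = 0) :
    ∀ b < k + prog.length, bv s (row s (build s G prog k V) b) = wd (ops s G) (wrds prog k W b) x := by
  induction prog generalizing k V W with
  | nil => exact h1
  | cons p prog ih =>
    have e0 : build s G (p :: prog) k V = build s G prog (k + 1) (V ^^^ (actJ G p.2 (row s V (p.1 % k)) <<< (s * k))) := by
      show force (row s V (p.1 % k)) (fun x => force (V ^^^ (actJ G p.2 x <<< (s * k))) fun V' =>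
        force (k + 1) fun k' => build s G prog k' V') = _
      rw [force_eq, force_eq, force_eq]
    have e1 : wrds (p :: prog) k W = wrds prog (k + 1) (Function.update W k (p.2 :: W (p.1 % k))) := rfl
    obtain ⟨a1, a2⟩ := actJ_spec hG p.2 (sm_row s V (p.1 % k))
    intro b hb
    rw [e0, e1]
    refine ih (k + 1) _ _ (Nat.succ_pos k) (fun b hb => ?_) (fun b hb => ?_) b (by rw [List.length_cons] at hb; omega)
    · rw [bv_row_xor, bv_row_shift a1]
      by_cases e : b = k
      · rw [if_pos e, e, h2 k le_rfl, zero_add, Function.update_self, wd_cons_apply, a2, h1 _ (Nat.mod_lt _ hk)]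
      · rw [if_neg e, add_zero, Function.update_of_ne e, h1 b (by omega)]
    · rw [bv_row_xor, bv_row_shift a1, if_neg (by omega), add_zero, h2 b (by omega)]

theorem build_spec {s : ℕ} {G : List (List (ℕ × ℕ))} (hG : wfG s G = true) {x : ℕ} (hx : Sm s x) (prog : List (ℕ × ℕ))
    {b : ℕ} (hb : b ≤ prog.length) :
    bv s (row s (build s G prog 1 x) b) = wd (ops s G) (wrds prog 1 (fun _ => []) b) (bv s x) := by
  have e : ∀ b, bv s (row s x b) = if b = 0 then bv s x else 0 := fun b => bv_row_shift hx 0 b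
  refine build_aux hG _ prog 1 x _ one_pos (fun b hb => ?_) (fun b hb => ?_) b (by omega)
  · rw [e, if_pos (by omega)]; rfl
  · rw [e, if_neg (by omega)]

theorem sm_one {n : ℕ} (h : 0 < n) : Sm n 1 := sm_two_pow h

/-- the first basis vector generates the space -/
noncomputable def spinOk (n : ℕ) (G : List (List (ℕ × ℕ))) (prog : List (ℕ × ℕ)) : Bool :=
  Nat.beq n (Nat.succ prog.length) && Nat.beq (force (build n G prog 1 1) fun V => rkF n (row n V)) n

theorem spin_sound {n : ℕ} {G : List (List (ℕ × ℕ))} (hG : wfG n G = true) {prog : List (ℕ × ℕ)}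
    (h : spinOk n G prog = true) {W : Submodule F2 (X n)} (hW : Inv (ops n G) W) (hx : bv n 1 ∈ W) : W = ⊤ := by
  rw [spinOk, Bool.and_eq_true, force_eq] at h
  have h1 : n = prog.length + 1 := Nat.eq_of_beq_eq_true h.1
  have h2 := Nat.eq_of_beq_eq_true h.2
  have h3 := rkF_le (ext0 n ∘ₗ W.subtype) (m := n) (f := row n (build n G prog 1 1)) fun a ha => by
    have e := build_spec hG (sm_one (by omega)) prog (b := a) (by omega)
    refine ⟨⟨_, e ▸ hW.wd _ hx⟩, ?_⟩
    rw [LinearMap.comp_apply, Submodule.subtype_apply, ext0_bv (sm_row _ _ _)]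
  apply Submodule.eq_top_of_finrank_eq
  have h4 := Submodule.finrank_le W
  rw [Module.finrank_fin_fun] at h4 ⊢
  omega

theorem dspin_sound {n : ℕ} {G : List (List (ℕ × ℕ))} (hG : wfG n G = true) {prog : List (ℕ × ℕ)}
    (h : spinOk n (trG G) prog = true) {W : Submodule F2 (X n)} (hW : Inv (ops n G) W) (hx : ∀ v ∈ W, co n 0 v = 0) :
    W = ⊥ := by
  let W' : Submodule F2 (X n) :=
    { carrier := {c | ∀ v ∈ W, c ⬝ᵥ v = 0}
      zero_mem' := fun v _ => zero_dotProduct v
      add_mem' := fun {a b} ha hb v hv => by rw [add_dotProduct, ha v hv, hb v hv, add_zero]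
      smul_mem' := fun c a ha v hv => by rw [smul_dotProduct, ha v hv, smul_zero] }
  have h1 : W' = ⊤ := spin_sound (wfG_tr hG) h (fun j c hc v hv => by rw [ops_tr]; exact hc _ (hW j v hv))
    fun v hv => by
      have e := co_eq_dot (k := 0) v
      rw [pow_zero] at e
      exact e.symm.trans (hx v hv)
  rw [eq_bot_iff]
  intro v hv
  rw [Submodule.mem_bot]
  funext i
  have : Pi.single i 1 ∈ W' := h1 ▸ Submodule.mem_top
  have := this v hv
  rw [single_one_dotProduct] at this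
  exact this

/-- the products of a vector with all rows of a table -/
noncomputable def dotRow (V c s : ℕ) : ℕ :=
  Nat.rec (motive := fun _ => ℕ) 0 (fun i ih => Bool.rec ih (Nat.xor (Nat.shiftRight V i) ih) (tb c i)) s

theorem bt_dotRow (V c s t : ℕ) : bt (dotRow V c s) t = ∑ i ∈ Finset.range s, bt c i * bt V (i + t) := by
  induction s with
  | zero => exact bt_zero t
  | succ s ih =>
    have e0 : dotRow V c (s + 1) = Bool.rec (motive := fun _ => ℕ) (dotRow V c s) ((V >>> s) ^^^ dotRow V c s) (tb c s) := rfl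
    rw [e0, tb_eq, Finset.sum_range_succ]
    cases e : c.testBit s with
    | false => rw [bt_false e, zero_mul, add_zero]; exact ih
    | true => rw [bt_true e, one_mul, add_comm _ (bt V _), ← bt_shiftRight, ← ih, ← bt_xor]

theorem bt_dotRow_slot (V c s b : ℕ) : bt (dotRow V c s) (s * b) = bv s c ⬝ᵥ bv s (row s V b) := by
  rw [bt_dotRow, dotProduct, Finset.sum_range]
  refine Finset.sum_congr rfl fun i _ => ?_
  rw [bv, bv, bt_row, if_pos i.2, add_comm]

/-- the first bits of the slots -/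
noncomputable def rep (s B : ℕ) : ℕ → ℕ :=
  Nat.rec (motive := fun _ => ℕ → ℕ) (fun acc => acc) (fun b ih acc => force (Nat.xor acc (Nat.pow 2 (Nat.mul s b))) ih) B

theorem bt_rep (s B acc t : ℕ) (h : bt (rep s B acc) t ≠ bt acc t) : ∃ b < B, t = s * b := by
  induction B generalizing acc with
  | zero => exact absurd rfl h
  | succ B ih =>
    have e0 : rep s (B + 1) acc = rep s B (acc ^^^ 2 ^ (s * B)) := force_eq _ _
    by_cases e : s * B = t
    · exact ⟨B, Nat.lt_succ_self B, e.symm⟩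
    · rw [e0] at h
      obtain ⟨b, hb, e'⟩ := ih (acc ^^^ 2 ^ (s * B)) (by rw [bt_xor, bt_two_pow, if_neg e, add_zero]; exact h)
      exact ⟨b, by omega, e'⟩

/-- evaluate the tables of covectors and vectors first -/
noncomputable def prepK (s : ℕ) (pc pv : List (ℕ × ℕ)) (k : List (ℕ × ℕ) → ℕ) (Gs : List (List (List (ℕ × ℕ)))) :
    List (ℕ × ℕ) → ℕ :=
  List.rec (motive := fun _ => List (ℕ × ℕ) → ℕ) k
    (fun G _ ih acc => force (build s (trG G) pc 1 1) fun C => force (build s G pv 1 1) fun V => ih ((C, V) :: acc)) Gs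

theorem prepK_eq (s : ℕ) (pc pv : List (ℕ × ℕ)) (k : List (ℕ × ℕ) → ℕ) (Gs : List (List (List (ℕ × ℕ))))
    (acc : List (ℕ × ℕ)) :
    prepK s pc pv k Gs acc = k ((Gs.map fun G => (build s (trG G) pc 1 1, build s G pv 1 1)).reverse ++ acc) := by
  induction Gs generalizing acc with
  | nil => rfl
  | cons x l ih =>
    rw [List.map_cons, List.reverse_cons, List.append_assoc, ← ih]
    show force (build s (trG x) pc 1 1) (fun C => force (build s x pv 1 1) fun V => prepK s pc pv k l ((C, V) :: acc)) = _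
    rw [force_eq, force_eq]; rfl

/-- a row of the matrix of products -/
noncomputable def rowA (s R : ℕ) (CV : List (ℕ × ℕ)) (a : ℕ) : ℕ :=
  List.rec (motive := fun _ => ℕ) R (fun p _ ih => Nat.land (force (row s p.1 a) fun c => dotRow p.2 c s) ih) CV

theorem bt_rowA (s R : ℕ) (CV : List (ℕ × ℕ)) (a t : ℕ) :
    bt (rowA s R CV a) t = (CV.map fun p => bt (dotRow p.2 (row s p.1 a) s) t).prod * bt R t := by
  induction CV with
  | nil => exact (one_mul _).symm
  | cons p CV ih =>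
    rw [List.map_cons, List.prod_cons, mul_assoc, ← ih, ← bt_and, ← force_eq (row s p.1 a) fun c => dotRow p.2 c s]
    rfl

/-- the rank of the matrix of products of matrix coefficients -/
noncomputable def bigRk (s : ℕ) (Gs : List (List (List (ℕ × ℕ)))) (pc pv : List (ℕ × ℕ)) : ℕ :=
  force (rep s (Nat.succ pv.length) 0) fun R => prepK s pc pv (fun CV => rkF (Nat.succ pc.length) (rowA s R CV)) Gs []

theorem bigRk_le {s : ℕ} (hs : 0 < s) {Gs : List (List (List (ℕ × ℕ)))} (hG : ∀ G ∈ Gs, wfG s G = true)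
    (pc pv : List (ℕ × ℕ)) {M : Type*} [AddCommGroup M] [Module F2 M] [FiniteDimensional F2 M] (a : ℕ → End F2 M) (m : M)
    (l : M →ₗ[F2] F2) (h : ∀ w, l (wd a w m) = (Gs.map fun G => co s 0 (wd (ops s G) w (bv s 1))).prod) :
    bigRk s Gs pc pv ≤ finrank F2 M := by
  rw [bigRk, force_eq, prepK_eq, List.append_nil, ← Subspace.dual_finrank_eq]
  let Θ : Dual F2 M →ₗ[F2] (ℕ → F2) := LinearMap.pi fun t => bt (rep s (pv.length + 1) 0) t •
    Dual.eval F2 M (wd a (wrds pv 1 (fun _ => []) (t / s)) m)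
  refine rkF_le Θ fun i hi => ⟨l ∘ₗ wd a (wrds pc 1 (fun _ => []) i).reverse, funext fun t => ?_⟩
  show bt (rep s (pv.length + 1) 0) t * l (wd a _ (wd a _ m)) = bt _ t
  rw [bt_rowA, mul_comm]
  by_cases e : bt (rep s (pv.length + 1) 0) t = bt 0 t
  · rw [e, bt_zero, mul_zero, mul_zero]
  · obtain ⟨b, hb, rfl⟩ := bt_rep _ _ _ _ e
    refine congrArg (· * _) ?_
    rw [Nat.mul_div_cancel_left b hs, ← wd_append_apply, h, List.map_reverse, List.prod_reverse, List.map_map]
    refine congrArg List.prod (List.map_congr_left fun G hG' => ?_)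
    rw [Function.comp_apply, bt_dotRow_slot, build_spec (wfG_tr (hG G hG')) (sm_one hs) pc (by omega),
      build_spec (hG G hG') (sm_one hs) pv (by omega), wd_tr, ← wd_append_apply, co_eq_dot]
    rfl

end Cfsg.Agent.E82.Mach
end

-- part: E82/Mach/Weight
section
/-!
# The pressure machine: weight vectors (helper38)

The letters `0, …, nb - 1` are the negative root elements (the first `r` are the simple ones), the letters
`nb, …, nb + r - 1` are the simple positive root elements.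

* `WV`, `PM` : weight vectors; `gen` : a weight vector generates under the negative root elements;
* `PM.coef`, `PM.iso` : uniqueness; `PM.ten` : tensor products; `exists_pm` : existence.
-/

set_option autoImplicit false

namespace Cfsg.Agent.E82.Mach

open Module

section Gen

variable {V V' : Type*} [AddCommGroup V] [Module F2 V] [AddCommGroup V'] [Module F2 V']

/-- the subspace generated by `S` under the letters in `A` -/
def sp (a : ℕ → End F2 V) (A : ℕ → Prop) (S : Set V) : Submodule F2 V :=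
  sInf {W | S ⊆ W ∧ ∀ j, A j → ∀ v ∈ W, a j v ∈ W}

theorem sp_le {a : ℕ → End F2 V} {A : ℕ → Prop} {S : Set V} {W : Submodule F2 V} (h1 : S ⊆ W)
    (h2 : ∀ j, A j → ∀ v ∈ W, a j v ∈ W) : sp a A S ≤ W := sInf_le ⟨h1, h2⟩

theorem mem_sp {a : ℕ → End F2 V} {A : ℕ → Prop} {S : Set V} {v : V} (h : v ∈ S) : v ∈ sp a A S :=
  Submodule.mem_sInf.2 fun _ hW => hW.1 h

theorem sp_inv {a : ℕ → End F2 V} {A : ℕ → Prop} {S : Set V} {j : ℕ} (hj : A j) {v : V} (h : v ∈ sp a A S) :
    a j v ∈ sp a A S :=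
  Submodule.mem_sInf.2 fun W hW => hW.2 j hj v (Submodule.mem_sInf.1 h W hW)

theorem sp_wd {a : ℕ → End F2 V} {A : ℕ → Prop} {S : Set V} {w : List ℕ} (hw : ∀ j ∈ w, A j) {v : V} (h : v ∈ sp a A S) :
    wd a w v ∈ sp a A S := by
  induction w with
  | nil => exact h
  | cons j w ih =>
    rw [wd_cons_apply]
    exact sp_inv (hw j List.mem_cons_self) (ih fun i hi => hw i (List.mem_cons_of_mem _ hi))

theorem sp_norm {a : ℕ → End F2 V} {A : ℕ → Prop} {S : Set V} {g : End F2 V}
    (h1 : ∀ j, A j → ∃ y : List ℕ, (∀ t ∈ y, A t) ∧ ∀ v, g (a j v) = wd a y (g v)) (h2 : ∀ s ∈ S, g s ∈ sp a A S) {v : V}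
    (h : v ∈ sp a A S) : g v ∈ sp a A S := by
  refine sp_le (W := (sp a A S).comap g) h2 (fun j hj v hv => ?_) h
  obtain ⟨y, hy, e⟩ := h1 j hj
  rw [Submodule.mem_comap, e]
  exact sp_wd hy hv

/-- the operators on the direct sum -/
def prodOp (a : ℕ → End F2 V) (b : ℕ → End F2 V') : ℕ → End F2 (V × V') := fun j => (a j).prodMap (b j)

theorem wd_prodOp (a : ℕ → End F2 V) (b : ℕ → End F2 V') (w : List ℕ) (p : V × V') :
    wd (prodOp a b) w p = (wd a w p.1, wd b w p.2) := by
  induction w with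
  | nil => rfl
  | cons j w ih => rw [wd_cons_apply, ih]; rfl

/-- an invariant subspace of the direct sum that is a graph -/
theorem iso_of_graph {a : ℕ → End F2 V} {b : ℕ → End F2 V'} {N : Submodule F2 (V × V')} (hN : Inv (prodOp a b) N)
    (h1 : N.map (LinearMap.fst F2 V V') = ⊤) (h2 : N.map (LinearMap.snd F2 V V') = ⊤)
    (h3 : N.comap (LinearMap.inl F2 V V') = ⊥) (h4 : N.comap (LinearMap.inr F2 V V') = ⊥) :
    ∃ e : V ≃ₗ[F2] V', Hom a b e ∧ ∀ p ∈ N, e p.1 = p.2 := by
  have b1 : Function.Bijective (Prod.fst ∘ N.subtype) := by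
    refine ⟨fun p q h => ?_, fun v => ?_⟩
    · have h' : (p : V × V').1 = (q : V × V').1 := h
      have e : (p : V × V').2 - (q : V × V').2 ∈ N.comap (LinearMap.inr F2 V V') := by
        have := N.sub_mem p.2 q.2
        rw [show (p : V × V') - (q : V × V') = (0, (p : V × V').2 - (q : V × V').2) from Prod.ext (sub_eq_zero.2 h') rfl] at this
        exact this
      rw [h4, Submodule.mem_bot] at e
      exact Subtype.ext (Prod.ext h' (sub_eq_zero.1 e))
    · obtain ⟨p, hp, e⟩ : v ∈ N.map (LinearMap.fst F2 V V') := h1 ▸ Submodule.mem_top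
      exact ⟨⟨p, hp⟩, e⟩
  have b2 : Function.Bijective (Prod.snd ∘ N.subtype) := by
    refine ⟨fun p q h => ?_, fun v => ?_⟩
    · have h' : (p : V × V').2 = (q : V × V').2 := h
      have e : (p : V × V').1 - (q : V × V').1 ∈ N.comap (LinearMap.inl F2 V V') := by
        have := N.sub_mem p.2 q.2
        rw [show (p : V × V') - (q : V × V') = ((p : V × V').1 - (q : V × V').1, 0) from Prod.ext rfl (sub_eq_zero.2 h')] at this
        exact this
      rw [h3, Submodule.mem_bot] at e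
      exact Subtype.ext (Prod.ext (sub_eq_zero.1 e) h')
    · obtain ⟨p, hp, e⟩ : v ∈ N.map (LinearMap.snd F2 V V') := h2 ▸ Submodule.mem_top
      exact ⟨⟨p, hp⟩, e⟩
  obtain ⟨e, he⟩ := Submodule.exists_equiv_eq_graph b1 b2
  have h5 : ∀ p ∈ N, e p.1 = p.2 := fun p hp => by
    rw [he, LinearMap.mem_graph_iff] at hp
    exact hp.symm
  refine ⟨e, fun j v => ?_, h5⟩
  have h6 : (v, e v) ∈ N := by rw [he, LinearMap.mem_graph_iff]; rfl
  exact h5 _ (hN j _ h6)

/-- the operators on the tensor product -/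
noncomputable def tenOp (a : ℕ → End F2 V) (b : ℕ → End F2 V') : ℕ → End F2 (TensorProduct F2 V V') :=
  fun j => TensorProduct.map (a j) (b j)

theorem wd_tenOp (a : ℕ → End F2 V) (b : ℕ → End F2 V') (w : List ℕ) :
    wd (tenOp a b) w = TensorProduct.map (wd a w) (wd b w) := by
  induction w with
  | nil => exact TensorProduct.map_one.symm
  | cons j w ih => rw [wd_cons, wd_cons, wd_cons, TensorProduct.map_mul, ih]; rfl

/-- the product of two functionals -/
noncomputable def tenL (l : V →ₗ[F2] F2) (l' : V' →ₗ[F2] F2) : TensorProduct F2 V V' →ₗ[F2] F2 :=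
  (TensorProduct.lid F2 F2).toLinearMap ∘ₗ TensorProduct.map l l'

theorem tenL_tmul (l : V →ₗ[F2] F2) (l' : V' →ₗ[F2] F2) (x : V) (y : V') : tenL l l' (x ⊗ₜ y) = l x * l' y := rfl

end Gen

/-- the data of a type -/
structure Ty where
  /-- the rank -/
  r : ℕ
  /-- the number of negative roots -/
  nb : ℕ
  /-- the conjugates of the negative root elements under the simple positive and negative root elements -/
  nrm : List (List (List ℕ × List ℕ))

/-- the conjugates of the letter `t` -/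
def Ty.y (ty : Ty) (i t : ℕ) : List ℕ × List ℕ := (ty.nrm.getD i []).getD t ([], [])

/-- the relations that are used -/
def Ty.rels (ty : Ty) : List (List ℕ × List ℕ) :=
  (List.range ty.r).flatMap fun i => ([i, i], []) :: ((List.range ty.nb).filter (· != i)).flatMap fun t =>
    [([ty.nb + i, t], (ty.y i t).1 ++ [ty.nb + i]), ([i, t], (ty.y i t).2 ++ [i])]

/-- the conjugates are words in the other negative root elements -/
def Ty.syn (ty : Ty) : Bool :=
  Nat.ble ty.r ty.nb && (List.range ty.r).all fun i => (List.range ty.nb).all fun t =>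
    ((ty.y i t).1 ++ (ty.y i t).2).all fun j => Nat.blt j ty.nb && j != i

section PM

variable {V V' : Type*} [AddCommGroup V] [Module F2 V] [AddCommGroup V'] [Module F2 V']

/-- a vector of weight `J` -/
structure WV (ty : Ty) (J : ℕ) (a : ℕ → End F2 V) (x : V) : Prop where
  rel : ∀ p ∈ ty.rels, wd a p.1 = wd a p.2
  out : ∀ j, ty.nb + ty.r ≤ j → a j = 0
  fix : ∀ i < ty.r, a (ty.nb + i) x = x
  wt1 : ∀ i < ty.r, J.testBit i = true → a (ty.nb + i) (a i x) = x + a i x
  wt0 : ∀ i < ty.r, J.testBit i = false → a i x = x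

theorem Ty.mem_sq (ty : Ty) {i : ℕ} (hi : i < ty.r) : ([i, i], []) ∈ ty.rels :=
  List.mem_flatMap.2 ⟨i, List.mem_range.2 hi, List.mem_cons_self⟩

theorem Ty.mem_u (ty : Ty) {i t : ℕ} (hi : i < ty.r) (ht : t < ty.nb) (h : t ≠ i) :
    ([ty.nb + i, t], (ty.y i t).1 ++ [ty.nb + i]) ∈ ty.rels :=
  List.mem_flatMap.2 ⟨i, List.mem_range.2 hi, List.mem_cons_of_mem _ (List.mem_flatMap.2
    ⟨t, List.mem_filter.2 ⟨List.mem_range.2 ht, bne_iff_ne.2 h⟩, List.mem_cons_self⟩)⟩

theorem Ty.mem_v (ty : Ty) {i t : ℕ} (hi : i < ty.r) (ht : t < ty.nb) (h : t ≠ i) :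
    ([i, t], (ty.y i t).2 ++ [i]) ∈ ty.rels :=
  List.mem_flatMap.2 ⟨i, List.mem_range.2 hi, List.mem_cons_of_mem _ (List.mem_flatMap.2
    ⟨t, List.mem_filter.2 ⟨List.mem_range.2 ht, bne_iff_ne.2 h⟩, List.mem_cons_of_mem _ List.mem_cons_self⟩)⟩

theorem Ty.syn_le {ty : Ty} (h : ty.syn = true) : ty.r ≤ ty.nb := by
  rw [Ty.syn, Bool.and_eq_true, Nat.ble_eq] at h; exact h.1

theorem Ty.syn_y {ty : Ty} (h : ty.syn = true) {i t : ℕ} (hi : i < ty.r) (ht : t < ty.nb) :
    ∀ j ∈ (ty.y i t).1 ++ (ty.y i t).2, j < ty.nb ∧ j ≠ i := fun j hj => by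
  rw [Ty.syn, Bool.and_eq_true] at h
  have := List.all_eq_true.1 (List.all_eq_true.1 (List.all_eq_true.1 h.2 i (List.mem_range.2 hi)) t (List.mem_range.2 ht)) j hj
  rwa [Bool.and_eq_true, Nat.blt_eq, bne_iff_ne] at this

/-- a weight vector generates an invariant subspace under the negative root elements -/
theorem gen {ty : Ty} (hs : ty.syn = true) {J : ℕ} {a : ℕ → End F2 V} {x : V} (h : WV ty J a x) :
    Inv a (sp a (· < ty.nb) {x}) := by
  intro j v hv
  by_cases h1 : j < ty.nb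
  · exact sp_inv (A := (· < ty.nb)) h1 hv
  by_cases h2 : ty.nb + ty.r ≤ j
  · rw [h.out j h2]; exact zero_mem _
  obtain ⟨i, rfl⟩ : ∃ i, j = ty.nb + i := ⟨j - ty.nb, by omega⟩
  have hi : i < ty.r := by omega
  have hi' : i < ty.nb := lt_of_lt_of_le hi (Ty.syn_le hs)
  have m1 : x ∈ sp a (fun t => t < ty.nb ∧ t ≠ i) {x, a i x} := mem_sp (Set.mem_insert _ _)
  have m2 : a i x ∈ sp a (fun t => t < ty.nb ∧ t ≠ i) {x, a i x} := mem_sp (Set.mem_insert_of_mem _ rfl)
  have n1 : ∀ v ∈ sp a (fun t => t < ty.nb ∧ t ≠ i) {x, a i x}, a i v ∈ sp a (fun t => t < ty.nb ∧ t ≠ i) {x, a i x} := by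
    intro v hv
    refine sp_norm (fun t ht => ⟨(ty.y i t).2, fun j hj => Ty.syn_y hs hi ht.1 j (List.mem_append_right _ hj), fun v => ?_⟩)
      ?_ hv
    · have := LinearMap.congr_fun (h.rel _ (ty.mem_v hi ht.1 ht.2)) v
      rwa [wd_append_apply, wd_cons_apply, wd_single, wd_single] at this
    · rintro s (rfl | rfl)
      · exact m2
      · have := LinearMap.congr_fun (h.rel _ (ty.mem_sq hi)) x
        rw [wd_cons_apply, wd_single, wd_nil_apply] at this
        rw [this]; exact m1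
  have n2 : ∀ v ∈ sp a (fun t => t < ty.nb ∧ t ≠ i) {x, a i x},
      a (ty.nb + i) v ∈ sp a (fun t => t < ty.nb ∧ t ≠ i) {x, a i x} := by
    intro v hv
    refine sp_norm (fun t ht => ⟨(ty.y i t).1, fun j hj => Ty.syn_y hs hi ht.1 j (List.mem_append_left _ hj), fun v => ?_⟩)
      ?_ hv
    · have := LinearMap.congr_fun (h.rel _ (ty.mem_u hi ht.1 ht.2)) v
      rwa [wd_append_apply, wd_cons_apply, wd_single, wd_single] at this
    · rintro s (rfl | rfl)
      · rw [h.fix i hi]; exact m1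
      · cases e : J.testBit i with
        | false => rw [(congrArg (a (ty.nb + i)) (h.wt0 i hi e)).trans (h.fix i hi)]; exact m1
        | true => rw [h.wt1 i hi e]; exact add_mem m1 m2
  have l1 : sp a (· < ty.nb) {x} ≤ sp a (fun t => t < ty.nb ∧ t ≠ i) {x, a i x} := by
    refine sp_le (Set.singleton_subset_iff.2 m1) fun t ht v hv => ?_
    by_cases e : t = i
    · rw [e]; exact n1 v hv
    · exact sp_inv (A := fun t => t < ty.nb ∧ t ≠ i) ⟨ht, e⟩ hv
  have l2 : sp a (fun t => t < ty.nb ∧ t ≠ i) {x, a i x} ≤ sp a (· < ty.nb) {x} := by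
    refine sp_le ?_ fun t ht v hv => sp_inv (A := (· < ty.nb)) ht.1 hv
    rintro s (rfl | rfl)
    · exact mem_sp rfl
    · exact sp_inv (A := (· < ty.nb)) hi' (mem_sp rfl)
  exact l2 (n2 v (l1 hv))

theorem WV.prod {ty : Ty} {J : ℕ} {a : ℕ → End F2 V} {b : ℕ → End F2 V'} {x : V} {y : V'} (h : WV ty J a x)
    (h' : WV ty J b y) : WV ty J (prodOp a b) (x, y) where
  rel p hp := LinearMap.ext fun q => by rw [wd_prodOp, wd_prodOp, h.rel p hp, h'.rel p hp]
  out j hj := by rw [prodOp, h.out j hj, h'.out j hj, LinearMap.prodMap_zero]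
  fix i hi := Prod.ext (h.fix i hi) (h'.fix i hi)
  wt1 i hi e := Prod.ext (h.wt1 i hi e) (h'.wt1 i hi e)
  wt0 i hi e := Prod.ext (h.wt0 i hi e) (h'.wt0 i hi e)

/-- a vector of weight `J` with an invariant functional -/
structure PM (ty : Ty) (J : ℕ) (a : ℕ → End F2 V) (x : V) (l : V →ₗ[F2] F2) : Prop extends WV ty J a x where
  inv : ∀ j < ty.nb, ∀ v, l (a j v) = l v
  one : l x = 1

theorem PM.ker {ty : Ty} {J : ℕ} {a : ℕ → End F2 V} {b : ℕ → End F2 V'} {x : V} {y : V'} {l : V →ₗ[F2] F2}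
    {l' : V' →ₗ[F2] F2} (h : PM ty J a x l) (h' : PM ty J b y l') {p : V × V'}
    (hp : p ∈ sp (prodOp a b) (· < ty.nb) {(x, y)}) : l p.1 = l' p.2 := by
  have : sp (prodOp a b) (· < ty.nb) {(x, y)} ≤
      LinearMap.eqLocus (l ∘ₗ LinearMap.fst F2 V V') (l' ∘ₗ LinearMap.snd F2 V V') :=
    sp_le (Set.singleton_subset_iff.2 (h.one.trans h'.one.symm)) fun j hj q hq =>
      (h.inv j hj q.1).trans (Eq.trans hq (h'.inv j hj q.2).symm)
  exact this hp

/-- the matrix coefficient depends on the weight only -/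
theorem PM.coef {ty : Ty} (hs : ty.syn = true) {J : ℕ} {a : ℕ → End F2 V} {b : ℕ → End F2 V'} {x : V} {y : V'}
    {l : V →ₗ[F2] F2} {l' : V' →ₗ[F2] F2} (h : PM ty J a x l) (h' : PM ty J b y l') (w : List ℕ) :
    l (wd a w x) = l' (wd b w y) := by
  have := h.ker h' ((gen hs (h.toWV.prod h'.toWV)).wd w (mem_sp rfl))
  rwa [wd_prodOp] at this

/-- the vector generates, the functional cogenerates -/
def Irr (a : ℕ → End F2 V) (x : V) (l : V →ₗ[F2] F2) : Prop :=
  (∀ W, Inv a W → x ∈ W → W = ⊤) ∧ ∀ W, Inv a W → (∀ v ∈ W, l v = 0) → W = ⊥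

theorem Simple.irr {a : ℕ → End F2 V} (h : Simple a) {x : V} {l : V →ₗ[F2] F2} (e : l x = 1) : Irr a x l := by
  refine ⟨fun W hW hx => (h.2 W hW).resolve_left fun e' => ?_, fun W hW hl => (h.2 W hW).resolve_right fun e' => ?_⟩
  · rw [e', Submodule.mem_bot] at hx
    rw [hx, map_zero] at e
    exact zero_ne_one e
  · exact zero_ne_one ((hl x (e' ▸ Submodule.mem_top)).symm.trans e)

theorem PM.iso {ty : Ty} (hs : ty.syn = true) {J : ℕ} {a : ℕ → End F2 V} {b : ℕ → End F2 V'} {x : V} {y : V'}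
    {l : V →ₗ[F2] F2} {l' : V' →ₗ[F2] F2} (h : PM ty J a x l) (h' : PM ty J b y l') (hi : Irr a x l) (hi' : Irr b y l') :
    ∃ e : V ≃ₗ[F2] V', Hom a b e := by
  have hN := gen hs (h.toWV.prod h'.toWV)
  have hm : (x, y) ∈ sp (prodOp a b) (· < ty.nb) {(x, y)} := mem_sp rfl
  obtain ⟨e, he, -⟩ := iso_of_graph hN (hi.1 _ (hN.map (b := a) fun _ _ => rfl) ⟨_, hm, rfl⟩)
    (hi'.1 _ (hN.map (b := b) fun _ _ => rfl) ⟨_, hm, rfl⟩)
    (hi.2 _ (hN.comap (a := a) fun j v => Prod.ext rfl (map_zero (b j)).symm) fun v hv => (h.ker h' hv).trans (map_zero l'))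
    (hi'.2 _ (hN.comap (a := b) fun j v => Prod.ext (map_zero (a j)).symm rfl) fun v hv =>
      (h.ker h' hv).symm.trans (map_zero l))
  exact ⟨e, he⟩

theorem PM.ten {ty : Ty} {J J' : ℕ} (hJ : J &&& J' = 0) {a : ℕ → End F2 V} {b : ℕ → End F2 V'} {x : V} {y : V'}
    {l : V →ₗ[F2] F2} {l' : V' →ₗ[F2] F2} (h : PM ty J a x l) (h' : PM ty J' b y l') :
    PM ty (J ||| J') (tenOp a b) (x ⊗ₜ y) (tenL l l') where
  rel p hp := by rw [wd_tenOp, wd_tenOp, h.rel p hp, h'.rel p hp]
  out j hj := by rw [tenOp, h.out j hj, TensorProduct.map_zero_left]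
  fix i hi := by rw [tenOp, TensorProduct.map_tmul, h.fix i hi, h'.fix i hi]
  wt1 i hi e := by
    have e0 : (J &&& J').testBit i = false := by rw [hJ, Nat.zero_testBit]
    rw [Nat.testBit_and] at e0
    rw [Nat.testBit_or] at e
    rw [tenOp, tenOp, TensorProduct.map_tmul, TensorProduct.map_tmul]
    cases e1 : J.testBit i with
    | false =>
      rw [e1, Bool.false_or] at e
      rw [h.wt0 i hi e1, h.fix i hi, h'.wt1 i hi e, TensorProduct.tmul_add]
    | true =>
      rw [e1, Bool.true_and] at e0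
      rw [h'.wt0 i hi e0, h'.fix i hi, h.wt1 i hi e1, TensorProduct.add_tmul]
  wt0 i hi e := by
    rw [Nat.testBit_or, Bool.or_eq_false_iff] at e
    rw [tenOp, TensorProduct.map_tmul, h.wt0 i hi e.1, h'.wt0 i hi e.2]
  inv j hj v := by
    induction v using TensorProduct.induction_on with
    | zero => rw [map_zero]
    | tmul p q => rw [tenOp, TensorProduct.map_tmul, tenL_tmul, tenL_tmul, h.inv j hj, h'.inv j hj]
    | add p q hp hq => rw [map_add, map_add, map_add, hp, hq]
  one := by rw [tenL_tmul, h.one, h'.one, mul_one]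

end PM

/-- the certificates for the existence of a weight vector -/
structure Ex where
  /-- the chain of the positive root elements -/
  cpos : List (List ℕ × List ℕ × List (List ℕ))
  /-- the chain of the negative root elements -/
  cneg : List (List ℕ × List ℕ × List (List ℕ))
  /-- the operators preserve the fixed space -/
  stab : List (List (List (List ℕ × List ℕ × List ℕ)))
  /-- the relations of the operators -/
  rules : List ((List ℕ × List ℕ) × List (List ℕ × List ℕ × List ℕ))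
  /-- the normal forms -/
  tab : List (List ℕ × List (ℕ × ℕ))

section Ex

variable {V : Type*} [AddCommGroup V] [Module F2 V]

/-- the operators `(1 + u) v` -/
def Ty.T (ty : Ty) (a : ℕ → End F2 V) : ℕ → End F2 V := fun i => if i < ty.r then a i + a (ty.nb + i) * a i else 1

/-- the expansion of a word in the operators -/
noncomputable def Ty.exp (ty : Ty) (w : List ℕ) : List (List ℕ) :=
  List.rec (motive := fun _ => List (List ℕ)) [[]]
    (fun i _ ih => cond (Nat.blt i ty.r) (ih.map ([i] ++ ·) ++ ih.map ([ty.nb + i, i] ++ ·)) ih) w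

theorem Ty.wd_T (ty : Ty) (a : ℕ → End F2 V) (w : List ℕ) (v : V) : wd (ty.T a) w v = sumW a (ty.exp w) v := by
  induction w with
  | nil => exact (add_zero v).symm
  | cons i w ih =>
    have e : ty.exp (i :: w) = cond (Nat.blt i ty.r) ((ty.exp w).map ([i] ++ ·) ++ (ty.exp w).map ([ty.nb + i, i] ++ ·))
      (ty.exp w) := rfl
    rw [wd_cons_apply, ih, e, Ty.T]
    by_cases hi : i < ty.r
    · rw [if_pos hi, Nat.blt_eq.mpr hi, cond_true, sumW_append, sumW_map, sumW_map, wd_single, wd_cons_apply, wd_single]; rfl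
    · rw [if_neg hi, Bool.eq_false_iff.2 fun h => hi (Nat.blt_eq.mp h), cond_false]; rfl

/-- the check of the certificates -/
noncomputable def exOk (ok : List ℕ → List ℕ → Bool) (ty : Ty) (ex : Ex) : Bool :=
  ty.syn && (ty.rels.all fun p => ok p.1 p.2) && chainOk ok ex.cpos &&
    chainOk (fun w w' => ok w.reverse w'.reverse) ex.cneg &&
    ((List.range ty.nb).all fun j => (ex.cneg.map Prod.fst).contains [j]) &&
    ((List.range ty.r).all fun i => (ex.cpos.map Prod.fst).contains [ty.nb + i] &&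
      ok [ty.nb + i, i, ty.nb + i] [i, ty.nb + i, i] &&
      (List.range ex.cpos.length).all fun t => zeroOk ok (ex.cpos.map Prod.fst)
        ((ty.exp [i]).map ((ex.cpos.map Prod.fst).getD t [] ++ ·) ++ ty.exp [i]) ((ex.stab.getD i []).getD t [])) &&
    (ex.rules.all fun p => zeroOk ok (ex.cpos.map Prod.fst) (ty.exp p.1.1 ++ ty.exp p.1.2) p.2) &&
    tabOk ty.r (ex.rules.map Prod.fst) ex.tab

theorem exists_pm {ok : List ℕ → List ℕ → Bool} {ty : Ty} {ex : Ex} (h : exOk ok ty ex = true) {a : ℕ → End F2 V}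
    (ha : Good ok (ty.nb + ty.r) a) (hs : Simple a) : ∃ J < 2 ^ ty.r, ∃ x l, PM ty J a x l := by
  classical
  simp only [exOk, Bool.and_eq_true, List.all_eq_true, List.mem_range, List.contains_iff_mem] at h
  obtain ⟨⟨⟨⟨⟨⟨⟨h1, h2⟩, h3⟩, h4⟩, h5⟩, h6⟩, h7⟩, h8⟩ := h
  have hQ : ∀ i v, v ∈ FixL a (ex.cpos.map Prod.fst) → ty.T a i v ∈ FixL a (ex.cpos.map Prod.fst) := by
    intro i v hv y hy
    by_cases hi : i < ty.r
    · obtain ⟨t, ht, rfl⟩ := List.getElem_of_mem hy
      have e := zero_sound ha.rel ((h6 i hi).2 t (by rwa [List.length_map] at ht)) hv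
      rw [sumW_append, sumW_map, ← ty.wd_T, wd_single, List.getD_eq_getElem _ _ ht] at e
      exact eq_of_add_eq_zero' e
    · rw [Ty.T, if_neg hi]; exact hv y hy
  obtain ⟨v, hv, hv0⟩ := chain ha.rel hs.1 h3
  obtain ⟨m, hm, hm0, hT⟩ := eigen hQ (fun p hp v hv => by
    obtain ⟨q, hq, rfl⟩ := List.mem_map.1 hp
    have e := zero_sound ha.rel (h7 q hq) hv
    rw [sumW_append, ← ty.wd_T, ← ty.wd_T] at e
    exact Or.inl (eq_of_add_eq_zero' e)) h8 hv hv0
  have hfix : ∀ i < ty.r, a (ty.nb + i) m = m := fun i hi => by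
    have := hm _ (h6 i hi).1.1
    rwa [wd_single] at this
  have hW : WV ty (Nat.ofBits fun i : Fin ty.r => decide (ty.T a i m = m)) a m := by
    refine ⟨fun p hp => ha.rel _ _ (h2 p hp), ha.out, hfix, fun i hi e => ?_, fun i hi e => ?_⟩
    · rw [Nat.testBit_ofBits_lt _ _ hi, decide_eq_true_iff, Ty.T, if_pos hi, LinearMap.add_apply, End.mul_apply] at e
      rw [← sub_eq_add', eq_sub_iff_add_eq', e]
    · rw [Nat.testBit_ofBits_lt _ _ hi, decide_eq_false_iff_not] at e
      have e1 := (hT i hi).resolve_right e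
      rw [Ty.T, if_pos hi, LinearMap.add_apply, End.mul_apply] at e1
      have e2 := LinearMap.congr_fun (ha.rel _ _ (h6 i hi).1.2) m
      have e3 := LinearMap.congr_fun (ha.rel _ _ (h2 _ (ty.mem_sq hi))) m
      simp only [wd_cons_apply, wd_nil_apply] at e2 e3
      rw [hfix i hi, ← eq_of_add_eq_zero' e1, e3] at e2
      exact e2
  obtain ⟨l, hl0, hl⟩ := dchain ha.rel hs.1 h4
  have hinv : ∀ j < ty.nb, ∀ v, l (a j v) = l v := fun j hj v => by
    have := hl _ (h5 j hj) v
    rwa [List.reverse_singleton, wd_single] at this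
  refine ⟨_, Nat.ofBits_lt_two_pow _, m, l, hW, hinv, (f2_cases _).resolve_left fun e => hl0 ?_⟩
  have e1 : sp a (· < ty.nb) {m} = ⊤ := (hs.2 _ (gen h1 hW)).resolve_left fun e' =>
    hm0 ((Submodule.mem_bot F2).1 (e' ▸ mem_sp (a := a) (A := (· < ty.nb)) rfl))
  have e2 : sp a (· < ty.nb) {m} ≤ LinearMap.ker l :=
    sp_le (Set.singleton_subset_iff.2 e) fun j hj v hv => (hinv j hj v).trans hv
  rw [e1] at e2
  exact LinearMap.ext fun v => e2 Submodule.mem_top

end Ex

end Cfsg.Agent.E82.Mach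
end

-- part: E82/Mach/Main
section
/-!
# The pressure machine: the table of the simple families, the pressure inequality (helper38)
-/

set_option autoImplicit false

namespace Cfsg.Agent.E82.Mach

open Module

/-- the first basis vector has weight `J`, the first coordinate is invariant -/
noncomputable def pmOk (ty : Ty) (J n : ℕ) (G : List (List (ℕ × ℕ))) : Bool :=
  wfG n G && Nat.blt 0 n && Nat.beq G.length (ty.nb + ty.r) && (ty.rels.all fun p => okT n G p.1 p.2) &&
    ((List.range ty.r).all fun i => Nat.beq (actJ G (ty.nb + i) 1) 1 &&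
      cond (tb J i) (Nat.beq (actJ G (ty.nb + i) (actJ G i 1)) (Nat.xor 1 (actJ G i 1))) (Nat.beq (actJ G i 1) 1)) &&
    (List.range ty.nb).all fun j => Nat.beq (actJ (trG G) j 1) 1

theorem pm_sound {ty : Ty} {J n : ℕ} {G : List (List (ℕ × ℕ))} (h : pmOk ty J n G = true) :
    wfG n G = true ∧ 0 < n ∧ PM ty J (ops n G) (bv n 1) (co n 0) := by
  simp only [pmOk, Bool.and_eq_true, List.all_eq_true, List.mem_range, Nat.blt_eq, Nat.beq_eq] at h
  obtain ⟨⟨⟨⟨⟨h1, h2⟩, h3⟩, h4⟩, h5⟩, h6⟩ := h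
  have s1 := sm_one h2
  refine ⟨h1, h2, ⟨fun p hp => okT_sound h1 (h4 p hp), fun j hj => ops_out n G (h3 ▸ hj), fun i hi => ?_, fun i hi e => ?_,
    fun i hi e => ?_⟩, fun j hj v => ?_, ?_⟩
  · rw [← (actJ_spec h1 _ s1).2, (h5 i hi).1]
  · have := (h5 i hi).2
    rw [tb_eq, e, cond_true] at this
    rw [← (actJ_spec h1 i s1).2, ← (actJ_spec h1 _ (actJ_spec h1 i s1).1).2, Nat.eq_of_beq_eq_true this, ← bv_xor]; rfl
  · have := (h5 i hi).2
    rw [tb_eq, e, cond_false] at this
    rw [← (actJ_spec h1 i s1).2, Nat.eq_of_beq_eq_true this]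
  · rw [co_eq_dot, co_eq_dot, ← ops_tr, pow_zero, ← (actJ_spec (wfG_tr h1) j s1).2, h6 j hj]
  · rw [co_bv h2]; rfl

/-- the invariants of a simple family of weight `J` and dimension at most `d` -/
def Ent (ty : Ty) (C : Cls) (d J : ℕ) (row : List ℕ) (z : ℕ) : Prop :=
  ∀ (M : Type) [AddCommGroup M] [Module F2 M] [FiniteDimensional F2 M] (a : ℕ → End F2 M) (x : M) (l : M →ₗ[F2] F2),
    PM ty J a x l → Simple a → finrank F2 M ≤ d → (∀ k, C.f a k = row.getD (min k C.cl.length) 0) ∧ C.z a ≤ z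

/-- the dimensions of the fixed spaces -/
noncomputable def fixOk (C : Cls) (n : ℕ) (G : List (List (ℕ × ℕ))) (row : List ℕ) : Bool :=
  (List.range (C.cl.length + 1)).all fun k => Nat.beq (fxRk n G (C.cl.getD k ([], 1)).1 + row.getD k 0) n

theorem ent_small {ty : Ty} (hs : ty.syn = true) {C : Cls} (d : ℕ) {J n : ℕ} {G : List (List (ℕ × ℕ))}
    (h1 : pmOk ty J n G = true) {p1 p2 : List (ℕ × ℕ)} (h2 : spinOk n G p1 = true) (h3 : spinOk n (trG G) p2 = true)
    {row : List ℕ} (h4 : fixOk C n G row = true) {z : ℕ} (h5 : Nat.ble n (zRk n G C.g C.h C.R + z) = true) :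
    Ent ty C d J row z := by
  intro M _ _ _ a x l hM hS _
  obtain ⟨hG, -, hX⟩ := pm_sound h1
  obtain ⟨e, he⟩ := hM.iso hs hX (hS.irr hM.one) ⟨fun W hW hx => spin_sound hG h2 hW hx, fun W hW hx => dspin_sound hG h3 hW hx⟩
  refine ⟨fun k => ?_, ?_⟩
  · have e1 : C.cl.getD k ([], 1) = C.cl.getD (min k C.cl.length) ([], 1) := by
      rcases le_total k C.cl.length with h | h
      · rw [min_eq_left h]
      · rw [min_eq_right h, List.getD_eq_default _ _ h, List.getD_eq_default _ _ le_rfl]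
    have e2 := Nat.eq_of_beq_eq_true (List.all_eq_true.1 h4 (min k C.cl.length) (List.mem_range.2 (by omega)))
    have e3 := fxRk_eq hG (C.cl.getD (min k C.cl.length) ([], 1)).1
    rw [Cls.f, e1, finrank_Fx_equiv e (he.wd _)]
    omega
  · have e2 := zRk_le hG C.g C.h C.R
    have e3 := Nat.ble_eq.mp h5
    rw [Cls.z, finrank_Z0_equiv e (he.wd _) (he.wd _)]
    omega

theorem exists_ten {ty : Ty} {s : ℕ} (p : ℕ × List (List (ℕ × ℕ))) (l : List (ℕ × List (List (ℕ × ℕ))))
    (h : ∀ q ∈ p :: l, pmOk ty q.1 s q.2 = true) (hd : ((p :: l).map Prod.fst).Pairwise fun a b => a &&& b = 0) :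
    ∃ (Y : Type) (_ : AddCommGroup Y) (_ : Module F2 Y) (b : ℕ → End F2 Y) (y : Y) (l' : Y →ₗ[F2] F2),
      PM ty (((p :: l).map Prod.fst).foldr (· ||| ·) 0) b y l' ∧
        ∀ w, l' (wd b w y) = (((p :: l).map Prod.snd).map fun G => co s 0 (wd (ops s G) w (bv s 1))).prod := by
  induction l generalizing p with
  | nil =>
    refine ⟨X s, inferInstance, inferInstance, ops s p.2, bv s 1, co s 0, ?_, fun w => (mul_one _).symm⟩
    have e : (([p].map Prod.fst).foldr (· ||| ·) 0) = p.1 := Nat.or_zero _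
    rw [e]
    exact (pm_sound (h p List.mem_cons_self)).2.2
  | cons q l ih =>
    rw [List.map_cons, List.pairwise_cons] at hd
    obtain ⟨Y, _, _, b, y, l', h1, h2⟩ := ih q (fun t ht => h t (List.mem_cons_of_mem _ ht)) hd.2
    have e : ∀ L : List ℕ, (∀ t ∈ L, p.1 &&& t = 0) → p.1 &&& L.foldr (· ||| ·) 0 = 0 := by
      intro L hL
      induction L with
      | nil => exact Nat.and_zero _
      | cons t L ih2 =>
        rw [List.foldr_cons, Nat.and_or_distrib_left, hL t List.mem_cons_self, ih2 fun u hu => hL u (List.mem_cons_of_mem _ hu)]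
        rfl
    refine ⟨_, inferInstance, inferInstance, _, _, _, PM.ten (e _ hd.1) (pm_sound (h p List.mem_cons_self)).2.2 h1, fun w => ?_⟩
    rw [wd_tenOp, TensorProduct.map_tmul, tenL_tmul, h2]
    rfl

theorem ent_big {ty : Ty} (hs : ty.syn = true) (C : Cls) {d J s : ℕ} (p : ℕ × List (List (ℕ × ℕ)))
    (l : List (ℕ × List (List (ℕ × ℕ)))) (h : ((p :: l).all fun q => pmOk ty q.1 s q.2) = true)
    (hd : ((p :: l).map Prod.fst).Pairwise fun a b => a &&& b = 0) (hJ : ((p :: l).map Prod.fst).foldr (· ||| ·) 0 = J)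
    {pc pv : List (ℕ × ℕ)} (hr : Nat.blt d (bigRk s ((p :: l).map Prod.snd) pc pv) = true) (row : List ℕ) (z : ℕ) :
    Ent ty C d J row z := by
  intro M _ _ _ a x l0 hM _ hd'
  rw [List.all_eq_true] at h
  obtain ⟨Y, _, _, b, y, l', h1, h2⟩ := exists_ten p l h hd
  rw [hJ] at h1
  have e := bigRk_le (pm_sound (h p List.mem_cons_self)).2.1 (Gs := (p :: l).map Prod.snd) (fun G hG => by
    obtain ⟨q, hq, rfl⟩ := List.mem_map.1 hG
    exact (pm_sound (h q hq)).1) pc pv a x l0 fun w => (hM.coef hs h1 w).trans (h2 w)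
  have e1 := Nat.blt_eq.mp hr
  omega

theorem exOk_syn {ok : List ℕ → List ℕ → Bool} {ty : Ty} {ex : Ex} (h : exOk ok ty ex = true) : ty.syn = true := by
  simp only [exOk, Bool.and_eq_true] at h
  exact h.1.1.1.1.1.1.1

theorem tab_of {ok : List ℕ → List ℕ → Bool} {ty : Ty} {ex : Ex} (h : exOk ok ty ex = true) {C : Cls} {d : ℕ}
    {rows : List (List ℕ)} {zs : List ℕ} (hE : ∀ J < 2 ^ ty.r, Ent ty C d J (rows.getD J []) (zs.getD J 0)) :
    Tab ok (ty.nb + ty.r) d C (2 ^ ty.r) (fun J k => (rows.getD J []).getD (min k C.cl.length) 0) fun J => zs.getD J 0 := by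
  intro M _ _ _ a ha hs hd
  obtain ⟨J, hJ, x, l, hM⟩ := exists_pm h ha hs
  exact ⟨J, hJ, hE J hJ M a x l hM hs hd⟩

/-- a word in the two generators as a word in the letters -/
def expW (g h : List ℕ) (w : List Bool) : List ℕ := w.flatMap fun b => cond b h g

section

variable {V : Type} [AddCommGroup V] [Module F2 V]

theorem wd_expW (a : ℕ → End F2 V) (g h : List ℕ) (w : List Bool) : wd a (expW g h w) = ev2 (wd a g) (wd a h) w := by
  induction w with
  | nil => rfl
  | cons b w ih =>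
    rw [expW, List.flatMap_cons, wd_append]
    rw [expW] at ih
    rw [ih]
    cases b <;> rfl

theorem ev2_fix {g h : End F2 V} {v : V} (hg : g v = v) (hh : h v = v) (w : List Bool) : ev2 g h w v = v := by
  induction w with
  | nil => rfl
  | cons b w ih =>
    cases b with
    | false => rw [ev2_false, End.mul_apply, ih, hg]
    | true => rw [ev2_true, End.mul_apply, ih, hh]

/-- the relators hold, the letters are words in the two generators -/
def genOk (ok : List ℕ → List ℕ → Bool) (k0 : ℕ) (C : Cls) (ws : List (List Bool)) : Bool :=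
  (C.R.all fun w => ok (expW C.g C.h w) []) && (List.range k0).all fun j => ok [j] (expW C.g C.h (ws.getD j []))

/-- **the pressure inequality** -/
theorem press [FiniteDimensional F2 V] {ok : List ℕ → List ℕ → Bool} {k0 : ℕ} {C : Cls} {ws : List (List Bool)}
    (h : genOk ok k0 C ws = true) {a : ℕ → End F2 V} (ha : Good ok k0 a) :
    (∃ v : V, v ≠ 0 ∧ ∀ j < k0, a j v = v) ∨ finrank F2 (Fx (wd a C.g)) ≤ C.z a := by
  rw [genOk, Bool.and_eq_true, List.all_eq_true, List.all_eq_true] at h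
  have e := finrank_Fx_le (g := wd a C.g) (h := wd a C.h) (R := C.R) fun w hw => by
    rw [← wd_expW, ha.rel _ _ (h.1 w hw), wd_nil]
  by_cases h0 : (Fx (wd a C.g) ⊓ Fx (wd a C.h) : Submodule F2 V) = ⊥
  · rw [h0, finrank_bot, zero_add] at e
    exact Or.inr e
  · obtain ⟨v, hv, hv0⟩ := (Submodule.ne_bot_iff _).1 h0
    refine Or.inl ⟨v, hv0, fun j hj => ?_⟩
    rw [← wd_single a j, ha.rel _ _ (h.2 j (List.mem_range.2 hj)), wd_expW]
    exact ev2_fix hv.1 hv.2 _

end

section Grp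

variable {S : Type} [Group S]

/-- the element of a word -/
def pw (σ : ℕ → S) (w : List ℕ) : S := (w.map σ).prod

theorem pw_nil (σ : ℕ → S) : pw σ [] = 1 := rfl

theorem pw_cons (σ : ℕ → S) (j : ℕ) (w : List ℕ) : pw σ (j :: w) = σ j * pw σ w := by
  rw [pw, List.map_cons, List.prod_cons]; rfl

theorem pw_append (σ : ℕ → S) (w w' : List ℕ) : pw σ (w ++ w') = pw σ w * pw σ w' := by
  rw [pw, List.map_append, List.prod_append]; rfl

theorem pw_single (σ : ℕ → S) (j : ℕ) : pw σ [j] = σ j := by rw [pw_cons, pw_nil, mul_one]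

theorem pw_mem {σ : ℕ → S} {K : Subgroup S} {k : ℕ} (h : ∀ j < k, σ j ∈ K) {w : List ℕ} (hw : ∀ j ∈ w, j < k) : pw σ w ∈ K := by
  induction w with
  | nil => exact K.one_mem
  | cons j w ih =>
    rw [pw_cons]
    exact K.mul_mem (h j (hw j List.mem_cons_self)) (ih fun i hi => hw i (List.mem_cons_of_mem _ hi))

/-- the operators of a representation -/
def opR {V : Type} [AddCommGroup V] [Module F2 V] (ρ : S →* End F2 V) (σ : ℕ → S) (k : ℕ) : ℕ → End F2 V :=
  fun j => if j < k then ρ (σ j) else 0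

theorem wd_opR {V : Type} [AddCommGroup V] [Module F2 V] (ρ : S →* End F2 V) (σ : ℕ → S) {k : ℕ} {w : List ℕ}
    (hw : ∀ j ∈ w, j < k) : wd (opR ρ σ k) w = ρ (pw σ w) := by
  induction w with
  | nil => exact (map_one ρ).symm
  | cons j w ih =>
    rw [wd_cons, pw_cons, map_mul, ih fun i hi => hw i (List.mem_cons_of_mem _ hi), opR, if_pos (hw j List.mem_cons_self)]

/-- the letters are in range -/
def inR (k : ℕ) (w : List ℕ) : Bool := w.all fun j => Nat.blt j k

theorem inR_lt {k : ℕ} {w : List ℕ} (h : inR k w = true) : ∀ j ∈ w, j < k := fun j hj =>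
  Nat.blt_eq.mp (List.all_eq_true.1 h j hj)

/-- two words have the same value in the natural module -/
noncomputable def okG (n : ℕ) (G : List (List (ℕ × ℕ))) (w w' : List ℕ) : Bool :=
  inR G.length w && inR G.length w' && okT n G w w'

/-- a faithful module given by a table -/
structure Nat0 (n : ℕ) (G : List (List (ℕ × ℕ))) (σ : ℕ → S) (ρ : S →* End F2 (X n)) : Prop where
  wf : wfG n G = true
  inj : Function.Injective ρ
  eq : ∀ j < G.length, ρ (σ j) = ops n G j

theorem Nat0.wd {n : ℕ} {G : List (List (ℕ × ℕ))} {σ : ℕ → S} {ρ : S →* End F2 (X n)} (h : Nat0 n G σ ρ) {w : List ℕ}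
    (hw : ∀ j ∈ w, j < G.length) : ρ (pw σ w) = wd (ops n G) w := by
  induction w with
  | nil => exact map_one ρ
  | cons j w ih =>
    rw [wd_cons, pw_cons, map_mul, ih fun i hi => hw i (List.mem_cons_of_mem _ hi), h.eq j (hw j List.mem_cons_self)]

theorem Nat0.pw_eq {n : ℕ} {G : List (List (ℕ × ℕ))} {σ : ℕ → S} {ρ : S →* End F2 (X n)} (h : Nat0 n G σ ρ) {w w' : List ℕ}
    (e : okG n G w w' = true) : pw σ w = pw σ w' := by
  rw [okG, Bool.and_eq_true, Bool.and_eq_true] at e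
  apply h.inj
  rw [h.wd (inR_lt e.1.1), h.wd (inR_lt e.1.2), okT_sound h.wf e.2]

theorem Nat0.good {n : ℕ} {G : List (List (ℕ × ℕ))} {σ : ℕ → S} {ρ : S →* End F2 (X n)} (h : Nat0 n G σ ρ)
    {V : Type} [AddCommGroup V] [Module F2 V] (τ : S →* End F2 V) : Good (okG n G) G.length (opR τ σ G.length) := by
  refine ⟨fun w w' e => ?_, fun j hj => if_neg (not_lt.2 hj)⟩
  have e1 := h.pw_eq e
  rw [okG, Bool.and_eq_true, Bool.and_eq_true] at e
  rw [wd_opR τ σ (inR_lt e.1.1), wd_opR τ σ (inR_lt e.1.2), e1]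

end Grp

end Cfsg.Agent.E82.Mach
end

private theorem dce_1457d7db8869 : _root_.True := by
  try have : _root_.True := by simp only [_root_.Cfsg.Agent.E82.Mach.zRk.eq_1]
  try have : _root_.True := by simp only [_root_.Cfsg.Agent.E82.Mach.okG.eq_1]
  try have : _root_.True := by simp only [_root_.Cfsg.Agent.E82.Mach.Cls.f.eq_1]
  try have : _root_.True := by simp only [_root_.Cfsg.Agent.E82.Mach.mulR.eq_1]
  try have : _root_.True := by simp only [_root_.Cfsg.Agent.E82.Mach.spL.eq_1]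
  try have : _root_.True := by simp only [_root_.Cfsg.Agent.E82.Mach.zeroOk.eq_1]
  try have : _root_.True := by simp only [_root_.Cfsg.Agent.E82.Mach.pmOk.eq_1]
  try have : _root_.True := by simp only [_root_.Cfsg.Agent.E82.Mach.tenOp.eq_1]
  try have : _root_.True := by simp only [_root_.Cfsg.Agent.E82.Mach.fxRk.eq_1]
  try have : _root_.True := by simp only [_root_.Cfsg.Agent.E82.Mach.fox.eq_def]
  try have : _root_.True := by simp only [_root_.Cfsg.Agent.E82.Mach.actL.eq_1]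
  try have : _root_.True := by simp only [_root_.Cfsg.Agent.E82.Mach.co.eq_1]
  try have : _root_.True := by simp only [_root_.Cfsg.Agent.E82.Mach.ev2.eq_def]
  try have : _root_.True := by simp only [_root_.Cfsg.Agent.E82.Mach.ent.eq_1]
  try have : _root_.True := by simp only [_root_.Cfsg.Agent.E82.Mach.genOk.eq_1]
  try have : _root_.True := by simp only [_root_.Cfsg.Agent.E82.Mach.expW.eq_1]
  try have : _root_.True := by simp only [_root_.Cfsg.Agent.E82.Mach.Cls.z.eq_1]
  try have : _root_.True := by simp only [_root_.Cfsg.Agent.E82.Mach.opR.eq_1]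
  try have : _root_.True := by simp only [_root_.Cfsg.Agent.E82.Mach.prodOp.eq_1]
  try have : _root_.True := by simp only [_root_.Cfsg.Agent.E82.Mach.wd.eq_1]
  try have : _root_.True := by simp only [_root_.Cfsg.Agent.E82.Mach.piv.eq_1]
  try have : _root_.True := by simp only [_root_.Cfsg.Agent.E82.Mach.Ty.T.eq_1]
  try have : _root_.True := by simp only [_root_.Cfsg.Agent.E82.Mach.rkF.eq_1]
  try have : _root_.True := by simp only [_root_.Cfsg.Agent.E82.Mach.ext0.eq_1]
  try have : _root_.True := by simp only [_root_.Cfsg.Agent.E82.Mach.sh.eq_1]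
  try have : _root_.True := by simp only [_root_.Cfsg.Agent.E82.Mach.wpow.eq_1]
  try have : _root_.True := by simp only [_root_.Cfsg.Agent.E82.Mach.bigRk.eq_1]
  try have : _root_.True := by simp only [_root_.Cfsg.Agent.E82.Mach.tabOk.eq_1]
  try have : _root_.True := by simp only [_root_.Cfsg.Agent.E82.Mach.pw.eq_1]
  try have : _root_.True := by simp only [_root_.Cfsg.Agent.E82.Mach.wfG.eq_1]
  try have : _root_.True := by simp only [_root_.Cfsg.Agent.E82.Mach.tb.eq_1]
  try have : _root_.True := by simp only [_root_.Cfsg.Agent.E82.Mach.opL.eq_1]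
  try have : _root_.True := by simp only [_root_.Cfsg.Agent.E82.Mach.exOk.eq_1]
  try have : _root_.True := by simp only [_root_.Cfsg.Agent.E82.Mach.bv.eq_1]
  try have : _root_.True := by simp only [_root_.Cfsg.Agent.E82.Mach.bw.eq_1]
  try have : _root_.True := by simp only [_root_.Cfsg.Agent.E82.Mach.sumW.eq_1]
  try have : _root_.True := by simp only [_root_.Cfsg.Agent.E82.Mach.flat.eq_1]
  try have : _root_.True := by simp only [_root_.Cfsg.Agent.E82.Mach.evW.eq_1]
  try have : _root_.True := by simp only [_root_.Cfsg.Agent.E82.Mach.idK.eq_1]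
  try have : _root_.True := by simp only [_root_.Cfsg.Agent.E82.Mach.wfL.eq_1]
  try have : _root_.True := by simp only [_root_.Cfsg.Agent.E82.Mach.spinOk.eq_1]
  try have : _root_.True := by simp only [_root_.Cfsg.Agent.E82.Mach.Ty.syn.eq_1]
  try have : _root_.True := by simp only [_root_.Cfsg.Agent.E82.Mach.ops.eq_1]
  exact _root_.True.intro
end

-- part: E82/M44/Let_mg
section
prune_inst 0x200024442040000000000080310000048e00000000030000d90008000086d60100000600f6900c0200820004603c002811040000421000000a000000011800800002000080480000000000801080000000000000000000000000000000051000000000000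
set_option linter.all false
open scoped Cfsg.Agent.FastGrp

/-- decoders of the packed data (elaboration time only) -/
private noncomputable def pk61d (b S i : Nat) : Nat := Nat.mod (Nat.shiftRight S (Nat.mul b i)) (Nat.shiftLeft (nat_lit 1) b)
private noncomputable def pk61c {α : Type} (t : Nat) (a : α) (f : Nat → α) : α := Nat.rec a (fun k _ => f k) t
private noncomputable def pk61f {α : Type} (t : Nat) (f : Nat → α) : α := Nat.rec (f Nat.zero) (fun k _ => f (Nat.succ k)) t
private noncomputable def pk61l {α : Type} (f : Nat → α) (s e : Nat) (tl : List α) : List α :=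
  pk61f e fun e => Nat.rec tl (fun k ih => List.cons (pk61f (Nat.sub e (Nat.succ k)) f) ih) (Nat.sub e s)

-- part: E82/Grp/P44
section
/-!
# S3369: elements of `Sp₄(4)` as numbers (helper79)

A vector is a number below `256` (two bits for each coordinate, in the order `inl 0, inl 1, inr 0, inr 1`; `0 1 2 3` stand
for `0, 1, w, w²`), a matrix is given by its four columns (eight bits each).

* `vc`, `mt` : vectors and matrices; `ap`, `mul` : the products; `okb` : the test for `Sp₄(4)`; `G a` : the group element;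
* `chk l l'` : two products are equal (`prod_eq`, `eq2`, `comm`, `conj`, `isConj`); `ne_one`;
* `gen_of` : a generation certificate (a transvection and an orbit on the vectors).
-/

set_option autoImplicit false

namespace Cfsg.Agent.E82.Grp

open Cfsg Matrix
open Cfsg.Agent.Lib.FieldFour
open Cfsg.Agent.ClassicalGeometry.SympBasic

/-- the vectors -/
abbrev V4 : Type := Fin 2 ⊕ Fin 2 → F4

/-- the matrices -/
abbrev M4 : Type := Matrix (Fin 2 ⊕ Fin 2) (Fin 2 ⊕ Fin 2) F4

/-- the group -/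
abbrev S44 : Type := Sp44 F4

/-- evaluate the number first -/
noncomputable def frc {α : Type} (n : ℕ) (f : ℕ → α) : α := Nat.rec (f 0) (fun k _ => f (Nat.succ k)) n

theorem frc_eq {α : Type} (n : ℕ) (f : ℕ → α) : frc n f = f n := by cases n <;> rfl

/-- a digit -/
def dg (n : ℕ) : F4 := if n % 4 = 0 then .o else if n % 4 = 1 then .i else if n % 4 = 2 then .w else .v

/-- the position of an index -/
def ix : Fin 2 ⊕ Fin 2 → ℕ := Sum.elim (fun i => i.val) fun i => 2 + i.val

/-- the vector of a number -/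
def vc (c : ℕ) : V4 := fun i => dg (c >>> (2 * ix i))

/-- the matrix of a number -/
def mt (a : ℕ) : M4 := Matrix.of fun i j => dg (a >>> (8 * ix j + 2 * ix i))

/-- a column -/
def cl (a j : ℕ) : ℕ := Nat.land (Nat.shiftRight a (Nat.mul 8 j)) 255

/-- multiplication by `w` -/
def tw (c : ℕ) : ℕ :=
  Nat.lor (Nat.land (Nat.shiftRight c 1) 85) (Nat.shiftLeft (Nat.land (Nat.xor c (Nat.shiftRight c 1)) 85) 1)

/-- multiplication by a digit -/
def sm (s c : ℕ) : ℕ := Nat.xor (Nat.mul (Nat.land s 1) c) (Nat.mul (Nat.land (Nat.shiftRight s 1) 1) (tw c))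

/-- a matrix applied to a vector -/
def ap (a v : ℕ) : ℕ :=
  Nat.xor (Nat.xor (sm v (cl a 0)) (sm (Nat.shiftRight v 2) (cl a 1)))
    (Nat.xor (sm (Nat.shiftRight v 4) (cl a 2)) (sm (Nat.shiftRight v 6) (cl a 3)))

/-- the product of two matrices -/
def mul (a b : ℕ) : ℕ :=
  Nat.add (Nat.add (ap a (cl b 0)) (Nat.mul 256 (ap a (cl b 1))))
    (Nat.mul 65536 (Nat.add (ap a (cl b 2)) (Nat.mul 256 (ap a (cl b 3)))))

/-- the unit matrix -/
def one : ℕ := 1074791425

theorem dg_mod (n : ℕ) : dg (n % 4) = dg n := by unfold dg; rw [Nat.mod_mod]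

theorem dg_xor (a b : ℕ) : dg (a ^^^ b) = dg a + dg b := by
  have h : ∀ x < 4, ∀ y < 4, dg (x ^^^ y) = dg x + dg y := by decide
  rw [← dg_mod, ← dg_mod a, ← dg_mod b, ← h _ (Nat.mod_lt _ (by norm_num)) _ (Nat.mod_lt _ (by norm_num))]
  exact congrArg dg (Nat.xor_mod_two_pow (n := 2))

theorem vc_xor (a b : ℕ) : vc (a ^^^ b) = vc a + vc b := by
  funext i
  show dg ((a ^^^ b) >>> _) = dg _ + dg _
  rw [Nat.shiftRight_xor_distrib, dg_xor]

theorem cl_eq (a j : ℕ) : cl a j = a / 256 ^ j % 256 := by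
  show (a >>> (8 * j)) &&& (2 ^ 8 - 1) = _
  rw [Nat.and_two_pow_sub_one_eq_mod, Nat.shiftRight_eq_div_pow, pow_mul]
  rfl

theorem cl_lt (a j : ℕ) : cl a j < 256 := by rw [cl_eq]; exact Nat.mod_lt _ (by norm_num)

theorem sm_mod (s c : ℕ) : sm (s % 4) c = sm s c := by
  have h1 : ∀ t : ℕ, Nat.land t 1 = t % 2 := fun t => Nat.and_one_is_mod t
  have h2 : ∀ t : ℕ, Nat.shiftRight t 1 = t / 2 := fun t => Nat.shiftRight_eq_div_pow t 1
  unfold sm
  rw [h1, h1, h1, h1, h2 s, h2 (s % 4), show s % 4 % 2 = s % 2 by omega, show s % 4 / 2 % 2 = s / 2 % 2 by omega]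

private noncomputable def _root_.Cfsg.Agent.KOb53ee01.k0 : type_of% @Decidable.decide := @(fun x0 x1 => @Decidable.rec.{1} _ @(fun x2 => @Bool) @(fun x2 => @Bool.false) @(fun x2 => @Bool.true) @x1)
private theorem _root_.Cfsg.Agent.KOb53ee01.e0 : @Decidable.decide = @_root_.Cfsg.Agent.KOb53ee01.k0 := by delta _root_.Cfsg.Agent.KOb53ee01.k0; rfl'
private noncomputable def _root_.Cfsg.Agent.KOb53ee01.k1l (n : Nat) (P : ∀ k, k < n → Prop) (H : ∀ k h, Decidable (P k h)) (m : Nat) : m ≤ n → Bool := @Nat.rec (fun m => m ≤ n → Bool) (fun _ => true) (fun k ih h => @Decidable.rec (P k h) (fun _ => Bool) (fun _ => false) (fun _ => ih (Nat.le_of_succ_le h)) (H k h)) m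
private theorem _root_.Cfsg.Agent.KOb53ee01.k1ls (n : Nat) (P : ∀ k, k < n → Prop) (H : ∀ k h, Decidable (P k h)) (m : Nat) : ∀ h : m ≤ n, _root_.Cfsg.Agent.KOb53ee01.k1l n P H m h = true ↔ ∀ k (g : k < m), P k (Nat.lt_of_lt_of_le g h) := by induction m with | zero => exact fun _ => ⟨fun _ _ g => absurd g (Nat.not_lt_zero _), fun _ => rfl⟩ | succ m ih => intro h; show @Decidable.rec (P m h) (fun _ => Bool) (fun _ => false) (fun _ => _root_.Cfsg.Agent.KOb53ee01.k1l n P H m (Nat.le_of_succ_le h)) (H m h) = true ↔ _; cases H m h with | isFalse q => exact ⟨fun g => absurd g Bool.false_ne_true, fun g => absurd (g m (Nat.lt_succ_self m)) q⟩ | isTrue q => exact ⟨fun g k hk => (Nat.lt_succ_iff_lt_or_eq.1 hk).elim ((ih _).1 g k) fun e => by subst e; exact q, fun g => (ih _).2 fun k hk => g k (Nat.lt_succ_of_lt hk)⟩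
private noncomputable def _root_.Cfsg.Agent.KOb53ee01.k1 (n : Nat) (P : ∀ k, k < n → Prop) (H : ∀ k h, Decidable (P k h)) : Decidable (∀ k h, P k h) := @Bool.rec (fun b => _root_.Cfsg.Agent.KOb53ee01.k1l n P H n (Nat.le_refl n) = b → Decidable (∀ k h, P k h)) (fun g => isFalse fun q => Bool.false_ne_true (g.symm.trans ((_root_.Cfsg.Agent.KOb53ee01.k1ls n P H n _).2 fun k h => q k h))) (fun g => isTrue fun k h => (_root_.Cfsg.Agent.KOb53ee01.k1ls n P H n _).1 g k h) (_root_.Cfsg.Agent.KOb53ee01.k1l n P H n (Nat.le_refl n)) rfl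
private theorem _root_.Cfsg.Agent.KOb53ee01.e1 : @Nat.decidableBallLT = @_root_.Cfsg.Agent.KOb53ee01.k1 := funext fun _ => funext fun _ => funext fun _ => Subsingleton.elim _ _
private noncomputable def _root_.Cfsg.Agent.KOb53ee01.k2 : type_of% @instDecidableAnd := @(fun x0 x1 x2 x3 => @Decidable.rec.{1} _ @(fun x4 => @Decidable (@And @x0 @x1)) @(fun x4 => @Decidable.isFalse _ (@instDecidableAnd._proof_2 _ _ @x4)) @(fun x4 => @Decidable.rec.{1} _ @(fun x5 => @Decidable (@And @x0 @x1)) @(fun x5 => @Decidable.isFalse _ (@instDecidableAnd._proof_1 _ _ @x5)) @(fun x5 => @Decidable.isTrue _ (@And.intro _ _ @x4 @x5)) @x3) @x2)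
private theorem _root_.Cfsg.Agent.KOb53ee01.e2 : @instDecidableAnd = @_root_.Cfsg.Agent.KOb53ee01.k2 := by delta _root_.Cfsg.Agent.KOb53ee01.k2; rfl'
private noncomputable def _root_.Cfsg.Agent.KOb53ee01.k3 : type_of% @Bool.decEq := @(fun x0 x1 => @Bool.rec.{1} @(fun x2 => @Decidable (@Eq.{1} _ @x2 @x1)) (@Bool.rec.{1} @(fun x2 => @Decidable (@Eq.{1} _ @Bool.false @x2)) (@Decidable.isTrue _ (@rfl.{1} _ _)) (@Decidable.isFalse _ @(fun x2 => @Bool.noConfusion.{0} _ _ _ @x2)) @x1) (@Bool.rec.{1} @(fun x2 => @Decidable (@Eq.{1} _ @Bool.true @x2)) (@Decidable.isFalse _ @(fun x2 => @Bool.noConfusion.{0} _ _ _ @x2)) (@Decidable.isTrue _ (@rfl.{1} _ _)) @x1) @x0)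
private theorem _root_.Cfsg.Agent.KOb53ee01.e3 : @Bool.decEq = @_root_.Cfsg.Agent.KOb53ee01.k3 := by delta _root_.Cfsg.Agent.KOb53ee01.k3; rfl'
private noncomputable def _root_.Cfsg.Agent.KOb53ee01.k4 : type_of% @Nat.decLe := @(fun x0 x1 => @Decidable.rec.{1} _ @(fun x2 => @Decidable (@LE.le.{0} _ _ @x0 @x1)) @(fun x2 => @Decidable.isFalse _ (@Nat.not_le_of_not_ble_eq_true _ _ @x2)) @(fun x2 => @Decidable.isTrue _ (@Nat.le_of_ble_eq_true _ _ @x2)) (@Cfsg.Agent.KOb53ee01.k3 (@Nat.ble @x0 @x1) @Bool.true))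
private theorem _root_.Cfsg.Agent.KOb53ee01.e4 : @Nat.decLe = @_root_.Cfsg.Agent.KOb53ee01.k4 := by delta _root_.Cfsg.Agent.KOb53ee01.k4; rewrite [← Cfsg.Agent.KOb53ee01.e3]; rfl'
private noncomputable def _root_.Cfsg.Agent.KOb53ee01.k5 : type_of% @Nat.decLt := @(fun x0 x1 => @Cfsg.Agent.KOb53ee01.k4 (@Nat.succ @x0) @x1)
private theorem _root_.Cfsg.Agent.KOb53ee01.e5 : @Nat.decLt = @_root_.Cfsg.Agent.KOb53ee01.k5 := by delta _root_.Cfsg.Agent.KOb53ee01.k5; rewrite [← Cfsg.Agent.KOb53ee01.e4]; rfl'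
private noncomputable def _root_.Cfsg.Agent.KOb53ee01.k6 : (by first | exact type_of% @Cfsg.Agent.E82.Grp.tw | exact Unit : Sort _) := by first | (refine @Subtype.val _ (fun g => @Cfsg.Agent.E82.Grp.tw = @g) (@Subtype.mk _ _ (@(fun x0 => @Nat.lor (@Nat.land (@Nat.shiftRight @x0 (nat_lit 1)) (nat_lit 85)) (@Nat.shiftLeft (@Nat.land (@Nat.xor @x0 (@Nat.shiftRight @x0 (nat_lit 1))) (nat_lit 85)) (nat_lit 1)))) ?_); rfl') | exact @Cfsg.Agent.E82.Grp.tw | exact ()
private theorem _root_.Cfsg.Agent.KOb53ee01.e6 : (by first | exact @Cfsg.Agent.E82.Grp.tw = @_root_.Cfsg.Agent.KOb53ee01.k6 | exact True : Prop) := by first | (delta _root_.Cfsg.Agent.KOb53ee01.k6; exact @Subtype.property _ (fun g => @Cfsg.Agent.E82.Grp.tw = @g) _) | rfl | trivial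
private noncomputable def _root_.Cfsg.Agent.KOb53ee01.k7 : (by first | exact type_of% @Cfsg.Agent.E82.Grp.sm | exact Unit : Sort _) := by first | (refine @Subtype.val _ (fun g => @Cfsg.Agent.E82.Grp.sm = @g) (@Subtype.mk _ _ (@(fun x0 x1 => @Nat.xor (@Nat.mul (@Nat.land @x0 (nat_lit 1)) @x1) (@Nat.mul (@Nat.land (@Nat.shiftRight @x0 (nat_lit 1)) (nat_lit 1)) (@Cfsg.Agent.KOb53ee01.k6 @x1)))) ?_); rewrite [← Cfsg.Agent.KOb53ee01.e6]; (try delta Cfsg.Agent.E82.Grp.sm); (try generalize @Cfsg.Agent.E82.Grp.tw = g0); rfl') | exact @Cfsg.Agent.E82.Grp.sm | exact ()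
private theorem _root_.Cfsg.Agent.KOb53ee01.e7 : (by first | exact @Cfsg.Agent.E82.Grp.sm = @_root_.Cfsg.Agent.KOb53ee01.k7 | exact True : Prop) := by first | (delta _root_.Cfsg.Agent.KOb53ee01.k7; exact @Subtype.property _ (fun g => @Cfsg.Agent.E82.Grp.sm = @g) _) | rfl | trivial
private noncomputable def _root_.Cfsg.Agent.KOb53ee01.oEq.{ku} (α : Sort ku) (a b : Nat) (f t : α) : α := @Decidable.rec (a = b) (fun _ => α) (fun _ => f) (fun _ => t) (Nat.decEq a b)
private noncomputable def _root_.Cfsg.Agent.KOb53ee01.k9.{ku} (α : Sort ku) (a b : Nat) (f t : α) : α := @Bool.rec (fun _ => α) f t (Nat.beq a b)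
private theorem _root_.Cfsg.Agent.KOb53ee01.e9.{ku} : @_root_.Cfsg.Agent.KOb53ee01.oEq.{ku} = @_root_.Cfsg.Agent.KOb53ee01.k9.{ku} := funext fun α => funext fun a => funext fun b => funext fun f => funext fun t => by delta _root_.Cfsg.Agent.KOb53ee01.oEq _root_.Cfsg.Agent.KOb53ee01.k9; cases h : Nat.beq a b <;> cases Nat.decEq a b <;> rename_i g <;> first | rfl | exact absurd g (Nat.ne_of_beq_eq_false h) | exact absurd (Nat.eq_of_beq_eq_true h) g
private noncomputable def _root_.Cfsg.Agent.KOb53ee01.k10 : (by first | exact type_of% @Cfsg.Agent.E82.Grp.dg | exact Unit : Sort _) := by first | (refine @Subtype.val _ (fun g => @Cfsg.Agent.E82.Grp.dg = @g) (@Subtype.mk _ _ (@(fun x0 => @Cfsg.Agent.KOb53ee01.k9.{1} @Cfsg.Agent.Lib.FieldFour.F4 (@Nat.mod @x0 (nat_lit 4)) (nat_lit 0) (@Cfsg.Agent.KOb53ee01.k9.{1} @Cfsg.Agent.Lib.FieldFour.F4 (@Nat.mod @x0 (nat_lit 4)) (nat_lit 1) (@Cfsg.Agent.KOb53ee01.k9.{1} @Cfsg.Agent.Lib.FieldFour.F4 (@Nat.mod @x0 (nat_lit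 4)) (nat_lit 2) @Cfsg.Agent.Lib.FieldFour.F4.v @Cfsg.Agent.Lib.FieldFour.F4.w) @Cfsg.Agent.Lib.FieldFour.F4.i) @Cfsg.Agent.Lib.FieldFour.F4.o)) ?_); rewrite [← Cfsg.Agent.KOb53ee01.e9.{1}]; rfl') | exact @Cfsg.Agent.E82.Grp.dg | exact ()
private theorem _root_.Cfsg.Agent.KOb53ee01.e10 : (by first | exact @Cfsg.Agent.E82.Grp.dg = @_root_.Cfsg.Agent.KOb53ee01.k10 | exact True : Prop) := by first | (delta _root_.Cfsg.Agent.KOb53ee01.k10; exact @Subtype.property _ (fun g => @Cfsg.Agent.E82.Grp.dg = @g) _) | rfl | trivial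

theorem sm_aux : ∀ s < 4, ∀ c < 256, sm s c < 256 ∧ ∀ k < 4, dg (sm s c >>> (2 * k)) = dg s * dg (c >>> (2 * k)) := by
  (first | (refine of_decide_eq_true ?_; rewrite [Cfsg.Agent.KOb53ee01.e0, Cfsg.Agent.KOb53ee01.e1, Cfsg.Agent.KOb53ee01.e2, Cfsg.Agent.KOb53ee01.e5, Cfsg.Agent.KOb53ee01.e7, Cfsg.Agent.KOb53ee01.e10]; decide +kernel) | decide +kernel)

theorem ix_lt (i : Fin 2 ⊕ Fin 2) : ix i < 4 := by revert i; decide

theorem sm_lt (s : ℕ) {c : ℕ} (hc : c < 256) : sm s c < 256 := by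
  rw [← sm_mod]
  exact (sm_aux _ (Nat.mod_lt _ (by norm_num)) c hc).1

theorem vc_sm (s : ℕ) {c : ℕ} (hc : c < 256) : vc (sm s c) = dg s • vc c := by
  funext i
  rw [← sm_mod, ← dg_mod s]
  exact (sm_aux _ (Nat.mod_lt _ (by norm_num)) c hc).2 _ (ix_lt i)

theorem vc_cl (a : ℕ) (i j : Fin 2 ⊕ Fin 2) : vc (cl a (ix j)) i = mt a i j := by
  show dg (cl a (ix j) >>> (2 * ix i)) = dg (a >>> (8 * ix j + 2 * ix i))
  rw [← dg_mod, ← dg_mod (a >>> _), cl_eq, Nat.shiftRight_eq_div_pow, Nat.shiftRight_eq_div_pow, pow_add, pow_mul 2 8,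
    ← Nat.div_div_eq_div_mul, show 2 ^ 8 = 256 from rfl]
  generalize a / 256 ^ ix j = t
  have h := ix_lt i
  generalize ix i = k at h
  congr 1
  interval_cases k <;> omega

theorem ap_lt (a v : ℕ) : ap a v < 256 :=
  Nat.xor_lt_two_pow (n := 8) (Nat.xor_lt_two_pow (n := 8) (sm_lt _ (cl_lt _ _)) (sm_lt _ (cl_lt _ _)))
    (Nat.xor_lt_two_pow (n := 8) (sm_lt _ (cl_lt _ _)) (sm_lt _ (cl_lt _ _)))

theorem vc_ap (a v : ℕ) : vc (ap a v) = mt a *ᵥ vc v := by
  show vc ((sm v (cl a 0) ^^^ sm (v >>> 2) (cl a 1)) ^^^ (sm (v >>> 4) (cl a 2) ^^^ sm (v >>> 6) (cl a 3))) = _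
  rw [vc_xor, vc_xor, vc_xor, vc_sm _ (cl_lt _ _), vc_sm _ (cl_lt _ _), vc_sm _ (cl_lt _ _), vc_sm _ (cl_lt _ _)]
  funext i
  rw [Matrix.mulVec, dotProduct, Fintype.sum_sum_type, Fin.sum_univ_two, Fin.sum_univ_two, ← vc_cl, ← vc_cl, ← vc_cl,
    ← vc_cl, mul_comm (vc _ i), mul_comm (vc _ i), mul_comm (vc _ i), mul_comm (vc _ i)]
  rfl

theorem cl_mul (a b : ℕ) {j : ℕ} (hj : j < 4) : cl (mul a b) j = ap a (cl b j) := by
  have h0 := ap_lt a (cl b 0)
  have h1 := ap_lt a (cl b 1)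
  have h2 := ap_lt a (cl b 2)
  have h3 := ap_lt a (cl b 3)
  rw [cl_eq]
  show (ap a (cl b 0) + 256 * ap a (cl b 1) + 65536 * (ap a (cl b 2) + 256 * ap a (cl b 3))) / 256 ^ j % 256 = _
  interval_cases j <;> omega

theorem mt_mul (a b : ℕ) : mt (mul a b) = mt a * mt b := by
  ext i j
  rw [← vc_cl, cl_mul _ _ (ix_lt j), vc_ap, Matrix.mul_apply, Matrix.mulVec, dotProduct]
  exact Finset.sum_congr rfl fun k _ => by rw [vc_cl]

theorem mt_one : mt one = 1 := by decide +kernel

/-- the matrix is symplectic -/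
def Ok (a : ℕ) : Prop := mt a ∈ Matrix.symplecticGroup (Fin 2) F4

/-- the form on two vectors, as a digit -/
def fm (u v : ℕ) : ℕ :=
  Nat.land (Nat.xor (Nat.xor (sm u (cl (Nat.shiftRight v 4) 0)) (sm (Nat.shiftRight u 2) (cl (Nat.shiftRight v 6) 0)))
    (Nat.xor (sm (Nat.shiftRight u 4) (cl v 0)) (sm (Nat.shiftRight u 6) (cl (Nat.shiftRight v 2) 0)))) 3

theorem dg_sm (s c : ℕ) : dg (sm s (cl c 0)) = dg s * dg c := by
  have h := congrFun (vc_sm s (cl_lt c 0)) (.inl 0)
  have h2 : dg (cl c 0) = dg c := vc_cl c (.inl 0) (.inl 0)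
  rw [← h2]
  exact h

theorem dg_fm (u v : ℕ) : dg (fm u v) = sympForm 2 F4 (vc u) (vc v) := by
  have e : fm u v = ((sm u (cl (v >>> 4) 0) ^^^ sm (u >>> 2) (cl (v >>> 6) 0)) ^^^
      (sm (u >>> 4) (cl v 0) ^^^ sm (u >>> 6) (cl (v >>> 2) 0))) % 4 := Nat.and_two_pow_sub_one_eq_mod _ 2
  rw [e, dg_mod, dg_xor, dg_xor, dg_xor, dg_sm, dg_sm, dg_sm, dg_sm, sympForm_eq_sum, Fin.sum_univ_two]
  have h : ∀ a b c d : F4, a + b + (c + d) = c - a + (d - b) := by decide +kernel
  exact h _ _ _ _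

/-- the test for the symplectic group -/
def okb (a : ℕ) : Bool := [0, 1, 2, 3].all fun i => [0, 1, 2, 3].all fun j =>
  Nat.beq (fm (cl a i) (cl a j)) (fm (cl one i) (cl one j))

theorem ok_of {a : ℕ} (h : okb a = true) : Ok a := by
  have h1 : ∀ i j, sympForm 2 F4 (vc (cl a (ix i))) (vc (cl a (ix j))) =
      sympForm 2 F4 (vc (cl one (ix i))) (vc (cl one (ix j))) := by
    intro i j
    have hm : ∀ k : Fin 2 ⊕ Fin 2, ix k ∈ [0, 1, 2, 3] := by decide
    rw [← dg_fm, ← dg_fm]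
    exact congrArg dg (Nat.eq_of_beq_eq_true (List.all_eq_true.1 (List.all_eq_true.1 h _ (hm i)) _ (hm j)))
  have h2 : ∀ (b : ℕ) i j, sympForm 2 F4 (vc (cl b (ix i))) (vc (cl b (ix j))) =
      ((mt b)ᵀ * Matrix.J (Fin 2) F4 * mt b) i j := by
    intro b i j
    rw [Matrix.mul_assoc, Matrix.mul_apply, sympForm_def, dotProduct]
    refine Finset.sum_congr rfl fun k _ => ?_
    rw [vc_cl, Matrix.transpose_apply, Matrix.mul_apply, Matrix.mulVec, dotProduct]
    exact congrArg _ (Finset.sum_congr rfl fun l _ => by rw [vc_cl])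
  rw [Ok, SymplecticGroup.mem_iff']
  ext i j
  rw [← h2, h1, h2, mt_one, Matrix.transpose_one, Matrix.one_mul, Matrix.mul_one]

theorem Ok.mul {a b : ℕ} (ha : Ok a) (hb : Ok b) : Ok (mul a b) := by
  rw [Ok, mt_mul]
  exact Submonoid.mul_mem _ ha hb

theorem ok_one : Ok one := by
  rw [Ok, mt_one]
  exact Submonoid.one_mem _

open Classical in
/-- the group element of a number -/
noncomputable def G (a : ℕ) : S44 := if h : Ok a then ⟨mt a, h⟩ else 1

theorem coe_G {a : ℕ} (h : Ok a) : (G a).1 = mt a := by rw [G, dif_pos h]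

theorem G_mul {a b : ℕ} (ha : Ok a) (hb : Ok b) : G a * G b = G (mul a b) :=
  Subtype.ext (by rw [coe_G (ha.mul hb), mt_mul, ← coe_G ha, ← coe_G hb]; rfl)

theorem G_one : G one = 1 := Subtype.ext (by rw [coe_G ok_one, mt_one]; rfl)

/-- the product of a list -/
noncomputable def pr (l : List ℕ) : ℕ := List.rec one (fun a _ r => frc r (mul a)) l

theorem pr_spec {l : List ℕ} (h : l.all okb = true) : Ok (pr l) ∧ (l.map G).prod = G (pr l) := by
  induction l with
  | nil => exact ⟨ok_one, G_one.symm⟩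
  | cons a l ih =>
    rw [List.all_cons, Bool.and_eq_true] at h
    obtain ⟨h1, h2⟩ := ih h.2
    have e : pr (a :: l) = mul a (pr l) := frc_eq _ _
    rw [e, List.map_cons, List.prod_cons, h2, G_mul (ok_of h.1) h1]
    exact ⟨(ok_of h.1).mul h1, rfl⟩

/-- two products are equal -/
noncomputable def chk (l l' : List ℕ) : Bool := l.all okb && l'.all okb && Nat.beq (pr l) (pr l')

theorem prod_eq (l l' : List ℕ) (h : chk l l' = true) : (l.map G).prod = (l'.map G).prod := by
  rw [chk, Bool.and_eq_true, Bool.and_eq_true] at h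
  rw [(pr_spec h.1.1).2, (pr_spec h.1.2).2, Nat.eq_of_beq_eq_true h.2]

theorem eq2 {a b c : ℕ} (h : chk [a, b] [c] = true) : G a * G b = G c := by simpa only [_root_.List.map_cons, _root_.List.map_nil, _root_.List.prod_cons, _root_.List.prod_nil, _root_.mul_one] using prod_eq _ _ h

theorem comm {a b : ℕ} (h : chk [a, b] [b, a] = true) : Commute (G a) (G b) := by
  show G a * G b = G b * G a
  simpa only [_root_.List.map_cons, _root_.List.map_nil, _root_.List.prod_cons, _root_.List.prod_nil, _root_.mul_one] using prod_eq _ _ h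

theorem conj {u a b : ℕ} (h : chk [u, a] [b, u] = true) : G u * G a * (G u)⁻¹ = G b := by
  rw [mul_inv_eq_iff_eq_mul]
  simpa only [_root_.List.map_cons, _root_.List.map_nil, _root_.List.prod_cons, _root_.List.prod_nil, _root_.mul_one] using prod_eq _ _ h

theorem isConj (u : ℕ) {a b : ℕ} (h : chk [u, a] [b, u] = true) : IsConj (G a) (G b) := isConj_iff.2 ⟨G u, conj h⟩

theorem inv_eq {a b : ℕ} (h : chk [a, b] [] = true) : (G a)⁻¹ = G b := by
  refine inv_eq_of_mul_eq_one_right ?_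
  simpa only [_root_.List.map_cons, _root_.List.map_nil, _root_.List.prod_cons, _root_.List.prod_nil, _root_.mul_one] using prod_eq _ _ h

theorem pow_eq {a b : ℕ} (n : ℕ) (h : chk (List.replicate n a) [b] = true) : G a ^ n = G b := by
  simpa using prod_eq _ _ h

theorem pow_eq_one {a : ℕ} (n : ℕ) (h : chk (List.replicate n a) [] = true) : G a ^ n = 1 := by
  simpa only [_root_.List.map_replicate, _root_.List.prod_replicate, _root_.List.map_nil, _root_.List.prod_nil] using prod_eq _ _ h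

theorem ne_of {a b : ℕ} (ha : okb a = true) (hb : okb b = true) (h : mt a ≠ mt b) : G a ≠ G b := fun e =>
  h (by rw [← coe_G (ok_of ha), ← coe_G (ok_of hb), e])

theorem ne_one {a : ℕ} (ha : okb a = true) (h : mt a ≠ mt one) : G a ≠ 1 := G_one ▸ ne_of ha (by decide +kernel) h

/-! ### generation -/

private theorem _root_.Cfsg.Agent.KOb53ee01.e13.{ku, kv} {α : Type kv} {M : List α → Sort ku} (φ : ∀ l, M l) {z : M List.nil} {s : ∀ a l, M l → M (List.cons a l)} (h0 : φ List.nil = z) (hs : ∀ a l, φ (List.cons a l) = s a l (φ l)) (l : List α) : φ l = @List.rec α M z s l := List.rec h0 (fun a l ih => (hs a l).trans (congrArg (s a l) ih)) l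
private def un4 : F4 → ℕ
  | .o => 0
  | .i => 1
  | .w => 2
  | .v => 3

theorem exists_vc (v : V4) : ∃ c < 256, vc c = v := by
  have h0 : ∀ p q r s : F4, un4 p + 4 * un4 q + 16 * un4 r + 64 * un4 s < 256 ∧
      vc (un4 p + 4 * un4 q + 16 * un4 r + 64 * un4 s) (.inl 0) = p ∧
      vc (un4 p + 4 * un4 q + 16 * un4 r + 64 * un4 s) (.inl 1) = q ∧
      vc (un4 p + 4 * un4 q + 16 * un4 r + 64 * un4 s) (.inr 0) = r ∧
      vc (un4 p + 4 * un4 q + 16 * un4 r + 64 * un4 s) (.inr 1) = s := by decide +kernel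
  have h : ∀ p q r s : F4, ∃ c < 256, vc c (.inl 0) = p ∧ vc c (.inl 1) = q ∧ vc c (.inr 0) = r ∧ vc c (.inr 1) = s :=
    fun p q r s => ⟨_, h0 p q r s⟩
  obtain ⟨c, hc, h1, h2, h3, h4⟩ := h (v (.inl 0)) (v (.inl 1)) (v (.inr 0)) (v (.inr 1))
  refine ⟨c, hc, funext fun i => ?_⟩
  rcases i with i | i <;> fin_cases i <;> assumption

/-- the orbit: an entry `4 v + k` applies the letter `k` to the vector `v` -/
noncomputable def orb (L : List ℕ) (p : List ℕ) : ℕ → ℕ := List.rec (fun S => S)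
  (fun e _ r S => frc (Bool.rec S (Nat.lor S (Nat.shiftLeft 1 (ap (L.getD (Nat.land e 3) one) (Nat.shiftRight e 2))))
    (Nat.testBit S (Nat.shiftRight e 2))) r) p

theorem orb_spec {L : List ℕ} {Q : ℕ → Prop} (hQ : ∀ k v, Q v → Q (ap (L.getD k one) v)) (p : List ℕ) {S : ℕ}
    (hS : ∀ v, S.testBit v = true → Q v) : ∀ v, (orb L p S).testBit v = true → Q v := by
  induction p generalizing S with
  | nil => exact hS
  | cons e p ih =>
    have e1 : orb L (e :: p) S = orb L p (Bool.rec S (S ||| 1 <<< ap (L.getD (Nat.land e 3) one) (Nat.shiftRight e 2))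
      (Nat.testBit S (Nat.shiftRight e 2))) := frc_eq _ _
    rw [e1]
    refine ih ?_
    cases ht : Nat.testBit S (Nat.shiftRight e 2) with
    | false => exact hS
    | true =>
      intro v hv
      have hv' : (S ||| 1 <<< ap (L.getD (Nat.land e 3) one) (Nat.shiftRight e 2)).testBit v = true := hv
      rw [Nat.testBit_or, Bool.or_eq_true, Nat.one_shiftLeft, Nat.testBit_two_pow, decide_eq_true_eq] at hv'
      rcases hv' with h | h
      · exact hS v h
      · exact h ▸ hQ _ _ (hS _ ht)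

/-- **generation** : `M` contains the transvection of `v₀` and the letters `L`, which are transitive on the vectors -/
theorem gen_of {M : Subgroup S44} (L : List ℕ) (hL : L.all okb = true) (hM : ∀ a ∈ L, G a ∈ M) (v₀ : ℕ)
    (h0 : transv (vc v₀) 1 ∈ M) (p : List ℕ) (h : Nat.beq (orb L p (2 ^ v₀)) (2 ^ 256 - 2) = true) : M = ⊤ := by
  have hQ : ∀ k v, transv (vc v) (1 : F4) ∈ M → transv (vc (ap (L.getD k one) v)) (1 : F4) ∈ M := by
    intro k v hv
    have h1 : Ok (L.getD k one) ∧ G (L.getD k one) ∈ M := by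
      rw [List.getD_eq_getElem?_getD]
      cases e : L[k]? with
      | none => exact ⟨ok_one, by rw [Option.getD_none, G_one]; exact M.one_mem⟩
      | some a => exact ⟨ok_of (List.all_eq_true.1 hL a (List.mem_of_getElem? e)), hM a (List.mem_of_getElem? e)⟩
    have h2 : G (L.getD k one) * transv (vc v) (1 : F4) = transv (vc (ap (L.getD k one) v)) 1 * G (L.getD k one) := by
      refine Subtype.ext ?_
      show (G _).1 * sympTransvection 2 _ _ = sympTransvection 2 _ _ * (G _).1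
      rw [coe_G h1.1, vc_ap, mul_sympTransvection h1.1]
    rw [← mul_inv_eq_iff_eq_mul] at h2
    rw [← h2]
    exact M.mul_mem (M.mul_mem h1.2 hv) (M.inv_mem h1.2)
  have h1 := orb_spec (Q := fun v => transv (vc v) (1 : F4) ∈ M) hQ p (S := 2 ^ v₀) fun v hv => by
    rw [Nat.testBit_two_pow, decide_eq_true_eq] at hv
    exact hv ▸ h0
  rw [Nat.eq_of_beq_eq_true h] at h1
  rw [eq_top_iff, ← S0765.result (F := F4) 2, Subgroup.closure_le]
  rintro A ⟨w, c, hA⟩
  obtain ⟨d, rfl⟩ := (by decide : ∀ c : F4, ∃ d : F4, c = d ^ 2 * 1) c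
  rw [← sympTransvection_smul] at hA
  obtain ⟨u, hu, e⟩ := exists_vc (d • w)
  rw [← e] at hA
  have e2 : A = transv (vc u) 1 := Subtype.ext hA
  rw [e2]
  by_cases hu0 : u = 0
  · have e3 : transv (vc u) (1 : F4) = 1 := by
      refine Subtype.ext ?_
      rw [hu0]
      decide +kernel
    rw [e3]
    exact M.one_mem
  · refine h1 u ?_
    have h5 : ∀ u < 256, u ≠ 0 → (2 ^ 256 - 2).testBit u = true := by decide +kernel
    exact h5 u hu hu0

end Cfsg.Agent.E82.Grp
end

-- part: E82/Grp/G44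
section
/-!
# S3369: the four subgroups `A₅` of `Sp₄(4)` (helper79, box `GRP44`)

`ph 0`, `ph 1` act on the planes `⟨e₁, f₁⟩`, `⟨e₂, f₂⟩`; `ph 2 x5 = ph 0 x5 * ph 1 x5`, `ph 3 x5 = ph 0 x5 * (ph 1 x5)⁻¹`.
-/

set_option autoImplicit false

namespace Cfsg.Agent.E82.Grp

open Cfsg.Agent.Lib.VonDyck (a5 b5 closure_a5_b5 exists_hom_alternatingFive)
open Cfsg.Agent.ClassicalGeometry.SympBasic (transv)
open Cfsg.Agent.E82.F5

/-- the images of `a5` -/
def nA : Fin 4 → ℕ := ![1074856961, 1141900289, 3786673675, 3769634315]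

/-- the images of `b5` -/
def nB : Fin 4 → ℕ := ![1074922544, 1209057281, 3904019050, 2578882150]

/-- the images of `b5⁻¹` -/
def nB' : Fin 4 → ℕ := ![1073873969, 135316481, 2829229675, 3651574375]

/-- the images of `x5` -/
def nX : Fin 4 → ℕ := ![1074988083, 1276169217, 1276365875, 3423847475]

/-- the images of `x5⁻¹` -/
def nX' : Fin 4 → ℕ := ![1077085233, 3423650817, 3425944625, 1278463025]

/-- the images of `w5` -/
def nW : Fin 4 → ℕ := ![1074988033, 1276118017, 323748100, 272630020]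

theorem chk_all : ∀ i : Fin 4, chk (List.replicate 2 (nA i)) [] = true ∧ chk (List.replicate 3 (nB i)) [] = true ∧
    chk [nA i, nB i] [nX i] = true ∧ chk (List.replicate 5 (nX i)) [] = true ∧ chk [nB i, nB' i] [] = true ∧
    chk [nX i, nX' i] [] = true ∧
    chk [nB i, nA i, nB' i, nA i, nB i, nA i, nB' i, nA i, nB i] [nW i] = true ∧ okb (nX i) = true ∧
    mt (nX i) ≠ mt one := by decide +kernel

theorem exists_ph (i : Fin 4) : ∃ φ : A5 →* S44, φ a5 = G (nA i) ∧ φ b5 = G (nB i) :=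
  exists_hom_alternatingFive (pow_eq_one 2 (chk_all i).1) (pow_eq_one 3 (chk_all i).2.1)
    (by rw [eq2 (chk_all i).2.2.1]; exact pow_eq_one 5 (chk_all i).2.2.2.1)

/-- the four homomorphisms -/
noncomputable def ph (i : Fin 4) : A5 →* S44 := Classical.choose (exists_ph i)

theorem ph_a (i : Fin 4) : ph i a5 = G (nA i) := (Classical.choose_spec (exists_ph i)).1

theorem ph_b (i : Fin 4) : ph i b5 = G (nB i) := (Classical.choose_spec (exists_ph i)).2

theorem ph_b' (i : Fin 4) : (ph i b5)⁻¹ = G (nB' i) := by rw [ph_b, inv_eq (chk_all i).2.2.2.2.1]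

theorem ph_x (i : Fin 4) : ph i x5 = G (nX i) := by rw [x5, map_mul, ph_a, ph_b, eq2 (chk_all i).2.2.1]

theorem ph_x' (i : Fin 4) : (ph i x5)⁻¹ = G (nX' i) := by rw [ph_x, inv_eq (chk_all i).2.2.2.2.2.1]

theorem ph_w (i : Fin 4) : ph i w5 = G (nW i) := by
  rw [w5, pow_two]
  simp only [map_mul, map_inv, ph_b']
  rw [ph_a, ph_b]
  simpa only [mul_assoc, _root_.List.map_cons, _root_.List.map_nil, _root_.List.prod_cons, _root_.List.prod_nil, _root_.mul_one] using prod_eq _ _ (chk_all i).2.2.2.2.2.2.1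

section

variable {S : Type} [Group S]

theorem hom_ext {φ ψ : A5 →* S} (ha : φ a5 = ψ a5) (hb : φ b5 = ψ b5) : φ = ψ :=
  MonoidHom.eq_of_eqOn_dense closure_a5_b5 (by rintro _ (rfl | rfl) <;> assumption)

theorem comm_hom {φ : A5 →* S} {u : S} (ha : Commute (φ a5) u) (hb : Commute (φ b5) u) (g : A5) : Commute (φ g) u := by
  have h : (MulAut.conj u).toMonoidHom.comp φ = φ := hom_ext
    (by show u * φ a5 * u⁻¹ = φ a5; rw [← ha.eq, mul_inv_cancel_right])
    (by show u * φ b5 * u⁻¹ = φ b5; rw [← hb.eq, mul_inv_cancel_right])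
  have h2 : u * φ g * u⁻¹ = φ g := DFunLike.congr_fun h g
  exact (mul_inv_eq_iff_eq_mul.1 h2).symm

theorem comm_homs {φ ψ : A5 →* S} (h1 : Commute (φ a5) (ψ a5)) (h2 : Commute (φ a5) (ψ b5))
    (h3 : Commute (φ b5) (ψ a5)) (h4 : Commute (φ b5) (ψ b5)) (g h : A5) : Commute (φ g) (ψ h) :=
  comm_hom (comm_hom h1.symm h2.symm h).symm (comm_hom h3.symm h4.symm h).symm g

theorem sw_of {φ ψ : A5 →* S} {u : S} (ha : u * φ a5 * u⁻¹ = ψ w5 * ψ a5 * (ψ w5)⁻¹)
    (hb : u * φ b5 * u⁻¹ = ψ w5 * ψ b5 * (ψ w5)⁻¹) (g : A5) : u * φ g * u⁻¹ = ψ (w5 * g * w5⁻¹) := by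
  have h : (MulAut.conj u).toMonoidHom.comp φ = (MulAut.conj (ψ w5)).toMonoidHom.comp ψ := hom_ext ha hb
  rw [map_mul, map_mul, map_inv]
  exact DFunLike.congr_fun h g

end

theorem c01 (g h : A5) : Commute (ph 0 g) (ph 1 h) := by
  refine comm_homs ?_ ?_ ?_ ?_ g h <;> simp only [ph_a, ph_b] <;> exact comm (by decide +kernel)

theorem c23 (g h : A5) : Commute (ph 2 g) (ph 3 h) := by
  refine comm_homs ?_ ?_ ?_ ?_ g h <;> simp only [ph_a, ph_b] <;> exact comm (by decide +kernel)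

theorem ph_ne (i : Fin 4) : ph i x5 ≠ 1 := by
  rw [ph_x]
  exact ne_one (chk_all i).2.2.2.2.2.2.2.1 (chk_all i).2.2.2.2.2.2.2.2

theorem x2_eq : ph 2 x5 = ph 0 x5 * ph 1 x5 := by
  rw [ph_x, ph_x, ph_x]
  exact (eq2 (by decide +kernel)).symm

theorem x3_eq : ph 3 x5 = ph 0 x5 * (ph 1 x5)⁻¹ := by
  rw [ph_x', ph_x, ph_x]
  exact (eq2 (by decide +kernel)).symm

theorem x0_eq : ph 0 x5 = (ph 2 x5 * ph 3 x5) ^ 3 := by
  rw [ph_x, ph_x, ph_x, pow_three']
  simpa [mul_assoc] using prod_eq [nX 0] [nX 2, nX 3, nX 2, nX 3, nX 2, nX 3] (by decide +kernel)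

theorem x1_eq : ph 1 x5 = (ph 2 x5 * (ph 3 x5)⁻¹) ^ 3 := by
  rw [ph_x', ph_x, ph_x, pow_three']
  simpa [mul_assoc] using prod_eq [nX 1] [nX 2, nX' 3, nX 2, nX' 3, nX 2, nX' 3] (by decide +kernel)

theorem w_inv (i : Fin 4) : (ph i w5)⁻¹ = ph i w5 :=
  inv_eq_of_mul_eq_one_right (by rw [← map_mul, w5_sq, map_one])

theorem sw01 (g : A5) : ph 2 w5 * ph 0 g * (ph 2 w5)⁻¹ = ph 1 (w5 * g * w5⁻¹) := by
  refine sw_of ?_ ?_ g <;> simp only [w_inv] <;> simp only [ph_a, ph_b, ph_w]
  · simpa only [mul_assoc, _root_.Fin.isValue, _root_.List.map_cons, _root_.List.map_nil, _root_.List.prod_cons, _root_.List.prod_nil, _root_.mul_one] using prod_eq [nW 2, nA 0, nW 2] [nW 1, nA 1, nW 1] (by decide +kernel)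
  · simpa only [mul_assoc, _root_.Fin.isValue, _root_.List.map_cons, _root_.List.map_nil, _root_.List.prod_cons, _root_.List.prod_nil, _root_.mul_one] using prod_eq [nW 2, nB 0, nW 2] [nW 1, nB 1, nW 1] (by decide +kernel)

theorem sw23 (g : A5) : ph 0 w5 * ph 2 g * (ph 0 w5)⁻¹ = ph 3 (w5 * g * w5⁻¹) := by
  refine sw_of ?_ ?_ g <;> simp only [w_inv] <;> simp only [ph_a, ph_b, ph_w]
  · simpa only [mul_assoc, _root_.Fin.isValue, _root_.List.map_cons, _root_.List.map_nil, _root_.List.prod_cons, _root_.List.prod_nil, _root_.mul_one] using prod_eq [nW 0, nA 2, nW 0] [nW 3, nA 3, nW 3] (by decide +kernel)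
  · simpa only [mul_assoc, _root_.Fin.isValue, _root_.List.map_cons, _root_.List.map_nil, _root_.List.prod_cons, _root_.List.prod_nil, _root_.mul_one] using prod_eq [nW 0, nB 2, nW 0] [nW 3, nB 3, nW 3] (by decide +kernel)

theorem y01 : IsConj (ph 0 b5) (ph 1 b5) := by
  rw [ph_b, ph_b]
  exact isConj (nW 3) (by decide +kernel)

theorem y23 : IsConj (ph 2 b5) (ph 3 b5) := by
  rw [ph_b, ph_b]
  exact isConj 3030597841 (by decide +kernel)

theorem ym : IsConj (ph 0 b5 * ph 1 b5) (ph 2 b5) := by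
  rw [ph_b, ph_b, ph_b, eq2 (c := 1209188400) (by decide +kernel)]
  exact isConj 2830275632 (by decide +kernel)

theorem yd : IsConj (ph 0 b5 * (ph 1 b5)⁻¹) (ph 2 b5) := by
  rw [ph_b', ph_b, ph_b, eq2 (c := 135447600) (by decide +kernel)]
  exact isConj 1085445168 (by decide +kernel)

theorem ym' : IsConj (ph 2 b5 * ph 3 b5) (ph 0 b5) := by
  rw [ph_b, ph_b, ph_b, eq2 (c := 1261962270) (by decide +kernel)]
  exact isConj 1411712015 (by decide +kernel)

theorem yd' : IsConj (ph 2 b5 * (ph 3 b5)⁻¹) (ph 0 b5) := by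
  rw [ph_b', ph_b, ph_b, eq2 (c := 2743770740) (by decide +kernel)]
  exact isConj 1716654773 (by decide +kernel)

theorem tv_a0 : transv (vc 1) 1 = G (nA 0) :=
  Subtype.ext (by rw [coe_G (ok_of (by decide +kernel))]; decide +kernel)

theorem tv_a1 : transv (vc 4) 1 = G (nA 1) :=
  Subtype.ext (by rw [coe_G (ok_of (by decide +kernel))]; decide +kernel)

/-- an orbit -/
noncomputable def orb1 : List ℕ :=
  (by
  refine (?fq9001 : ((pk61l (fun i1 => (pk61d (nat_lit 10) 
    (nat_lit 0xe9bc1d9d638f43a1fa978cfcfca46656d6771ea17d6261d77defcbdbed132449053e6cfc7f0c97ebfa5c3c3b0dbd76fe52c916c5991a45c1749b9a6799a651262a8a7a1e82e93555e95a55b463b8e5d6756e2deebd2dc791e1ef68da25a46f1b3b3ecbb009850827daf6385e1347d161f8776bda4ed52dbb6e9b95cd728be2e8b5fa7e179e6f993f7b5ed1439fa7d9f0db3650f61d85f9fe6f97e43dcf5739cd731e14bda76975bd6487218852120e836c7b16c4b3acdd0f41bbeed22043104e34799765995b7edeb76dc551d274773dc7703ecf96ada96a0a7294e7398e53cf5fd74af2b8ab2a8a95d9755d17f5f57c6fdbe6f50a4258f6398d6318b629896bdad6b0cb326c3b06c011c46114446799d671df779dd77193648ea3a4e828ca2284a06ddb56d18360580318c433ccd66d996602f0b4c3308c13000701805)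 i1)) (nat_lit 0) (nat_lit 254) List.nil) : List ℕ)
    = ?xq9001 → (List ℕ)) ?hq9001; (case hq9001 => (set_option maxRecDepth 1000000 in set_option simprocs false in conv => lhs; reduce; dsimp only)); intro _; exact ?xq9001 : List ℕ)

/-- an orbit -/
noncomputable def orb2 : List ℕ :=
  (by
  refine (?fq9002 : ((pk61l (fun i1 => (pk61d (nat_lit 10) 
    (nat_lit 0xa26c8f2f72127c737e078fef25169c7dd9d673a7651fbbe118a069838ce07c41cdb0d345fa93ecf93e3fafe4ecb3e3161f534aef5b9d55a4e91cd42f0b42c4f075d1f6058cbf2f4bcbbeed98e61982138447d97dba6e327c977edf3d2f47d0d6f582aca964d9264383425e57938c87a1daeec3b097a5e3afeb7172bcac72dc9723bfef796edcb72d103406dbb69db7673b2ccb178de27871fc773fcf50741904957effbbec7bded7b0a72913a4e56759818b1ec6b16c4ddf75dd2459112f4ba779d5735c9719ce7154d52543239fe7e9f67c9be6d1bc6c56b4bd23b3ecbb1ec1c7719c5cbf2d1e25b96658c251344510e1f86e17848e6388ae298a30fc3b0dc31ff7f9fd86e19c6f19c626799a65c425394a519424f93a4ddef7ade778926489ee7a9e333cc60b82a098232bcab28c0f01c026b9aa699a03b0e41304410)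 i1)) (nat_lit 0) (nat_lit 254) List.nil) : List ℕ)
    = ?xq9002 → (List ℕ)) ?hq9002; (case hq9002 => (set_option maxRecDepth 1000000 in set_option simprocs false in conv => lhs; reduce; dsimp only)); intro _; exact ?xq9002 : List ℕ)

theorem gen03 : Subgroup.closure {ph 0 a5, ph 0 b5, ph 3 a5, ph 3 b5} = ⊤ := by
  simp only [ph_a, ph_b]
  refine gen_of [nA 0, nB 0, nA 3, nB 3] (by decide +kernel) (fun a ha => Subgroup.subset_closure ?_) 1
    (by rw [tv_a0]; exact Subgroup.subset_closure (by simp)) orb1 (by decide +kernel)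
  simp only [List.mem_cons, List.not_mem_nil, or_false] at ha
  rcases ha with rfl | rfl | rfl | rfl <;> simp

theorem gen21 : Subgroup.closure {ph 2 a5, ph 2 b5, ph 1 a5, ph 1 b5} = ⊤ := by
  simp only [ph_a, ph_b]
  refine gen_of [nA 2, nB 2, nA 1, nB 1] (by decide +kernel) (fun a ha => Subgroup.subset_closure ?_) 4
    (by rw [tv_a1]; exact Subgroup.subset_closure (by simp)) orb2 (by decide +kernel)
  simp only [List.mem_cons, List.not_mem_nil, or_false] at ha
  rcases ha with rfl | rfl | rfl | rfl <;> simp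

theorem d44 : D44 ph where
  c01 := c01
  c23 := c23
  ne := ph_ne
  pts := ⟨1, Or.inl rfl, by rw [pow_one, x2_eq], by rw [pow_one, x3_eq]⟩
  sw01 := fun g => ⟨_, sw01 g⟩
  sw23 := fun g => ⟨_, sw23 g⟩
  y01 := y01
  ym := ym
  yd := yd
  gen := gen03

theorem d44' : D44 (swp ph) where
  c01 := c23
  c23 := c01
  ne := fun i => by fin_cases i <;> exact ph_ne _
  pts := ⟨3, Or.inr rfl, x0_eq, x1_eq⟩
  sw01 := fun g => ⟨_, sw23 g⟩
  sw23 := fun g => ⟨_, sw01 g⟩
  y01 := y23
  ym := ym'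
  yd := yd'
  gen := gen21

end Cfsg.Agent.E82.Grp
end

-- part: E82/M44/Let
section
/-!
# The pressure machine for `Sp₄(4)`: the letters (helper79)

With `α = e₁ - e₂`, `β = 2 e₂`: the letters `0, …, 7` are `x_r(1)`, `x_r(w)` for `r = -α, -β, -α-β, -2α-β`, the letters
`8, …, 11` are `x_r(1)`, `x_r(w)` for `r = α, β`, the letters `12`, `13` are `h_α(w)`, `h_β(w)`.

* `sg j` : the letters; `evL w` : the number of a word; `okW` : the oracle; `good` : it is sound.
-/

set_option autoImplicit false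
set_option maxRecDepth 100000

namespace Cfsg.Agent.E82.M44

open Module Cfsg.Agent.E82.Mach Cfsg.Agent.E82.Grp
open Cfsg.Agent.Lib.VonDyck (a5 b5)
open Cfsg.Agent.E82.F5 (x5 w5)

/-- the matrices of the letters -/
def LET : List ℕ :=
  [1343226885, 1611662345, 1074807809, 1074824193, 1074795585, 1074799745, 1074791441,
   1074791457, 1078985985, 1083180545, 1141900289, 1209009153, 2150632450, 3222276097]

/-- the letters -/
noncomputable def sg (j : ℕ) : S44 := G (LET.getD j one)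

/-- the letters on the vectors -/
def TB : List ℕ :=
  [0xc3c6c9ccc7c2cdc8cbcec1c4cfcac5c0d3d6d9dcd7d2ddd8dbded1d4dfdad5d0e3e6e9ece7e2ede8ebeee1e4efeae5e0f3f6f9fcf7f2fdf8fbfef1f4fffaf5f09396999c97929d989b9e91949f9a95908386898c87828d888b8e81848f8a8580b3b6b9bcb7b2bdb8bbbeb1b4bfbab5b0a3a6a9aca7a2ada8abaea1a4afaaa5a06366696c67626d686b6e61646f6a65607376797c77727d787b7e71747f7a75704346494c47424d484b4e41444f4a45405356595c57525d585b5e51545f5a55503336393c37323d383b3e31343f3a35302326292c27222d282b2e21242f2a25201316191c17121d181b1e11141f1a15100306090c07020d080b0e01040f0a0500,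
   0xebe2e5ecefe6e1e8e3eaede4e7eee9e0fbf2f5fcfff6f1f8f3fafdf4f7fef9f0cbc2c5cccfc6c1c8c3cacdc4c7cec9c0dbd2d5dcdfd6d1d8d3daddd4d7ded9d08b82858c8f868188838a8d84878e89809b92959c9f969198939a9d94979e9990aba2a5acafa6a1a8a3aaada4a7aea9a0bbb2b5bcbfb6b1b8b3babdb4b7beb9b05b52555c5f565158535a5d54575e59504b42454c4f464148434a4d44474e49407b72757c7f767178737a7d74777e79706b62656c6f666168636a6d64676e69603b32353c3f363138333a3d34373e39302b22252c2f262128232a2d24272e29201b12151c1f161118131a1d14171e19100b02050c0f060108030a0d04070e0900,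
   0x3f3e3d3c7b7a7978b7b6b5b4f3f2f1f02f2e2d2c6b6a6968a7a6a5a4e3e2e1e01f1e1d1c5b5a595897969594d3d2d1d00f0e0d0c4b4a494887868584c3c2c1c07f7e7d7c3b3a3938f7f6f5f4b3b2b1b06f6e6d6c2b2a2928e7e6e5e4a3a2a1a05f5e5d5c1b1a1918d7d6d5d4939291904f4e4d4c0b0a0908c7c6c5c483828180bfbebdbcfbfaf9f83736353473727170afaeadacebeae9e827262524636261609f9e9d9cdbdad9d817161514535251508f8e8d8ccbcac9c80706050443424140fffefdfcbbbab9b87776757433323130efeeedecabaaa9a86766656423222120dfdedddc9b9a99985756555413121110cfcecdcc8b8a89884746454403020100,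
   0xbfbebdbc3b3a393877767574f3f2f1f0afaeadac2b2a292867666564e3e2e1e09f9e9d9c1b1a191857565554d3d2d1d08f8e8d8c0b0a090847464544c3c2c1c0fffefdfc7b7a797837363534b3b2b1b0efeeedec6b6a696827262524a3a2a1a0dfdedddc5b5a59581716151493929190cfcecdcc4b4a494807060504838281803f3e3d3cbbbab9b8f7f6f5f4737271702f2e2d2cabaaa9a8e7e6e5e4636261601f1e1d1c9b9a9998d7d6d5d4535251500f0e0d0c8b8a8988c7c6c5c4434241407f7e7d7cfbfaf9f8b7b6b5b4333231306f6e6d6cebeae9e8a7a6a5a4232221205f5e5d5cdbdad9d897969594131211104f4e4d4ccbcac9c88786858403020100,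
   0xf4e8dcc1b5a99d82766a5e43372b1f01f5e9ddc0b4a89c83776b5f42362a1e02f6eadec3b7ab9f8074685c4135291d03f7ebdfc2b6aa9e8175695d4034281c04f0ecd8c5b1ad9986726e5a47332f1b05f1edd9c4b0ac9887736f5b46322e1a06f2eedac7b3af9b84706c5845312d1907f3efdbc6b2ae9a85716d5944302c1808fce0d4c9bda1958a7e62564b3f231709fde1d5c8bca0948b7f63574a3e22160afee2d6cbbfa397887c6054493d21150bffe3d7cabea296897d6155483c20140cf8e4d0cdb9a5918e7a66524f3b27130df9e5d1ccb8a4908f7b67534e3a26120efae6d2cfbba7938c7864504d3925110ffbe7d3cebaa6928d7965514c3824100,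
   0xaf2e6dec8b0a49c8971655d4b33271f0bf3e7dfc9b1a59d8870645c4a32261e08f0e4dccab2a69e8b73675f4931251d09f1e5ddcbb3a79f8a72665e4830241c0ef6e2daccb4a0988d7561594f37231b0ff7e3dbcdb5a1998c7460584e36221a0cf4e0d8ceb6a29a8f77635b4d3521190df5e1d9cfb7a39b8e76625a4c34201802faeed6c0b8ac9481796d55433b2f1703fbefd7c1b9ad9580786c54423a2e1600f8ecd4c2baae96837b6f5741392d1501f9edd5c3bbaf97827a6e5640382c1406feead2c4bca890857d6951473f2b1307ffebd3c5bda991847c6850463e2a1204fce8d0c6beaa92877f6b53453d291105fde9d1c7bfab93867e6a52443c28100,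
   0xcfdeedfccbdae9f8c7d6e5f4c3d2e1f0dfcefdecdbcaf9e8d7c6f5e4d3c2f1e0effecddcebfac9d8e7f6c5d4e3f2c1d0ffeeddccfbead9c8f7e6d5c4f3e2d1c08f9eadbc8b9aa9b88796a5b48392a1b09f8ebdac9b8ab9a89786b5a49382b1a0afbe8d9cabba8998a7b68594a3b28190bfae9d8cbbaa9988b7a69584b3a291804f5e6d7c4b5a697847566574435261705f4e7d6c5b4a796857467564534271606f7e4d5c6b7a495867764554637241507f6e5d4c7b6a594877665544736251400f1e2d3c0b1a293807162534031221301f0e3d2c1b0a392817063524130231202f3e0d1c2b3a091827360514233201103f2e1d0c3b2a19083726150433221100,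
   0xefceddfcebcad9f8e7c6d5f4e3c2d1f0ffdecdecfbdac9e8f7d6c5e4f3d2c1e0cfeefddccbeaf9d8c7e6f5d4c3e2f1d0dffeedccdbfae9c8d7f6e5c4d3f2e1c0af8e9dbcab8a99b8a78695b4a38291b0bf9e8dacbb9a89a8b79685a4b39281a08faebd9c8baab99887a6b59483a2b1909fbead8c9bbaa98897b6a58493b2a1806f4e5d7c6b4a597867465574634251707f5e4d6c7b5a496877564564735241604f6e7d5c4b6a795847667554436271505f7e6d4c5b7a694857766544537261402f0e1d3c2b0a193827061534230211303f1e0d2c3b1a092837160524331201200f2e3d1c0b2a391807263514032231101f3e2d0c1b3a29081736250413322100,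
   0x3c3d3e3f39383b3a36373435333231306c6d6e6f69686b6a66676465636261609c9d9e9f99989b9a9697949593929190cccdcecfc9c8cbcac6c7c4c5c3c2c1c07c7d7e7f79787b7a76777475737271702c2d2e2f29282b2a2627242523222120dcdddedfd9d8dbdad6d7d4d5d3d2d1d08c8d8e8f89888b8a8687848583828180bcbdbebfb9b8bbbab6b7b4b5b3b2b1b0ecedeeefe9e8ebeae6e7e4e5e3e2e1e01c1d1e1f19181b1a16171415131211104c4d4e4f49484b4a4647444543424140fcfdfefff9f8fbfaf6f7f4f5f3f2f1f0acadaeafa9a8abaaa6a7a4a5a3a2a1a05c5d5e5f59585b5a56575455535251500c0d0e0f09080b0a0607040503020100,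
   0xbebfbcbdb8b9babbb5b4b7b6b3b2b1b02e2f2c2d28292a2b25242726232221205e5f5c5d58595a5b5554575653525150cecfcccdc8c9cacbc5c4c7c6c3c2c1c0fefffcfdf8f9fafbf5f4f7f6f3f2f1f06e6f6c6d68696a6b65646766636261601e1f1c1d18191a1b15141716131211108e8f8c8d88898a8b85848786838281803e3f3c3d38393a3b3534373633323130aeafacada8a9aaaba5a4a7a6a3a2a1a0dedfdcddd8d9dadbd5d4d7d6d3d2d1d04e4f4c4d48494a4b45444746434241407e7f7c7d78797a7b7574777673727170eeefecede8e9eaebe5e4e7e6e3e2e1e09e9f9c9d98999a9b95949796939291900e0f0c0d08090a0b0504070603020100,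
   0xf3f2f1f0f7f6f5f4fbfaf9f8fffefdfce3e2e1e0e7e6e5e4ebeae9e8efeeedecd3d2d1d0d7d6d5d4dbdad9d8dfdedddcc3c2c1c0c7c6c5c4cbcac9c8cfcecdccb7b6b5b4b3b2b1b0bfbebdbcbbbab9b8a7a6a5a4a3a2a1a0afaeadacabaaa9a897969594939291909f9e9d9c9b9a999887868584838281808f8e8d8c8b8a89887b7a79787f7e7d7c73727170777675746b6a69686f6e6d6c63626160676665645b5a59585f5e5d5c53525150575655544b4a49484f4e4d4c43424140474645443f3e3d3c3b3a393837363534333231302f2e2d2c2b2a292827262524232221201f1e1d1c1b1a191817161514131211100f0e0d0c0b0a09080706050403020100,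
   0xfbfaf9f8fffefdfcf3f2f1f0f7f6f5f4ebeae9e8efeeedece3e2e1e0e7e6e5e4dbdad9d8dfdedddcd3d2d1d0d7d6d5d4cbcac9c8cfcecdccc3c2c1c0c7c6c5c4b3b2b1b0b7b6b5b4bbbab9b8bfbebdbca3a2a1a0a7a6a5a4abaaa9a8afaeadac93929190979695949b9a99989f9e9d9c83828180878685848b8a89888f8e8d8c77767574737271707f7e7d7c7b7a797867666564636261606f6e6d6c6b6a696857565554535251505f5e5d5c5b5a595847464544434241404f4e4d4c4b4a49483f3e3d3c3b3a393837363534333231302f2e2d2c2b2a292827262524232221201f1e1d1c1b1a191817161514131211100f0e0d0c0b0a09080706050403020100,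
   0x696b6a68656766646d6f6e6c61636260595b5a58555756545d5f5e5c51535250797b7a78757776747d7f7e7c71737270494b4a48454746444d4f4e4c41434240e9ebeae8e5e7e6e4edefeeece1e3e2e0d9dbdad8d5d7d6d4dddfdedcd1d3d2d0f9fbfaf8f5f7f6f4fdfffefcf1f3f2f0c9cbcac8c5c7c6c4cdcfceccc1c3c2c0a9abaaa8a5a7a6a4adafaeaca1a3a2a0999b9a98959796949d9f9e9c91939290b9bbbab8b5b7b6b4bdbfbebcb1b3b2b0898b8a88858786848d8f8e8c81838280292b2a28252726242d2f2e2c21232220191b1a18151716141d1f1e1c11131210393b3a38353736343d3f3e3c31333230090b0a08050706040d0f0e0c01030200,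
   0xb7b6b5b4bfbebdbcbbbab9b8b3b2b1b0a7a6a5a4afaeadacabaaa9a8a3a2a1a0979695949f9e9d9c9b9a999893929190878685848f8e8d8c8b8a898883828180777675747f7e7d7c7b7a797873727170676665646f6e6d6c6b6a696863626160575655545f5e5d5c5b5a595853525150474645444f4e4d4c4b4a494843424140f7f6f5f4fffefdfcfbfaf9f8f3f2f1f0e7e6e5e4efeeedecebeae9e8e3e2e1e0d7d6d5d4dfdedddcdbdad9d8d3d2d1d0c7c6c5c4cfcecdcccbcac9c8c3c2c1c0373635343f3e3d3c3b3a393833323130272625242f2e2d2c2b2a292823222120171615141f1e1d1c1b1a191813121110070605040f0e0d0c0b0a090803020100]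

/-- the product of a letter with a matrix -/
noncomputable def st (j P : ℕ) : ℕ := frc (TB.getD j 0) fun t =>
  Nat.add (Nat.add (cl t (cl P 0)) (Nat.mul 256 (cl t (cl P 1))))
    (Nat.mul 65536 (Nat.add (cl t (cl P 2)) (Nat.mul 256 (cl t (cl P 3)))))

private noncomputable def _root_.Cfsg.Agent.KOb53ee01.k8 : type_of% @Nat.decEq := @(fun x0 x1 => @Bool.rec.{1} @(fun x2 => (@Eq.{1} _ (@Nat.beq @x0 @x1) @x2) → @Decidable (@Eq.{1} _ @x0 @x1)) @(fun x2 => @Decidable.isFalse _ (@Nat.ne_of_beq_eq_false _ _ @x2)) @(fun x2 => @Decidable.isTrue _ (@Nat.eq_of_beq_eq_true _ _ @x2)) (@Nat.beq @x0 @x1) (@Eq.refl.{1} _ (@Nat.beq @x0 @x1)))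
private theorem _root_.Cfsg.Agent.KOb53ee01.e8 : @Nat.decEq = @_root_.Cfsg.Agent.KOb53ee01.k8 := by delta _root_.Cfsg.Agent.KOb53ee01.k8; rfl'
private noncomputable def _root_.Cfsg.Agent.KOb53ee01.k28 : type_of% @instDecidableEqBool := @Cfsg.Agent.KOb53ee01.k3
private theorem _root_.Cfsg.Agent.KOb53ee01.e28 : @instDecidableEqBool = @_root_.Cfsg.Agent.KOb53ee01.k28 := by delta _root_.Cfsg.Agent.KOb53ee01.k28; rewrite [← Cfsg.Agent.KOb53ee01.e3]; rfl'
private noncomputable def _root_.Cfsg.Agent.KOb53ee01.k29.{ku0} : type_of% @List.all.{ku0} := @(fun x0 x1 x2 => @List.rec.{(ku0+1), ku0} @x0 @(fun x3 => (@x0 → @Bool) → @Bool) @(fun x3 => @Bool.true) @(fun x3 x4 x5 x6 => @Bool.rec.{1} @(fun x7 => @Bool) @Bool.false (@x5 @x6) (@x6 @x3)) @x1 @x2)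
private theorem _root_.Cfsg.Agent.KOb53ee01.e29.{ku0} : @List.all.{ku0} = @_root_.Cfsg.Agent.KOb53ee01.k29.{ku0} := by delta _root_.Cfsg.Agent.KOb53ee01.k29; funext a0 a1 a2; refine (congrFun (_root_.Cfsg.Agent.KOb53ee01.e13 (fun a1 a2 => @List.all.{ku0} a0 a1 a2) ?_ (fun c0 c1 => ?_) a1) a2 :) <;> (rfl')
private noncomputable def _root_.Cfsg.Agent.KOb53ee01.k30 : (by first | exact type_of% @Cfsg.Agent.E82.Grp.cl | exact Unit : Sort _) := by first | (refine @Subtype.val _ (fun g => @Cfsg.Agent.E82.Grp.cl = @g) (@Subtype.mk _ _ (@(fun x0 x1 => @Nat.land (@Nat.shiftRight @x0 (@Nat.mul (nat_lit 8) @x1)) (nat_lit 255))) ?_); rfl') | exact @Cfsg.Agent.E82.Grp.cl | exact ()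
private theorem _root_.Cfsg.Agent.KOb53ee01.e30 : (by first | exact @Cfsg.Agent.E82.Grp.cl = @_root_.Cfsg.Agent.KOb53ee01.k30 | exact True : Prop) := by first | (delta _root_.Cfsg.Agent.KOb53ee01.k30; exact @Subtype.property _ (fun g => @Cfsg.Agent.E82.Grp.cl = @g) _) | rfl | trivial
private noncomputable def _root_.Cfsg.Agent.KOb53ee01.k31 : (by first | exact type_of% @Cfsg.Agent.E82.Grp.fm | exact Unit : Sort _) := by first | (refine @Subtype.val _ (fun g => @Cfsg.Agent.E82.Grp.fm = @g) (@Subtype.mk _ _ (@(fun x0 x1 => @Nat.land (@Nat.xor (@Nat.xor (@Cfsg.Agent.KOb53ee01.k7 @x0 (@Cfsg.Agent.KOb53ee01.k30 (@Nat.shiftRight @x1 (nat_lit 4)) (nat_lit 0))) (@Cfsg.Agent.KOb53ee01.k7 (@Nat.shiftRight @x0 (nat_lit 2)) (@Cfsg.Agent.KOb53ee01.k30 (@Nat.shiftRight @x1 (nat_lit 6)) (nat_lit 0)))) (@Nat.xor (@Cfsg.Agent.KOb53ee01.k7 (@Nat.shiftRight @x0 (nat_lit 4)) (@Cfsg.Agent.KOb53ee01.k30 @x1 (nat_lit 0))) (@Cfsg.Agent.KOb53ee01.k7 (@Nat.shiftRight @x0 (nat_lit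 6)) (@Cfsg.Agent.KOb53ee01.k30 (@Nat.shiftRight @x1 (nat_lit 2)) (nat_lit 0))))) (nat_lit 3))) ?_); rewrite [← Cfsg.Agent.KOb53ee01.e30, ← Cfsg.Agent.KOb53ee01.e7]; (try delta Cfsg.Agent.E82.Grp.fm); (try generalize @Cfsg.Agent.E82.Grp.sm = g0); (try generalize @Cfsg.Agent.E82.Grp.cl = g1); rfl') | exact @Cfsg.Agent.E82.Grp.fm | exact ()
private theorem _root_.Cfsg.Agent.KOb53ee01.e31 : (by first | exact @Cfsg.Agent.E82.Grp.fm = @_root_.Cfsg.Agent.KOb53ee01.k31 | exact True : Prop) := by first | (delta _root_.Cfsg.Agent.KOb53ee01.k31; exact @Subtype.property _ (fun g => @Cfsg.Agent.E82.Grp.fm = @g) _) | rfl | trivial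
private noncomputable def _root_.Cfsg.Agent.KOb53ee01.k32 : (by first | exact type_of% @Cfsg.Agent.E82.Grp.okb | exact Unit : Sort _) := by first | (refine @Subtype.val _ (fun g => @Cfsg.Agent.E82.Grp.okb = @g) (@Subtype.mk _ _ (@(fun x0 => @Cfsg.Agent.KOb53ee01.k29.{0} _ ((nat_lit 0) :: ((nat_lit 1) :: ((nat_lit 2) :: ((nat_lit 3) :: [])))) @(fun x1 => @Cfsg.Agent.KOb53ee01.k29.{0} _ ((nat_lit 0) :: ((nat_lit 1) :: ((nat_lit 2) :: ((nat_lit 3) :: [])))) @(fun x2 => @Nat.beq (@Cfsg.Agent.KOb53ee01.k31 (@Cfsg.Agent.KOb53ee01.k30 @x0 @x1) (@Cfsg.Agent.KOb53ee01.k30 @x0 @x2)) (@Cfsg.Agent.KOb53ee01.k31 (@Cfsg.Agent.KOb53ee01.k30 @Cfsg.Agent.E82.Grp.one @x1) (@Cfsg.Agent.KOb53ee01.k30 @Cfsg.Agent.E82.Grp.one @x2)))))) ?_); rewrite [← Cfsg.Agent.KOb53ee01.e30, ← Cfsg.Agent.KOb53ee01.e31, ← Cfsg.Agent.KOb53ee01.e29.{0}]; (try delta Cfsg.Agent.E82.Grp.okb); (try generalize @Cfsg.Agent.E82.Grp.fm = g0); (try generalize @Cfsg.Agent.E82.Grp.cl = g1); (try generalize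 @Cfsg.Agent.E82.Grp.one = g2); rfl') | exact @Cfsg.Agent.E82.Grp.okb | exact ()
private theorem _root_.Cfsg.Agent.KOb53ee01.e32 : (by first | exact @Cfsg.Agent.E82.Grp.okb = @_root_.Cfsg.Agent.KOb53ee01.k32 | exact True : Prop) := by first | (delta _root_.Cfsg.Agent.KOb53ee01.k32; exact @Subtype.property _ (fun g => @Cfsg.Agent.E82.Grp.okb = @g) _) | rfl | trivial
private noncomputable def _root_.Cfsg.Agent.KOb53ee01.k34.{ku0} : type_of% @List.get?Internal.{ku0} := @(fun x0 x1 x2 => @List.rec.{(ku0+1), ku0} @x0 @(fun x3 => ℕ → @Option.{ku0} @x0) @(fun x3 => @Option.none.{ku0} _) @(fun x3 x4 x5 x6 => @Nat.rec.{(ku0+1)} @(fun x7 => @Option.{ku0} @x0) (@Option.some.{ku0} _ @x3) @(fun x7 x8 => @x5 @x7) @x6) @x1 @x2)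
private theorem _root_.Cfsg.Agent.KOb53ee01.e34.{ku0} : @List.get?Internal.{ku0} = @_root_.Cfsg.Agent.KOb53ee01.k34.{ku0} := by delta _root_.Cfsg.Agent.KOb53ee01.k34; funext a0 a1 a2; refine (congrFun (_root_.Cfsg.Agent.KOb53ee01.e13 (fun a1 a2 => @List.get?Internal.{ku0} a0 a1 a2) ?_ (fun c0 c1 => ?_) a1) a2 :) <;> [(funext b0; (rfl')); (funext b0; (cases b0 with | @zero  => (rfl') | @succ b0_0 => (rfl')))]
private noncomputable def _root_.Cfsg.Agent.KOb53ee01.k35.{ku0} : type_of% @List.getD.{ku0} := @(fun x0 x1 x2 x3 => @Option.rec.{(ku0+1), ku0} @x0 @(fun x4 => @x0) @x3 @(fun x4 => @x4) (@Cfsg.Agent.KOb53ee01.k34.{ku0} _ @x1 @x2))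
private theorem _root_.Cfsg.Agent.KOb53ee01.e35.{ku0} : @List.getD.{ku0} = @_root_.Cfsg.Agent.KOb53ee01.k35.{ku0} := by delta _root_.Cfsg.Agent.KOb53ee01.k35; rewrite [← Cfsg.Agent.KOb53ee01.e34.{ku0}]; rfl'
private noncomputable def _root_.Cfsg.Agent.KOb53ee01.k36 : type_of% @instDecidableEqNat := @Cfsg.Agent.KOb53ee01.k8
private theorem _root_.Cfsg.Agent.KOb53ee01.e36 : @instDecidableEqNat = @_root_.Cfsg.Agent.KOb53ee01.k36 := by delta _root_.Cfsg.Agent.KOb53ee01.k36; rewrite [← Cfsg.Agent.KOb53ee01.e8]; rfl'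
private noncomputable def _root_.Cfsg.Agent.KOb53ee01.k37 : (by first | exact type_of% @Cfsg.Agent.E82.Grp.ap | exact Unit : Sort _) := by first | (refine @Subtype.val _ (fun g => @Cfsg.Agent.E82.Grp.ap = @g) (@Subtype.mk _ _ (@(fun x0 x1 => @Nat.xor (@Nat.xor (@Cfsg.Agent.KOb53ee01.k7 @x1 (@Cfsg.Agent.KOb53ee01.k30 @x0 (nat_lit 0))) (@Cfsg.Agent.KOb53ee01.k7 (@Nat.shiftRight @x1 (nat_lit 2)) (@Cfsg.Agent.KOb53ee01.k30 @x0 (nat_lit 1)))) (@Nat.xor (@Cfsg.Agent.KOb53ee01.k7 (@Nat.shiftRight @x1 (nat_lit 4)) (@Cfsg.Agent.KOb53ee01.k30 @x0 (nat_lit 2))) (@Cfsg.Agent.KOb53ee01.k7 (@Nat.shiftRight @x1 (nat_lit 6)) (@Cfsg.Agent.KOb53ee01.k30 @x0 (nat_lit 3)))))) ?_); rewrite [← Cfsg.Agent.KOb53ee01.e30, ← Cfsg.Agent.KOb53ee01.e7]; (try delta Cfsg.Agent.E82.Grp.ap); (try generalize @Cfsg.Agent.E82.Grp.sm = g0); (try generalize @Cfsg.Agent.E82.Grp.cl = g1); rfl') | exact @Cfsg.Agent.E82.Grp.ap | exact ()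
private theorem _root_.Cfsg.Agent.KOb53ee01.e37 : (by first | exact @Cfsg.Agent.E82.Grp.ap = @_root_.Cfsg.Agent.KOb53ee01.k37 | exact True : Prop) := by first | (delta _root_.Cfsg.Agent.KOb53ee01.k37; exact @Subtype.property _ (fun g => @Cfsg.Agent.E82.Grp.ap = @g) _) | rfl | trivial

theorem tb_ok : ∀ j < 14, okb (LET.getD j one) = true ∧ ∀ v < 256, cl (TB.getD j 0) v = ap (LET.getD j one) v := by
  (first | (refine of_decide_eq_true ?_; rewrite [Cfsg.Agent.KOb53ee01.e0, Cfsg.Agent.KOb53ee01.e1, Cfsg.Agent.KOb53ee01.e2, Cfsg.Agent.KOb53ee01.e28, Cfsg.Agent.KOb53ee01.e32, Cfsg.Agent.KOb53ee01.e35.{0}, Cfsg.Agent.KOb53ee01.e36, Cfsg.Agent.KOb53ee01.e30, Cfsg.Agent.KOb53ee01.e37]; decide +kernel) | decide +kernel)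

theorem st_eq {j : ℕ} (hj : j < 14) (P : ℕ) : st j P = mul (LET.getD j one) P := by
  have h := fun k => (tb_ok j hj).2 _ (cl_lt P k)
  rw [st, frc_eq, h, h, h, h]
  rfl

/-- the number of a word -/
noncomputable def evL (w : List ℕ) : ℕ := List.rec one (fun j _ r => frc r (st j)) w

theorem pw_spec {w : List ℕ} (h : inR 14 w = true) : Ok (evL w) ∧ pw sg w = G (evL w) := by
  have h' := inR_lt h
  clear h
  induction w with
  | nil => exact ⟨ok_one, G_one.symm⟩
  | cons j w ih =>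
    obtain ⟨h1, h2⟩ := ih fun i hi => h' i (List.mem_cons_of_mem _ hi)
    have hj := h' j List.mem_cons_self
    have e : evL (j :: w) = mul (LET.getD j one) (evL w) := (frc_eq _ _).trans (st_eq hj _)
    rw [e, pw_cons, h2, sg, G_mul (ok_of (tb_ok j hj).1) h1]
    exact ⟨(ok_of (tb_ok j hj).1).mul h1, rfl⟩

/-- the element of a word -/
theorem pw_G {w : List ℕ} {a : ℕ} (h : (inR 14 w && Nat.beq (evL w) a) = true) : pw sg w = G a := by
  rw [Bool.and_eq_true] at h
  rw [(pw_spec h.1).2, Nat.eq_of_beq_eq_true h.2]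

/-- the oracle -/
noncomputable def okW (w w' : List ℕ) : Bool := inR 14 w && (inR 14 w' && Nat.beq (evL w) (evL w'))

theorem pw_eq {w w' : List ℕ} (h : okW w w' = true) : pw sg w = pw sg w' := by
  rw [okW, Bool.and_eq_true, Bool.and_eq_true] at h
  rw [(pw_spec h.1).2, (pw_spec h.2.1).2, Nat.eq_of_beq_eq_true h.2.2]

theorem good {V : Type} [AddCommGroup V] [Module F2 V] (τ : S44 →* End F2 V) : Good okW 14 (opR τ sg 14) := by
  refine ⟨fun w w' e => ?_, fun j hj => if_neg (not_lt.2 hj)⟩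
  have e1 := pw_eq e
  rw [okW, Bool.and_eq_true, Bool.and_eq_true] at e
  rw [wd_opR τ sg (inR_lt e.1), wd_opR τ sg (inR_lt e.2.1), e1]

/-- the words of the `ph i a5` -/
def wA : Fin 4 → List ℕ := ![[0, 8, 10, 8, 0], [10], [12, 11, 1, 9, 10, 12], [0, 9, 0]]

/-- the words of the `ph i b5` -/
def wB : Fin 4 → List ℕ := ![[0, 8, 11, 8, 7, 6, 0], [11, 3, 2], [3, 10, 8, 11, 6, 9, 12, 11], [11, 8, 3, 10, 0, 9, 5]]

/-- the words of the `ph i x5` -/
def wX : Fin 4 → List ℕ := ![[0, 8, 11, 10, 8, 7, 6, 0], [11, 10, 3, 2], [9, 11, 8, 10, 6, 8, 7, 9], [4, 10, 8, 11, 9, 4, 1, 0]]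

/-- the words of the `ph i w5` -/
def wW : Fin 4 → List ℕ := ![[0, 8, 11, 10, 8, 0], [11, 10], [0, 2, 11, 9, 11, 2, 0], [0, 8, 0]]

theorem w_all : ∀ i : Fin 4, (inR 14 (wA i) && Nat.beq (evL (wA i)) (nA i)) = true ∧
    (inR 14 (wB i) && Nat.beq (evL (wB i)) (nB i)) = true ∧ (inR 14 (wX i) && Nat.beq (evL (wX i)) (nX i)) = true ∧
    (inR 14 (wW i) && Nat.beq (evL (wW i)) (nW i)) = true := by decide +kernel

theorem pw_A (i : Fin 4) : pw sg (wA i) = ph i a5 := (pw_G (w_all i).1).trans (ph_a i).symm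

theorem pw_B (i : Fin 4) : pw sg (wB i) = ph i b5 := (pw_G (w_all i).2.1).trans (ph_b i).symm

theorem pw_X (i : Fin 4) : pw sg (wX i) = ph i x5 := (pw_G (w_all i).2.2.1).trans (ph_x i).symm

theorem pw_W (i : Fin 4) : pw sg (wW i) = ph i w5 := (pw_G (w_all i).2.2.2).trans (ph_w i).symm

/-- the letters generate the group -/
theorem sg_gen {M : Subgroup S44} (h : ∀ j < 14, sg j ∈ M) : M = ⊤ := by
  have h1 : ∀ w, inR 14 w = true → pw sg w ∈ M := fun w hw => pw_mem h (inR_lt hw)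
  rw [eq_top_iff, ← gen03, Subgroup.closure_le]
  rintro _ (rfl | rfl | rfl | rfl)
  · exact pw_A 0 ▸ h1 _ rfl
  · exact pw_B 0 ▸ h1 _ rfl
  · exact pw_A 3 ▸ h1 _ rfl
  · exact pw_B 3 ▸ h1 _ rfl

end Cfsg.Agent.E82.M44
end

-- part: E82/M44/Wv
section
/-!
# The pressure machine for `Sp₄(4)`: weight vectors (helper79)

The letters `0, …, 7` are the negative root elements, the letters `8, …, 13` are the simple positive root elements and
two generators of the torus.

* `Blk`, `WV` : a weight vector `x` with a second vector `h x`; `gen4` : they generate under the negative root elements;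
* `iso4` : uniqueness; `exists_wv` : existence; `tb_iso` : the comparison with a table.
-/

set_option autoImplicit false

namespace Cfsg.Agent.E82.M44

open Module Cfsg.Agent.E82.Mach

/-- the members of a list selected by the bits of a number -/
noncomputable def sel {α : Type} (L : List α) : ℕ → List α :=
  List.rec (motive := fun _ => ℕ → List α) (fun _ => [])
    (fun x _ ih m => cond (tb m 0) (x :: ih (Nat.shiftRight m 1)) (ih (Nat.shiftRight m 1))) L

theorem mem_sel {α : Type} {L : List α} {m : ℕ} {x : α} (h : x ∈ sel L m) : x ∈ L := by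
  induction L generalizing m with
  | nil => exact h
  | cons y L ih =>
    have h' : x ∈ cond (tb m 0) (y :: sel L (m >>> 1)) (sel L (m >>> 1)) := h
    cases e : tb m 0 with
    | false => rw [e] at h'; exact List.mem_cons_of_mem _ (ih h')
    | true =>
      rw [e] at h'
      rcases List.mem_cons.1 h' with rfl | h'
      · exact List.mem_cons_self
      · exact List.mem_cons_of_mem _ (ih h')

/-- a block: the letters of a radical, representatives, the letters which normalise the radical -/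
structure Blk where
  /-- the letters of the radical -/
  R : List ℕ
  /-- the representatives -/
  Y : List (List ℕ)
  /-- the normalising letters with the conjugates of the letters of the radical -/
  gs : List (ℕ × List (List ℕ))

/-- the relations that are used -/
def Blk.rels (b : Blk) : List (List ℕ × List ℕ) :=
  b.gs.flatMap fun g => b.R.map fun r => ([g.1, r], g.2.getD r [] ++ [g.1])

/-- the shape of a block -/
def Blk.syn (b : Blk) : Bool :=
  inR 8 b.R && (b.gs.all fun g => b.R.all fun r => (g.2.getD r []).all fun t => b.R.contains t) &&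
    ((List.range 8).all fun j => b.R.contains j || (b.gs.map Prod.fst).contains j) && b.Y.contains [] && b.Y.all (inR 8)

/-- the words of the generating vectors -/
def Blk.S (b : Blk) (h : List ℕ) : List (List ℕ) := b.Y.flatMap fun y => [y, y ++ h]

/-- the images of the generating vectors -/
noncomputable def Blk.veq (b : Blk) (h : List ℕ) (M : ℕ) : List (List ℕ × List (List ℕ)) :=
  b.gs.flatMap fun g => (List.range (b.S h).length).map fun i =>
    (g.1 :: (b.S h).getD i [], sel (b.S h) (Nat.shiftRight M (Nat.mul 8 (Nat.add (Nat.mul 8 g.1) i))))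

/-- the shape of the blocks -/
noncomputable def synOk (bs : List Blk) : Bool :=
  bs.all Blk.syn && (List.range 6).all fun i => bs.any fun b => (b.gs.map Prod.fst).contains (8 + i)

section

variable {V V' : Type*} [AddCommGroup V] [Module F2 V] [AddCommGroup V'] [Module F2 V']

/-- a weight vector -/
structure WV (bs : List Blk) (h : List ℕ) (M : ℕ) (a : ℕ → End F2 V) (x : V) : Prop where
  rel : ∀ p ∈ bs.flatMap Blk.rels, wd a p.1 = wd a p.2
  out : ∀ j, 14 ≤ j → a j = 0
  vec : ∀ q ∈ bs.flatMap fun b => b.veq h M, wd a q.1 x = sumW a q.2 x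

theorem sumW_mem {a : ℕ → End F2 V} {L : List (List ℕ)} {x : V} {N : Submodule F2 V} (h : ∀ w ∈ L, wd a w x ∈ N) :
    sumW a L x ∈ N := by
  induction L with
  | nil => exact N.zero_mem
  | cons w L ih =>
    rw [sumW_cons]
    exact N.add_mem (h w List.mem_cons_self) (ih fun u hu => h u (List.mem_cons_of_mem _ hu))

theorem blk_inv {b : Blk} (hs : b.syn = true) {h : List ℕ} {M : ℕ} {a : ℕ → End F2 V} {x : V}
    (hr : ∀ p ∈ b.rels, wd a p.1 = wd a p.2) (hv : ∀ q ∈ b.veq h M, wd a q.1 x = sumW a q.2 x) {j : ℕ}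
    (hj : j ∈ b.gs.map Prod.fst) {v : V} (hx : v ∈ sp a (· < 8) {x, wd a h x}) : a j v ∈ sp a (· < 8) {x, wd a h x} := by
  simp only [Blk.syn, Bool.and_eq_true, List.all_eq_true, List.mem_range, Bool.or_eq_true, List.contains_iff_mem] at hs
  obtain ⟨⟨⟨⟨s1, s2⟩, s3⟩, s4⟩, s5⟩ := hs
  have m1 : ∀ s ∈ b.S h, wd a s x ∈ sp a (· ∈ b.R) {v | ∃ s ∈ b.S h, v = wd a s x} := fun s hs => mem_sp ⟨s, hs, rfl⟩
  have n1 : ∀ j ∈ b.gs.map Prod.fst, ∀ v ∈ sp a (· ∈ b.R) {v | ∃ s ∈ b.S h, v = wd a s x},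
      a j v ∈ sp a (· ∈ b.R) {v | ∃ s ∈ b.S h, v = wd a s x} := by
    intro j hj v hv'
    obtain ⟨g, hg, rfl⟩ := List.mem_map.1 hj
    refine sp_norm (fun r hr' => ⟨g.2.getD r [], s2 g hg r hr', fun v => ?_⟩) ?_ hv'
    · have := LinearMap.congr_fun (hr _ (List.mem_flatMap.2 ⟨g, hg, List.mem_map.2 ⟨r, hr', rfl⟩⟩)) v
      rwa [wd_append_apply, wd_cons_apply, wd_single, wd_single] at this
    · rintro _ ⟨s, hs, rfl⟩
      obtain ⟨i, hi, rfl⟩ := List.getElem_of_mem hs
      have := hv _ (List.mem_flatMap.2 ⟨g, hg, List.mem_map.2 ⟨i, List.mem_range.2 hi, rfl⟩⟩)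
      rw [wd_cons_apply, List.getD_eq_getElem _ _ hi] at this
      rw [this]
      exact sumW_mem fun w hw => m1 w (mem_sel hw)
  have l1 : sp a (· < 8) {x, wd a h x} ≤ sp a (· ∈ b.R) {v | ∃ s ∈ b.S h, v = wd a s x} := by
    refine sp_le ?_ fun t ht v hv' => ?_
    · rintro s (rfl | rfl)
      · exact m1 [] (List.mem_flatMap.2 ⟨[], s4, List.mem_cons_self⟩)
      · exact m1 h (List.mem_flatMap.2 ⟨[], s4, List.mem_cons_of_mem _ List.mem_cons_self⟩)
    · rcases s3 t ht with e | e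
      · exact sp_inv (A := (· ∈ b.R)) e hv'
      · exact n1 t e v hv'
  have l2 : sp a (· ∈ b.R) {v | ∃ s ∈ b.S h, v = wd a s x} ≤ sp a (· < 8) {x, wd a h x} := by
    refine sp_le ?_ fun t ht v hv' => sp_inv (A := (· < 8)) (inR_lt s1 t ht) hv'
    rintro _ ⟨s, hs, rfl⟩
    obtain ⟨y, hy, hs⟩ := List.mem_flatMap.1 hs
    rcases List.mem_cons.1 hs with rfl | hs
    · exact sp_wd (inR_lt (s5 _ hy)) (mem_sp (Set.mem_insert _ _))
    · rw [List.mem_singleton.1 hs, wd_append_apply]
      exact sp_wd (inR_lt (s5 _ hy)) (mem_sp (Set.mem_insert_of_mem _ rfl))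
  exact l2 (n1 j hj v (l1 hx))

/-- the two vectors generate an invariant subspace under the negative root elements -/
theorem gen4 {bs : List Blk} (hs : synOk bs = true) {h : List ℕ} {M : ℕ} {a : ℕ → End F2 V} {x : V} (hx : WV bs h M a x) :
    Inv a (sp a (· < 8) {x, wd a h x}) := by
  intro j v hv
  by_cases h1 : j < 8
  · exact sp_inv (A := (· < 8)) h1 hv
  by_cases h2 : 14 ≤ j
  · rw [hx.out j h2]; exact zero_mem _
  obtain ⟨i, rfl⟩ : ∃ i, j = 8 + i := ⟨j - 8, by omega⟩
  simp only [synOk, Bool.and_eq_true, List.all_eq_true, List.mem_range, List.any_eq_true, List.contains_iff_mem] at hs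
  obtain ⟨b, hb, hj⟩ := hs.2 i (by omega)
  exact blk_inv (hs.1 b hb) (fun p hp => hx.rel p (List.mem_flatMap.2 ⟨b, hb, hp⟩))
    (fun q hq => hx.vec q (List.mem_flatMap.2 ⟨b, hb, hq⟩)) hj hv

theorem sumW_prod (a : ℕ → End F2 V) (b : ℕ → End F2 V') (L : List (List ℕ)) (x : V) (y : V') :
    sumW (prodOp a b) L (x, y) = (sumW a L x, sumW b L y) := by
  induction L with
  | nil => rfl
  | cons w L ih => rw [sumW_cons, sumW_cons, sumW_cons, ih, wd_prodOp]; rfl

theorem WV.prod {bs : List Blk} {h : List ℕ} {M : ℕ} {a : ℕ → End F2 V} {b : ℕ → End F2 V'} {x : V} {y : V'}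
    (h1 : WV bs h M a x) (h2 : WV bs h M b y) : WV bs h M (prodOp a b) (x, y) where
  rel p hp := LinearMap.ext fun q => by rw [wd_prodOp, wd_prodOp, h1.rel p hp, h2.rel p hp]
  out j hj := by rw [prodOp, h1.out j hj, h2.out j hj, LinearMap.prodMap_zero]
  vec q hq := by rw [wd_prodOp, sumW_prod, ← h1.vec q hq, ← h2.vec q hq]

/-- **uniqueness** -/
theorem iso4 {bs : List Blk} (hs : synOk bs = true) {h : List ℕ} {M : ℕ} {a : ℕ → End F2 V} {b : ℕ → End F2 V'} {x : V}
    {y : V'} {l : V →ₗ[F2] F2} {l' : V' →ₗ[F2] F2} (h1 : WV bs h M a x) (h2 : WV bs h M b y)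
    (i1 : ∀ j < 8, ∀ v, l (a j v) = l v) (i2 : ∀ j < 8, ∀ v, l' (b j v) = l' v) (e1 : l x = l' y)
    (e2 : l (wd a h x) = l' (wd b h y)) (hi : Irr a x l) (hi' : Irr b y l') : ∃ e : V ≃ₗ[F2] V', Hom a b e := by
  have hN := gen4 hs (h1.prod h2)
  have hm : (x, y) ∈ sp (prodOp a b) (· < 8) {(x, y), wd (prodOp a b) h (x, y)} := mem_sp (Set.mem_insert _ _)
  have hk : sp (prodOp a b) (· < 8) {(x, y), wd (prodOp a b) h (x, y)} ≤
      LinearMap.eqLocus (l ∘ₗ LinearMap.fst F2 V V') (l' ∘ₗ LinearMap.snd F2 V V') := by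
    refine sp_le ?_ fun j hj q hq => (i1 j hj q.1).trans (Eq.trans hq (i2 j hj q.2).symm)
    rintro s (rfl | rfl)
    · exact e1
    · rw [wd_prodOp]; exact e2
  obtain ⟨e, he, -⟩ := iso_of_graph hN (hi.1 _ (hN.map (b := a) fun _ _ => rfl) ⟨_, hm, rfl⟩)
    (hi'.1 _ (hN.map (b := b) fun _ _ => rfl) ⟨_, hm, rfl⟩)
    (hi.2 _ (hN.comap (a := a) fun j v => Prod.ext rfl (map_zero (b j)).symm) fun v hv =>
      Eq.trans (hk hv) (map_zero l'))
    (hi'.2 _ (hN.comap (a := b) fun j v => Prod.ext (map_zero (a j)).symm rfl) fun v hv =>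
      Eq.trans (Eq.symm (hk hv)) (map_zero l))
  exact ⟨e, he⟩

theorem irr_of {a : ℕ → End F2 V} (h : Simple a) {x : V} {l : V →ₗ[F2] F2} (hx : x ≠ 0) (hl : l ≠ 0) : Irr a x l := by
  refine ⟨fun W hW hm => (h.2 W hW).resolve_left fun e => hx ?_, fun W hW hm => (h.2 W hW).resolve_right fun e => hl ?_⟩
  · rwa [e, Submodule.mem_bot] at hm
  · exact LinearMap.ext fun v => hm v (e ▸ Submodule.mem_top)

end

/-! ### certificates -/

/-- evaluate a list of words first -/
noncomputable def forceLL {α : Type} (l : List (List ℕ)) : (List (List ℕ) → α) → α :=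
  List.rec (motive := fun _ => (List (List ℕ) → α) → α) (fun k => k [])
    (fun x _ ih k => forceL x fun y => ih fun l' => k (y :: l')) l

theorem forceLL_eq {α : Type} (l : List (List ℕ)) (k : List (List ℕ) → α) : forceLL l k = k l := by
  induction l generalizing k with
  | nil => rfl
  | cons x l ih => exact (forceL_eq x fun y => forceLL l fun l' => k (y :: l')).trans (ih _)

/-- the pairs are the digits of `c`, the positions are collected in `m` -/
noncomputable def zAux (ok : List ℕ → List ℕ → Bool) (ys L : List (List ℕ)) (n f : ℕ) : ℕ → ℕ → Bool :=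
  Nat.rec (motive := fun _ => ℕ → ℕ → Bool) (fun _ m => Nat.beq m (Nat.sub (Nat.pow 2 n) 1))
    (fun _ ih c m => force (Nat.land c 1023) fun i => force (Nat.land (Nat.shiftRight c 10) 1023) fun j =>
      Nat.blt i n && (Nat.blt j n && (ok (L.getD i []) (L.getD j [] ++ flat ys (sel [0, 1, 2, 3, 4, 5, 6, 7]
        (Nat.shiftRight c 20))) && force (Nat.shiftRight c 28) fun c' =>
          force (Nat.xor (Nat.xor m (Nat.pow 2 i)) (Nat.pow 2 j)) (ih c')))) f

/-- the words cancel in pairs -/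
noncomputable def zN (ok : List ℕ → List ℕ → Bool) (ys L : List (List ℕ)) (c : ℕ) : Bool :=
  forceLL L fun L' => force L'.length fun n => zAux ok ys L' n (Nat.div n 2) c 0

/-- a sum of translates of equations -/
noncomputable def cmb (E P : List (List (List ℕ))) (f : ℕ) : ℕ → List (List ℕ) :=
  Nat.rec (motive := fun _ => ℕ → List (List ℕ)) (fun _ => [])
    (fun _ ih A => Nat.rec (motive := fun _ => List (List ℕ)) []
      (fun _ _ => (E.getD (Nat.land A 7) []).map (((P.getD 0 []).getD (Nat.land (Nat.shiftRight A 3) 127) []) ++ ·) ++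
        ih (Nat.shiftRight A 10)) A) f

/-- two lists are related member by member -/
noncomputable def all2 {α β : Type} (p : α → β → Bool) (l : List α) : List β → Bool :=
  List.rec (motive := fun _ => List β → Bool) (fun _ => true)
    (fun x _ ih l' => List.rec (motive := fun _ => Bool) false (fun y t _ => p x y && ih t) l') l

theorem all2_mem {α β : Type} {p : α → β → Bool} {l : List α} {l' : List β} (h : all2 p l l' = true) {x : α} (hx : x ∈ l) :
    ∃ y, p x y = true := by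
  induction l generalizing l' with
  | nil => exact absurd hx List.not_mem_nil
  | cons z l ih =>
    cases l' with
    | nil => exact absurd h Bool.false_ne_true
    | cons y t =>
      have h' : (p z y && all2 p l t) = true := h
      rw [Bool.and_eq_true] at h'
      rcases List.mem_cons.1 hx with rfl | hx
      · exact ⟨y, h'.1⟩
      · exact ih h'.2 hx

section

variable {V : Type*} [AddCommGroup V] [Module F2 V]

theorem sum_pow (F : ℕ → V) {n i : ℕ} (hi : i < n) : ∑ k ∈ Finset.range n, bt (2 ^ i) k • F k = F i := by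
  rw [Finset.sum_eq_single i (fun k _ hk => by rw [bt_two_pow, if_neg (Ne.symm hk), zero_smul])
    (fun h => absurd (Finset.mem_range.2 hi) h), bt_two_pow, if_pos rfl, one_smul]

theorem sum_xor (F : ℕ → V) (n m m' : ℕ) : ∑ k ∈ Finset.range n, bt (m ^^^ m') k • F k =
    ∑ k ∈ Finset.range n, bt m k • F k + ∑ k ∈ Finset.range n, bt m' k • F k := by
  rw [← Finset.sum_add_distrib]
  exact Finset.sum_congr rfl fun k _ => by rw [bt_xor, add_smul]

theorem sumW_range (a : ℕ → End F2 V) (L : List (List ℕ)) (v : V) :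
    sumW a L v = ∑ k ∈ Finset.range L.length, wd a (L.getD k []) v := by
  induction L with
  | nil => rfl
  | cons w L ih => rw [sumW_cons, List.length_cons, Finset.sum_range_succ', ih, add_comm]; rfl

theorem zAux_sound {ok : List ℕ → List ℕ → Bool} {a : ℕ → End F2 V} (ha : Snd ok a) {ys L : List (List ℕ)} {v : V}
    (hv : v ∈ FixL a ys) {n f c m : ℕ} (h : zAux ok ys L n f c m = true)
    (hm : ∑ k ∈ Finset.range n, bt m k • wd a (L.getD k []) v = 0) : ∑ k ∈ Finset.range n, wd a (L.getD k []) v = 0 := by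
  induction f generalizing c m with
  | zero =>
    have e : m = 2 ^ n - 1 := Nat.eq_of_beq_eq_true h
    rw [← hm, e]
    exact Finset.sum_congr rfl fun k hk => by rw [bt_mask, if_pos (Finset.mem_range.1 hk), one_smul]
  | succ f ih =>
    have h' : (force (c &&& 1023) fun i => force ((c >>> 10) &&& 1023) fun j =>
      Nat.blt i n && (Nat.blt j n && (ok (L.getD i []) (L.getD j [] ++ flat ys (sel [0, 1, 2, 3, 4, 5, 6, 7]
        (c >>> 20))) && force (c >>> 28) fun c' => force ((m ^^^ 2 ^ i) ^^^ 2 ^ j) (zAux ok ys L n f c')))) = true := h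
    rw [force_eq, force_eq, force_eq, force_eq, Bool.and_eq_true, Bool.and_eq_true, Bool.and_eq_true, Nat.blt_eq,
      Nat.blt_eq] at h'
    refine ih h'.2.2.2 ?_
    rw [sum_xor, sum_xor, hm, sum_pow _ h'.1, sum_pow _ h'.2.1, zero_add, ha _ _ h'.2.2.1, wd_append_apply, wd_flat hv,
      add_self']

theorem zN_sound {ok : List ℕ → List ℕ → Bool} {a : ℕ → End F2 V} (ha : Snd ok a) {ys L : List (List ℕ)} {c : ℕ}
    (h : zN ok ys L c = true) {v : V} (hv : v ∈ FixL a ys) : sumW a L v = 0 := by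
  rw [zN, forceLL_eq, force_eq] at h
  rw [sumW_range]
  exact zAux_sound ha hv h (Finset.sum_eq_zero fun k _ => by rw [bt_zero, zero_smul])

theorem cmb_sound {a : ℕ → End F2 V} {E : List (List (List ℕ))} {v : V} (hE : ∀ L ∈ E, sumW a L v = 0)
    (P : List (List (List ℕ))) (f A : ℕ) : sumW a (cmb E P f A) v = 0 := by
  induction f generalizing A with
  | zero => rfl
  | succ f ih =>
    cases A with
    | zero => rfl
    | succ A =>
      have e : cmb E P (f + 1) (A + 1) = (E.getD ((A + 1) &&& 7) []).map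
        (((P.getD 0 []).getD (((A + 1) >>> 3) &&& 127) []) ++ ·) ++ cmb E P f ((A + 1) >>> 10) := rfl
      rw [e, sumW_append, ih, add_zero, sumW_map]
      by_cases hi : (A + 1) &&& 7 < E.length
      · rw [List.getD_eq_getElem _ _ hi, hE _ (List.getElem_mem hi), map_zero]
      · rw [List.getD_eq_default _ _ (not_lt.1 hi), sumW_nil, map_zero]

end

/-- the sums of words which define the operators -/
def EX : List (List (List ℕ)) :=
  [[[0], [8, 0], [9, 0], [8, 9, 0]], [[2], [10, 2], [11, 2], [10, 11, 2]], [[], [12], [12, 12]], [[], [13], [13, 13]],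
    [[], [12, 13], [12, 12, 13, 13]], [[], [12, 13, 13], [12, 12, 13]]]

/-- the expansion of a word in the operators -/
noncomputable def exp (w : List ℕ) : List (List ℕ) :=
  List.rec (motive := fun _ => List (List ℕ)) [[]] (fun i _ ih => (EX.getD i [[]]).flatMap fun p => ih.map (p ++ ·)) w

/-- the equations of a common eigenvector -/
def EQ (P : ℕ) : List (List (List ℕ)) := (List.range 6).map fun k => EX.getD k [[]] ++ cond (tb P k) [[]] []

/-- a sum of words vanishes on a common eigenvector -/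
noncomputable def eqOk (ok : List ℕ → List ℕ → Bool) (ys pre : List (List ℕ)) (P : ℕ) (L : List (List ℕ)) (c : ℕ × ℕ) : Bool :=
  zN ok ys (L ++ cmb (EQ P) [pre] 100 c.1) c.2

/-- the certificates for the existence of a common eigenvector -/
structure Ex4 where
  /-- the chain of the positive root elements -/
  cpos : List (List ℕ × List ℕ × List (List ℕ))
  /-- the chain of the negative root elements -/
  cneg : List (List ℕ × List ℕ × List (List ℕ))
  /-- the operators preserve the fixed space -/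
  stab : List (List ℕ)
  /-- the relations of the operators -/
  rules : List ((List ℕ × List ℕ) × ℕ)
  /-- the normal forms -/
  tab : List (List ℕ × List (ℕ × ℕ))
  /-- the translations -/
  pre : List (List ℕ)
  /-- the patterns of the types -/
  pat : List ℕ
  /-- the other patterns do not occur -/
  zc : List (ℕ × ℕ)

/-- the positive root elements -/
def Ex4.ys (ex : Ex4) : List (List ℕ) := ex.cpos.map Prod.fst

/-- the check of the certificates -/
noncomputable def exOk4 (ok : List ℕ → List ℕ → Bool) (bs : List Blk) (ex : Ex4) : Bool :=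
  ((bs.flatMap Blk.rels).all fun p => ok p.1 p.2) && chainOk ok ex.cpos &&
    chainOk (fun w w' => ok w.reverse w'.reverse) ex.cneg &&
    ((List.range 8).all fun j => (ex.cneg.map Prod.fst).contains [j]) &&
    ((List.range 6).all fun i => (List.range ex.ys.length).all fun t =>
      zN ok ex.ys ((exp [i]).map (ex.ys.getD t [] ++ ·) ++ exp [i]) ((ex.stab.getD i []).getD t 0)) &&
    (ex.rules.all fun p => zN ok ex.ys (exp p.1.1 ++ exp p.1.2) p.2) && tabOk 6 (ex.rules.map Prod.fst) ex.tab &&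
    (List.range 64).all fun P => ex.pat.contains P || eqOk ok ex.ys ex.pre P [[]] (ex.zc.getD P (0, 0))

/-- the check of a type -/
noncomputable def tyOk (ok : List ℕ → List ℕ → Bool) (bs : List Blk) (ex : Ex4) (P : ℕ) (h : List ℕ) (M : ℕ)
    (cs : List (ℕ × ℕ)) : Bool :=
  all2 (fun q c => eqOk ok ex.ys ex.pre P (q.1 :: q.2) c) (bs.flatMap fun b => b.veq h M) cs

section

variable {V : Type*} [AddCommGroup V] [Module F2 V]

/-- the operators -/
def TT (a : ℕ → End F2 V) : ℕ → End F2 V := fun i => ((EX.getD i [[]]).map (wd a)).sum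

theorem sum_apply (a : ℕ → End F2 V) (L : List (List ℕ)) (v : V) : (L.map (wd a)).sum v = sumW a L v := by
  induction L with
  | nil => rfl
  | cons w L ih => rw [List.map_cons, List.sum_cons, LinearMap.add_apply, ih, sumW_cons]

theorem sumW_flat (a : ℕ → End F2 V) (P L : List (List ℕ)) (v : V) :
    sumW a (P.flatMap fun p => L.map (p ++ ·)) v = sumW a P (sumW a L v) := by
  induction P with
  | nil => rfl
  | cons p P ih => rw [List.flatMap_cons, sumW_append, ih, sumW_map, sumW_cons]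

theorem wd_TT (a : ℕ → End F2 V) (w : List ℕ) (v : V) : wd (TT a) w v = sumW a (exp w) v := by
  induction w with
  | nil => exact (add_zero v).symm
  | cons i w ih =>
    have e : exp (i :: w) = (EX.getD i [[]]).flatMap fun p => (exp w).map (p ++ ·) := rfl
    rw [wd_cons_apply, ih, e, sumW_flat, TT, sum_apply]

/-- a common eigenvector with the pattern `P` -/
structure EV (ex : Ex4) (P : ℕ) (a : ℕ → End F2 V) (x : V) : Prop where
  fix : x ∈ FixL a ex.ys
  eq : ∀ L ∈ EQ P, sumW a L x = 0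

theorem EV.zero {ok : List ℕ → List ℕ → Bool} {ex : Ex4} {P : ℕ} {a : ℕ → End F2 V} (ha : Snd ok a) {x : V}
    (hx : EV ex P a x) {L : List (List ℕ)} {c : ℕ × ℕ} (h : eqOk ok ex.ys ex.pre P L c = true) : sumW a L x = 0 := by
  have e := zN_sound ha h hx.fix
  rwa [sumW_append, cmb_sound hx.eq, add_zero] at e

theorem exists_ev {ok : List ℕ → List ℕ → Bool} {bs : List Blk} {ex : Ex4} (h : exOk4 ok bs ex = true) {a : ℕ → End F2 V}
    (ha : Snd ok a) (h0 : ∃ v : V, v ≠ 0) : (∃ P ∈ ex.pat, ∃ x, x ≠ 0 ∧ EV ex P a x) ∧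
      ∃ l : V →ₗ[F2] F2, l ≠ 0 ∧ ∀ j < 8, ∀ v, l (a j v) = l v := by
  classical
  simp only [exOk4, Bool.and_eq_true, List.all_eq_true, List.mem_range, List.contains_iff_mem, Bool.or_eq_true] at h
  obtain ⟨⟨⟨⟨⟨⟨⟨-, h3⟩, h4⟩, h5⟩, h6⟩, h7⟩, h8⟩, h9⟩ := h
  have hQ : ∀ i v, v ∈ FixL a ex.ys → TT a i v ∈ FixL a ex.ys := by
    intro i v hv y hy
    by_cases hi : i < 6
    · obtain ⟨t, ht, rfl⟩ := List.getElem_of_mem hy
      have e := zN_sound ha (h6 i hi t ht) hv
      rw [sumW_append, sumW_map, ← wd_TT, wd_single, List.getD_eq_getElem _ _ ht] at e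
      exact eq_of_add_eq_zero' e
    · have e : TT a i v = v := by
        rw [TT, List.getD_eq_default _ _ (not_lt.1 hi : EX.length ≤ i), sum_apply]
        exact add_zero v
      rw [e]
      exact hv y hy
  obtain ⟨v, hv, hv0⟩ := chain ha h0 h3
  obtain ⟨m, hm, hm0, hT⟩ := eigen hQ (fun p hp v hv => by
    obtain ⟨q, hq, rfl⟩ := List.mem_map.1 hp
    have e := zN_sound ha (h7 q hq) hv
    rw [sumW_append, ← wd_TT, ← wd_TT] at e
    exact Or.inl (eq_of_add_eq_zero' e)) h8 hv hv0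
  have hE : EV ex (Nat.ofBits fun i : Fin 6 => decide (TT a i m = m)) a m := by
    refine ⟨hm, fun L hL => ?_⟩
    obtain ⟨k, hk, rfl⟩ := List.mem_map.1 hL
    have hk' := List.mem_range.1 hk
    rw [sumW_append, ← sum_apply, tb_eq, Nat.testBit_ofBits_lt _ _ hk']
    by_cases e : TT a k m = m
    · rw [decide_eq_true e, cond_true, sumW_cons, sumW_nil, add_zero, wd_nil_apply]
      exact (congrArg (· + m) e).trans (add_self' m)
    · rw [decide_eq_false e, cond_false, sumW_nil, add_zero]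
      exact (hT k hk').resolve_right e
  obtain ⟨l, hl0, hl⟩ := dchain ha h0 h4
  refine ⟨⟨_, (h9 _ (Nat.ofBits_lt_two_pow _)).resolve_right fun e => hm0 ?_, m, hm0, hE⟩, l, hl0, fun j hj v => ?_⟩
  · have := hE.zero ha e
    rwa [sumW_cons, sumW_nil, add_zero] at this
  · have := hl _ (h5 j hj) v
    rwa [List.reverse_singleton, wd_single] at this

theorem EV.wv {ok : List ℕ → List ℕ → Bool} {bs : List Blk} {ex : Ex4} (h : exOk4 ok bs ex = true) {a : ℕ → End F2 V}
    (ha : Good ok 14 a) {P : ℕ} {w : List ℕ} {M : ℕ} {cs : List (ℕ × ℕ)} (ht : tyOk ok bs ex P w M cs = true) {x : V}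
    (hx : EV ex P a x) : WV bs w M a x := by
  simp only [exOk4, Bool.and_eq_true, List.all_eq_true] at h
  refine ⟨fun p hp => ha.rel _ _ (h.1.1.1.1.1.1.1 p hp), ha.out, fun q hq => ?_⟩
  obtain ⟨c, hc⟩ := all2_mem ht hq
  have e := hx.zero ha.rel hc
  rw [sumW_cons] at e
  exact eq_of_add_eq_zero' e

end

/-! ### tables -/

/-- the image of a vector under a word -/
noncomputable def actW (G : List (List (ℕ × ℕ))) (w : List ℕ) (v : ℕ) : ℕ :=
  List.rec (motive := fun _ => ℕ) v (fun j _ r => force r (actJ G j)) w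

theorem actW_spec {n : ℕ} {G : List (List (ℕ × ℕ))} (h : wfG n G = true) (w : List ℕ) {v : ℕ} (hv : Sm n v) :
    Sm n (actW G w v) ∧ bv n (actW G w v) = wd (ops n G) w (bv n v) := by
  induction w with
  | nil => exact ⟨hv, rfl⟩
  | cons j w ih =>
    have e : actW G (j :: w) v = actJ G j (actW G w v) := force_eq _ _
    rw [e, wd_cons_apply, ← ih.2]
    exact actJ_spec h j ih.1

/-- the image of a vector under a sum of words -/
noncomputable def actS (G : List (List (ℕ × ℕ))) (L : List (List ℕ)) (v : ℕ) : ℕ :=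
  List.rec (motive := fun _ => ℕ) 0 (fun w _ r => Nat.xor (actW G w v) r) L

theorem actS_spec {n : ℕ} {G : List (List (ℕ × ℕ))} (h : wfG n G = true) (L : List (List ℕ)) {v : ℕ} (hv : Sm n v) :
    bv n (actS G L v) = sumW (ops n G) L (bv n v) := by
  induction L with
  | nil => exact bv_zero n
  | cons w L ih =>
    have e : actS G (w :: L) v = actW G w v ^^^ actS G L v := rfl
    rw [e, bv_xor, ih, (actW_spec h w hv).2, sumW_cons]

/-- the vector `x` of a table is a weight vector with the values `c`, `c'`, the word `u` leads back -/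
noncomputable def vecOk (bs : List Blk) (h : List ℕ) (M : ℕ) (G : List (List (ℕ × ℕ))) (w u : List ℕ) (c c' : Bool) : Bool :=
  force (actW G w 1) fun x => Nat.beq (actW G u x) 1 && (tb x 0 == c) && (tb (actW G h x) 0 == c') &&
    (bs.flatMap fun b => b.veq h M).all fun q => Nat.beq (actW G q.1 x) (actS G q.2 x)

/-- the check of a table without the relations -/
noncomputable def tbOk (bs : List Blk) (h : List ℕ) (M n : ℕ) (G : List (List (ℕ × ℕ))) : Bool :=
  wfG n G && Nat.blt 0 n && Nat.beq G.length 14 && ((List.range 8).all fun j => Nat.beq (actJ (trG G) j 1) 1) &&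
    cond (h == []) (vecOk bs h M G [] [] true true)
      (vecOk bs h M G [] [] true false && vecOk bs h M G h (h ++ h) false true && vecOk bs h M G (h ++ h) h true true)

/-- the check of some of the relations -/
noncomputable def relOk (bs : List Blk) (n : ℕ) (G : List (List (ℕ × ℕ))) (i k : ℕ) : Bool :=
  (((bs.flatMap Blk.rels).drop i).take k).all fun p => okT n G p.1 p.2

/-- the relations from `i` on hold -/
def Rel (bs : List Blk) (n : ℕ) (G : List (List (ℕ × ℕ))) (i : ℕ) : Prop :=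
  ∀ p ∈ (bs.flatMap Blk.rels).drop i, okT n G p.1 p.2 = true

theorem Rel.step {bs : List Blk} {n : ℕ} {G : List (List (ℕ × ℕ))} {i k : ℕ} (h1 : relOk bs n G i k = true)
    (h2 : Rel bs n G (i + k)) : Rel bs n G i := by
  intro p hp
  rw [← List.take_append_drop k ((bs.flatMap Blk.rels).drop i), List.mem_append, List.drop_drop] at hp
  rcases hp with hp | hp
  · exact List.all_eq_true.1 h1 p hp
  · exact h2 p hp

theorem Rel.last {bs : List Blk} {n : ℕ} {G : List (List (ℕ × ℕ))} {i : ℕ} (h : (bs.flatMap Blk.rels).length ≤ i) :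
    Rel bs n G i := by
  intro p hp
  rw [List.drop_eq_nil_of_le h] at hp
  exact absurd hp List.not_mem_nil

theorem bt_cond (v : ℕ) {c : Bool} (h : tb v 0 = c) : bt v 0 = cond c 1 0 := by
  rw [tb_eq] at h
  cases c
  · exact bt_false h
  · exact bt_true h

/-- **a simple family with a weight vector is the family of the table** -/
theorem tb_iso {bs : List Blk} (hs : synOk bs = true) {h : List ℕ} {M n : ℕ} {G : List (List (ℕ × ℕ))}
    (h1 : tbOk bs h M n G = true) (h2 : Rel bs n G 0) {p1 p2 : List (ℕ × ℕ)} (h3 : spinOk n G p1 = true)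
    (h4 : spinOk n (trG G) p2 = true) {V : Type*} [AddCommGroup V] [Module F2 V] {a : ℕ → End F2 V} (ha : Simple a) {x : V}
    (hx : x ≠ 0) (hw : WV bs h M a x) {l : V →ₗ[F2] F2} (hl : l ≠ 0) (hi : ∀ j < 8, ∀ v, l (a j v) = l v) :
    ∃ e : V ≃ₗ[F2] X n, Hom a (ops n G) e := by
  simp only [tbOk, Bool.and_eq_true, List.all_eq_true, List.mem_range, Nat.blt_eq, Nat.beq_eq] at h1
  obtain ⟨⟨⟨⟨hG, hn⟩, h14⟩, h6⟩, h7⟩ := h1
  have s1 := sm_one hn
  have key : ∀ w u c c', vecOk bs h M G w u c c' = true → l x = cond c 1 0 → l (wd a h x) = cond c' 1 0 →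
      ∃ e : V ≃ₗ[F2] X n, Hom a (ops n G) e := by
    intro w u c c' hv e1 e2
    rw [vecOk, force_eq] at hv
    simp only [Bool.and_eq_true, List.all_eq_true, Nat.beq_eq, beq_iff_eq] at hv
    obtain ⟨⟨⟨v1, v2⟩, v3⟩, v4⟩ := hv
    have s2 := (actW_spec hG w s1).1
    refine iso4 hs (y := bv n (actW G w 1)) (l' := co n 0) hw ⟨fun p hp => okT_sound hG (h2 p hp),
      fun j hj => ops_out n G (h14 ▸ hj), fun q hq => ?_⟩ hi (fun j hj v => ?_) ?_ ?_ (irr_of ha hx hl)
      ⟨fun W hW hm => spin_sound hG h3 hW ?_, fun W hW hm => dspin_sound hG h4 hW hm⟩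
    · rw [← (actW_spec hG _ s2).2, v4 q hq, actS_spec hG _ s2]
    · rw [co_eq_dot, co_eq_dot, ← ops_tr, pow_zero, ← (actJ_spec (wfG_tr hG) j s1).2, h6 j hj]
    · rw [e1, co_bv hn, bt_cond _ v2]
    · rw [e2, ← (actW_spec hG _ s2).2, co_bv hn, bt_cond _ v3]
    · rw [← v1, (actW_spec hG _ s2).2]
      exact hW.wd _ hm
  have hne : ¬ (l x = 0 ∧ l (wd a h x) = 0) := by
    rintro ⟨e1, e2⟩
    have e3 : sp a (· < 8) {x, wd a h x} = ⊤ := (irr_of ha hx hl).1 _ (gen4 hs hw) (mem_sp (Set.mem_insert _ _))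
    have e4 : sp a (· < 8) {x, wd a h x} ≤ LinearMap.ker l := by
      refine sp_le ?_ fun j hj v hv => (hi j hj v).trans hv
      rintro s (rfl | rfl)
      · exact e1
      · exact e2
    rw [e3] at e4
    exact hl (LinearMap.ext fun v => e4 Submodule.mem_top)
  cases e : h == [] with
  | true =>
    rw [e, cond_true] at h7
    have e0 : wd a h x = x := by rw [beq_iff_eq.1 e]; rfl
    have e1 : l x = 1 := (f2_cases _).resolve_left fun e1 => hne ⟨e1, by rw [e0, e1]⟩
    exact key _ _ _ _ h7 e1 (by rw [e0, e1]; rfl)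
  | false =>
    rw [e, cond_false, Bool.and_eq_true, Bool.and_eq_true] at h7
    rcases f2_cases (l x) with e1 | e1 <;> rcases f2_cases (l (wd a h x)) with e2 | e2
    · exact absurd ⟨e1, e2⟩ hne
    · exact key _ _ _ _ h7.1.2 e1 e2
    · exact key _ _ _ _ h7.1.1 e1 e2
    · exact key _ _ _ _ h7.2 e1 e2

end Cfsg.Agent.E82.M44
end

-- part: E82/M44/Ex
section
/-!
# The pressure machine for `Sp₄(4)`: the certificates (helper79)
-/

set_option autoImplicit false
set_option maxRecDepth 100000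

namespace Cfsg.Agent.E82.M44

open Cfsg.Agent.E82.Mach

/-- the blocks -/
def bs : List Blk :=
  (by
  refine (?fq9003 : ((pk61l (fun i1 => (_root_.Cfsg.Agent.E82.M44.Blk.mk ((fun g1 : Nat → Nat => pk61l (fun i2 => (pk61d (nat_lit 3) 
    (nat_lit 0xfac688fac23eb1a) i2)) (g1 i1) (g1 (Nat.succ i1)) List.nil) fun j => (pk61d (nat_lit 5) 
    (nat_lit 0xa30c0) j)) ((fun g1 : Nat → Nat => pk61l (fun i2 => ((fun g2 : Nat → Nat => pk61l (fun i3 => (pk61d (nat_lit 2) 
    (nat_lit 0xee44) i3)) (g2 i2) (g2 (Nat.succ i2)) List.nil) fun j => (pk61d (nat_lit 4) 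
    (nat_lit 0x8865442100) j))) (g1 i1) (g1 (Nat.succ i1)) List.nil) fun j => (pk61d (nat_lit 4) 
    (nat_lit 0x9840) j)) ((fun g1 : Nat → Nat => pk61l (fun i2 => (_root_.Prod.mk (pk61d (nat_lit 4) 
    (nat_lit 0xdcba329810) i2) (pk61l (fun i3 => ((fun g3 : Nat → Nat => pk61l (fun i4 => (pk61d (nat_lit 3) 
    (nat_lit 0x3e9634c83f7b13441fb523c247df53a023eb3587d1f59f53a0f62d5ab1af5e8ac6beb358feabeb3d7a2) i4)) (g3 i3) (g3 (Nat.succ i3)) List.nil) fun j => (pk61d (nat_lit 7) 
    (nat_lit 0x6edbb35e9cf9b263c382fdebb6ecd8af5a94f9f3e74d992e3c489121c28301fbe7cf9d376cd5a3366cd7ac50911a242810203a68c982e58b162a509921c2850a12203860600000) j))) (Nat.mul (nat_lit 8) i2) (Nat.mul (nat_lit 8) (Nat.succ i2)) List.nil))) (g1 i1) (g1 (Nat.succ i1)) List.nil) fun j => (pk61d (nat_lit 4) 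
    (nat_lit 0xa840) j)))) (nat_lit 0) (nat_lit 3) List.nil) : List Blk)
    = ?xq9003 → (List Blk)) ?hq9003; (case hq9003 => (set_option maxRecDepth 1000000 in set_option simprocs false in conv => lhs; reduce; dsimp only)); intro _; exact ?xq9003 : List Blk)

/-- the positive chain -/
def cpos : List (List ℕ × List ℕ × List (List ℕ)) :=
  [([8], [], [[0], [1, 3, 5], [2, 4, 6], [3], [4], [5], [6]]), ([9], [], [[0, 3, 4, 5], [1, 2, 3, 4], [2], [3], [4],
  [5]]), ([10], [], [[0], [1], [2], [3], [4]]), ([11], [], [[0], [1], [2], [3]]), ([2, 10, 8, 10, 2], [], [[0], [1],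
  [2]]), ([2, 10, 9, 10, 2], [], [[0], [1]]), ([0, 8, 10, 8, 0], [], [[0]]), ([0, 8, 11, 8, 0], [], [])]

/-- the negative chain -/
def cneg : List (List ℕ × List ℕ × List (List ℕ)) :=
  [([0], [], [[0], [5, 3, 1], [6, 4, 2], [3], [4], [5], [6]]), ([1], [], [[5, 4, 3, 0], [4, 3, 2, 1], [2], [3], [4],
  [5]]), ([2], [], [[0], [1], [2], [3], [4]]), ([3], [], [[0], [1], [2], [3]]), ([4], [], [[0], [1], [2]]), ([5], [],
  [[0], [1]]), ([6], [], [[0]]), ([7], [], [])]

/-- stability -/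
def stab : List (List ℕ) :=
  [[0x18030001c0200010010001400, 0x140300010020001c010001800, 0x9c01c03d80180240014010401000,
  0xe401c036c0180280014010801000, 0x1001c03100180210014011001000, 0x2001c03200180220014012001000,
  0x5401c03540180254014015401000, 0xa801c03a801802a801401a801000], [0x7201c03630180210014010101000,
  0xd301c03f10180220014010201000, 0x18030001c0200010010001400, 0x140300010020001c010001800,
  0x5101c03510180251014015101000, 0xe201c03e201802e201401e201000, 0x4001c03400180240014014001000,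
  0x8001c03800180280014018001000], [0x30140202010010100c00, 0x10140203010010200c00, 0x8014020c010010400c00,
  0xc0140204010010800c00, 0x100140210010011000c00, 0x200140220010012000c00, 0xc00140280010014000c00,
  0x4001402c0010018000c00], [0x30140202010010100c00, 0x10140203010010200c00, 0xc0140208010010400c00,
  0x4014020c010010800c00, 0x200140230010011000c00, 0x300140210010012000c00, 0x400140240010014000c00,
  0x800140280010018000c00], [0x20140203010010100c00, 0x30140201010010200c00, 0x40140204010010400c00,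
  0x80140208010010800c00, 0x200140230010011000c00, 0x300140210010012000c00, 0xc00140280010014000c00,
  0x4001402c0010018000c00], [0x10140201010010100c00, 0x20140202010010200c00, 0xc0140208010010400c00,
  0x4014020c010010800c00, 0x300140220010011000c00, 0x100140230010012000c00, 0xc00140280010014000c00,
  0x4001402c0010018000c00]]

/-- the rules -/
def rules : List ((List ℕ × List ℕ) × ℕ) :=
  [(([], []), 1024), (([0, 0], [0, 2]),
  0x540f000440e010580d000480b000500a01064090006c070005c060104005000600300068020104c0101030080101000), (([1, 1], [1,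
  3]), 0x540f000440e040580d000480b000500a04064090006c070005c060404005000600300068020404c0104030080401000), (([0, 1,
  0, 1], [1, 0, 1, 0]),
  0x5860cffc5784fe264fcfd0b3f15d817d4fb4c65cfa1f3e549d24acf8225c0f78f448f6bc730f5716b8f42b418f3363c964356e8f1a8760f0c07c0ef0d3b992ce530ed934b8ec193ad86d4790ea873a53a4a3a158ca40ce7c7584e6246fce549774e4635d4e33e45ce20d724e1306ace068460dfa53797a16690dd3b371c6b15b8db7c430da4f748d9e26c0d8127acd7bf624d68c55cd5414d4d41b674d306349ff05484d19850cd0f05accfcd424ce6e335d7a36d4cc89474cbe45fcca07684c90a70cc88a31d9847319fa14490c579518c4537b8c30e630c23d548c1004c0c0946d0bf1d2f9c7264bcbd2f570bc092edd380680ba8b520b9d24ecb8865c4b78f408b6347a8b54d664b42b458b372594b209634b1207f8b048758afc1694ae1a2b54d934f8ac856c4ab5c708aa872a52a0e2a159ca44ca733580a6e8620a5617eca42728d743e41ca2257bca1fc670a0684209fe15ec9e4a64c9db37809ca55bc9b7c4709a177d0992e261879a25dcd136f896c85589541494940724daa1e76492054c491dc50890b45a88fcd4648e067c48d0f6088c894348ba05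f88aab65889f2794884621dafaf77086144d0856d51c840b72083526ec822954c810048080a467c7fe577c7e2647c7d6757c7ca172c7bb062c7ac352c79d242c786e5c8778f4c8769c7c8758d1d1b22b498739a5987239698718879870e07386ff16386e825386d934386cb56686bf47686a871a51a961a15aca48c67ab19963d868c656978c64df5dc633e4dc622d7dc61cc6dc60684e05fd95e05e0a175b81b171f89d5b05b7c4b05a0f165ec8e6b0583275457236545650554554145454876045326149c1054045144504502c5a44fcd4a44e4e135e93f6a44c894f44b385f44a4b125bd2a7f448966104767119c4144104505111447374043626404211540410044040686a03fcd7e43e2643c3d935783c897b43b7c6f03a870e54ad246c38ca5cc378f48836147503541614342b4d8333e59c3205644310070030687a02fcd6e42e2653c2d934782c896b42b7c7f02a870a50ad256c28ca4cc278f58826146502541714242b5d8233e49c2205744210060020684a01fcd5e41e2663c1d937781c895b41b7c4f01a87065cad266c18ca7cc178f68816145501541414142b6d8133e79c1205444110050010685a00fcd4e40e2673c0d936780c894b40b7c5f00a870258ad276c08ca6cc078f78806144500541514042b7d8033e69c0205544010040000),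
  (([2, 0], [0, 2]), 0x304c0b030340a0304009030580802038070205c0602044050205004000540300048020003c010003000), (([3,
  0], [0, 4]), 0x30500b030380a03044090305c080203407020580602040050204c04000540300048020003c010003000), (([4, 0], [0,
  3]), 0x20380b0205c0a020440902050080304c07030340603040050305804000540300048020003c010003000), (([5, 0], [0, 5]),
  0x5c0b000500a0004409000380800058070004c0600040050003404000540300048020003c010003000), (([2, 1], [1, 5]),
  0x80380b0805c0a080440908050080c04c070c034060c040050c05804000540300048020003c010003000), (([3, 1], [1, 3]),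
  0xc04c0b0c0340a0c040090c0580808038070805c0608044050805004000540300048020003c010003000), (([4, 1], [1, 4]),
  0x5c0b000500a0004409000380800058070004c0600040050003404000540300048020003c010003000), (([5, 1], [1, 2]),
  0xc0500b0c0380a0c044090c05c080803407080580608040050804c04000540300048020003c010003000), (([2, 2], [2]),
  0x2c06000100200028080000c0100024070001400), (([2, 4], [2, 3]),
  0x380800028070003c060002c0500040040003003000440200034010002400), (([2, 5], [2, 3]),
  0x34080002c070003c06000280500044040003003000400200038010002400), (([3, 2], [2, 3]),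
  0x440800038070002c060004005000340400028030003c0200030010002400), (([3, 3], [3]),
  0x2c06000100200028080000c0100024070001400), (([3, 4], [2, 3]),
  0x400800030070002c060003c0500038040002803000440200034010002400), (([3, 5], [2, 3]),
  0x3c0800034070002c06000440500030040002803000400200038010002400), (([4, 2], [2, 3]),
  0x38080002c0700044060002805000400400034030003c0200030010002400), (([4, 3], [2, 3]),
  0x40080003c0700044060003005000380400034030002c0200028010002400), (([4, 4], [4]),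
  0x2c06000100200028080000c0100024070001400), (([4, 5], [2, 3]),
  0x3008000280700044060002c050003c040003403000400200038010002400), (([5, 2], [2, 3]),
  0x3408000280700040060002c05000440400038030003c0200030010002400), (([5, 3], [2, 3]),
  0x3c08000440700040060003405000300400038030002c0200028010002400), (([5, 4], [2, 3]),
  0x30080002c07000400600028050003c040003803000440200034010002400), (([5, 5], [5]),
  0x2c06000100200028080000c0100024070001400)]

/-- the normal forms -/
def tab : List (List ℕ × List (ℕ × ℕ)) :=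
  (by
  refine (?fq9006 : ((pk61l (fun i1 => (_root_.Prod.mk ((fun g1 : Nat → Nat => pk61l (fun i2 => (pk61d (nat_lit 3) 
    (nat_lit 0x68106820c04160828104105a20d20c20b20a20905a04504404304204021a06830160a041688a4421908821a34c2ca25a1440c201ab1a) i2)) (g1 i1) (g1 (Nat.succ i1)) List.nil) fun j => (pk61d (nat_lit 8) 
    (nat_lit 0x908a85807b76726d6965615d5a55514d4945423e3b383532302c292623201e1b19171513120f0d0b090706040302010000) j)) (pk61l (fun i2 => (_root_.Prod.mk (pk61d (nat_lit 6) 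
    (nat_lit 0xbefbefbefbafbefbefbedbefbefbefb2fb2fbefbebbebbadb2bb2ba69a69a6fa29a69a6ea699e99eda66a69a6ca69a65a6ba269e59ea8e38e3be38e38e2ba28e18e3b638e3823b237e38e3ae37e1822aa275d75d76375d75c76275d6dd6e175a75d76065d75d75f65a6dc6de5d75d7a575d75d6a165d75579d75d45d79974d75d79574d455691645145145745145045644f45145545139139435145145334f3903922cb2cb74b28b2cb70b2cb24b6cb2c82cb68b2cb2c764728824760714514544b10514540a1431453c9145085388145141347103081306) i2) (pk61d (nat_lit 58) (Nat.add 
    (nat_lit 0x1382b01c0000000520a40600000001582a01400000005a0a00400000000000000000000005a0a00100000001342b01c0000000510a40600000001542a0140000000590a0040000000000000000000000590a00100000000002b01c0000000500a40600000001502a0140000000580a0040000000000000000000000580a00100000001302b01c00000004f0a406000000014c2a0140000000570a0040000000000000000000000570a00100000000002b01c0000000000a40600000000002a0140000000000a0040000000000000000000000000a00100000000002c02c0000000500cc0a00000001402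f0240000000500dc0800000001402f0080000000000000000000000002e02c0000000000d80a0000000000320240000000000e8080000000000320080000000000000000000000002d02c0000000000d40a0000000000310240000000000e4080000000000310080000000000000000000000000002c0000000000d00a0000000000300240000000000e0080000000000300080000000000000000000000002c02c0000000000cc0a00000000002f0240000000000dc0800000000002f0080000000000000000000000000002c0000000000000a000000000000024000000000000080000000000000080000000000000000000001403701c0000000500bc060000000140330140000000000b0040000000000000000000000000b00100000000003a01c0000000000c8060000000000360140000000000b8040000000000000000000000000b80100000000003901c0000000000c4060000000000350140000000000b4040000000000000000000000000b40100000000003801c0000000000c006000000000034014000000000000040000000000000000000000000000100000000003701c0000000000bc060000000000330140000000000b0040000000000000000000000000b00100000000000001c00000000000006000000000000014000000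000000040000000000000000000000000000100000000003005c0000000000c01300000000003003c0000000000000c00000000000000000000000000000000000000000068000000000000160000000000000480000000000000e00000000000000000000000000000000000000000064000000000000150000000000000440000000000000d0000000000000000000000000000000000000000006000000000000014000000000000040000000000000000000000000000000000000000000000000000000005c0000000000001300000000000003c0000000000000c00000000000000000000000000000000000000000000000000000000000000000000000000000000000000000000000000000000000000000000) (Nat.shiftLeft (Nat.add 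
    (nat_lit 0x264671202402c0095194490980a002446612825024008d1904b09c0800244661282500800000008d1840300260671202402c0094194490980a00240661282502400001904b09c08002406612825008000000000184030025c671202402c0093194490980a0023c6612825024008c1904b09c080023c661282500800000008c1840300000671202402c0000194490980a00000661282502400001904b09c080000066128250080000000001840300240771202402c00901bc490980a00240731282502400001b04b09c0800240731282500800000000000003000007a1202402c00001c8490980a00000761282502400001b84b09c080000076128250080000000000000300000791202402c00001c4490980a00000751282502400001b44b09c080000075128250080000000000000300000781202402c00001c0490980a00000741282502400000004b09c080000074128250080000000000000300000771202402c00001bc490980a00000731282502400001b04b09c080000073128250080000000000000300000001202402c0000000490980a00000001282502400000004b09c0800000001282500800000000000003000006c1102b01c00901cc450a406002406f1182a01400901dc470a00400000000000000000901dc470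a001000006e1102b01c00001d8450a40600000721182a01400001e8470a00400000000000000000001e8470a001000006d1102b01c00001d4450a40600000711182a01400001e4470a00400000000000000000001e4470a00100000001102b01c00001d0450a40600000701182a01400001e0470a00400000000000000000001e0470a001000006c1102b01c00001cc450a406000006f1182a01400001dc470a00400000000000000000001dc470a00100000001102b01c0000000450a40600000001182a0140000000470a0040000000000000000000000470a00100000001302402c00001c04f0980a000007014c2502400001c05709c08000007014c250080000000000000000000001382402c0000000520980a00000001582502400000005a09c080000000158250080000000000000000000001342402c0000000510980a00000001542502400000005909c080000000154250080000000000000000000000002402c0000000500980a00000001502502400000005809c080000000150250080000000000000000000001302402c00000004f0980a000000014c2502400000005709c08000000014c250080000000000000000000000002402c0000000000980a00000000002502400000000009c080000000000250080000000000000000000001302b01c00001c04f0a406000007014c2a01400001c0570a00400000000000000000001c0570a0010)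 (Nat.shiftLeft 
    (nat_lit 0xb025c671202402ec093194490980ab023c6612825024008c1904b09c08b023c661282500800000008c1840300268671202402c0096194490980a002486612825024008e1904b09c0800248661282500800000008e1840300) (nat_lit 8000))) (nat_lit 8000))) i2))) (Nat.mul (nat_lit 6) i1) (Nat.mul (nat_lit 6) (Nat.succ i1)) List.nil))) (nat_lit 0) (nat_lit 48) List.nil) : List (List ℕ × List (ℕ × ℕ)))
    = ?xq9006 → (List (List ℕ × List (ℕ × ℕ)))) ?hq9006; (case hq9006 => (set_option maxRecDepth 1000000 in set_option simprocs false in conv => lhs; reduce; dsimp only)); intro _; exact ?xq9006 : List (List ℕ × List (ℕ × ℕ)))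

/-- the translations -/
def pre : List (List ℕ) :=
  (by
  refine (?fq9007 : ((pk61l (fun i1 => ((fun g1 : Nat → Nat => pk61l (fun i2 => (pk61d (nat_lit 4) 
    (nat_lit 0xddcc2badcc2bacc2baddc2badc2bac2badd2bad2ba2baddcc2bdcc2bcc2bddc2bdc2bc2bdd2bd2b2bddcc2adcc2acc2addc2adc2ac2add2ad2a2addcc2dcc2cc2ddc2dc2c2dd2d22ddcc098dcc098cc098ddc098dc098c098dd098d098098ddcc09dcc09cc09ddc09dc09c09dd09d0909ddcc08dcc08cc08ddc08dc08c08dd08d0808ddcc0dcc0cc0ddc0dc0c0dd0d00ddccdccccddcdccddd) i2)) (g1 i1) (g1 (Nat.succ i1)) List.nil) fun j => (pk61d (nat_lit 9) 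
    (nat_lit 0x4ca57259046a2b11864220aff7d3d9e2ed75399c6e16db59a4cd64b1984bf5eae168b156aa950a551a893695482290a813e1e0ea6f35198c25d2d158a65125918843d1c8d8642f168a048210e8683015098481c0b048180803008000000) j))) (nat_lit 0) (nat_lit 82) List.nil) : List (List ℕ))
    = ?xq9007 → (List (List ℕ))) ?hq9007; (case hq9007 => (set_option maxRecDepth 1000000 in set_option simprocs false in conv => lhs; reduce; dsimp only)); intro _; exact ?xq9007 : List (List ℕ))

/-- the patterns which do not occur -/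
def zc : List (ℕ × ℕ) :=
  [(0xc0ec0a08c0d, 0x3c0c0002809000380500020040002c03000180200034070000400), (0x1a0340b0480c,
  0x380b0003409000300600020040003c03000140200028070000400), (0x1202c1a0300d,
  0x340b0003007000240600038050003c03000200200028040000400), (0xa02c0c0541d,
  0x240600038050002c040003c0300020020003001000340a0001c00), (0, 0), (0, 0), (0x8041c9559993012765c10a669,
  0x80941f0008c1b040a0190009817000601500088130807812000a40f040900e080840d040a80c080ac0b00050070404406080701a00024050407404000800304020020804001000580a0809c00),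
  (0x9064d05023884427840c6a64c,
  0x781c000741200050110005c10040680f080840e040600d080640c0808c0b0806c150004c0a00098080c088070c07c0604094050c09c040409003040580200080010002400),
  (0, 0), (0x4008033030935acdb0ed23,
  0x80190006c18000681600084130207c120005011000900f020780e000400d000880b020740a00030090005c07000940600020050008c03020700200010010005400),
  (0, 0), (0x8200984a0680303310ce0,
  0x981f0308c1e010941c0006015020741301064120003c0c030880b000340a02050080004007000240602080170009c05000900401084030304402000a01a010a41b01058010003800),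
  (13658171, 0x280600020050001c030002c0200010010002400), (61878290, 0x2c0800028070002403000180200010010001400),
  (18934796, 0x2c0800028050001c04000180300024020000400), (27323405, 0x2c0800028060001c04000140300024020000400), (0,
  0), (0xa820d282b48c4e94c16944030e319458,
  0x10b82c000a024000c4220009c20030b41c000a41900074180006817000ac2100078160006c120004c10010bc0e030c00b0109809000a80800054070007c060005005020340402028030108c020204401030940f0003000),
  (0x171946010240b6e659,
  0x7c1c0408019080681504050110005c100006c0d0c06007000840e00024050c058040803003040200208078010003c0a0c04c0600074120002c00),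
  (0x2a0ed0740c1a09038d28,
  0x107c15000601402064110206c10010780d0205c0c020700b010840a01074090308008000680702038050103c040004803010180203058010004c00),
  (44101645, 0x2c0800028050001c04000240300018020000400), (13668426, 0x2c06000200500028030001c0200010010002400),
  (13668426, 0x2c06000200500028030001c0200010010002400), (37760042, 0x2c0800028070001803000240200010010001400),
  (13652043, 0x280600020050002c030001c0200010010002400), (13660203, 0x2c0700020050001803000280200010010002400),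
  (13708308, 0x2c0700020050001803000280200010010002400), (10514507, 0x280600020050001c030002c0200010010002400),
  (27276347, 0x2c08000240600028030001c0200010010001400), (44101645, 0x2c0800028050001c04000240300018020000400),
  (13667346, 0x280700020050002c03000180200010010002400), (13660203, 0x2c0700020050001803000280200010010002400), (0,
  0), (0xc84a1080c0783610508ce54343d,
  0x30b42c000c42b010b82a0109021000781d0107c1a00094180206c1601098150007012030c0110004c100208c22000640f010bc0d010a40c00024070002c060209c14000800a000200500038030105c020001001030a000),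
  (0x985b98c6035ca3d6f25c8940d,
  0x80170806c150c098140407c1304090110005810000480f080640e0c08c0d000880c040680b0009c0a00084090006007000740600020050c07003080940204078040000400),
  (0x64498740c0f6657558d,
  0xc0801600068150005c140007013000480f000840e000400d0c0740b0006c0a00030090c07807000640600020050c07c03000600200010010004400),
  (0xec320d42d, 0x3c0a0003806000300900020050002c03000340200010010001c00), (11596866,
  0x2c0600020050001c03000280200010010002400), (12634173, 0x2c06000200500028030001c0200010010002400), (11596866,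
  0x2c0600020050001c03000280200010010002400), (70264853, 0x2c0800028070002403000180200010010001400), (12651549,
  0x2c0600020050001c03000280200010010002400), (12612675, 0x280600020050001c030002c0200010010002400), (10554389,
  0x2c0700020050001803000280200010010002400), (12634173, 0x2c06000200500028030001c0200010010002400), (12618778,
  0x280600020050002c030001c0200010010002400), (12612675, 0x280600020050001c030002c0200010010002400), (12609571,
  0x2c0700020050001803000280200010010002400), (11580468, 0x2c0700020050002803000180200010010002400), (47197236,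
  0x2c0800028070001803000240200010010001400), (54537261, 0x2c0800028060001c03000240200010010001400), (10564660,
  0x2807000200500018030002c0200010010002400), (11580468, 0x2c0700020050002803000180200010010002400), (11572274,
  0x280700020050002c03000180200010010002400), (11577380, 0x280700020050002c03000180200010010002400), (11596866,
  0x2c0600020050001c03000280200010010002400), (10538013, 0x280600020050002c030001c0200010010002400), (10515507,
  0x2c0700020050001803000280200010010002400), (10539085, 0x2c06000200500028030001c0200010010002400), (10554389,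
  0x2c0700020050001803000280200010010002400), (0, 0), (0, 0), (0, 0), (0, 0)]

/-- the certificates -/
def ex : Ex4 :=
  ⟨cpos, cneg, stab, rules, tab, pre, [60, 8, 4, 61, 62, 32, 16, 5, 10, 63], zc⟩

/-- the second vectors -/
def hs : List (List ℕ) :=
  [[], [12], [13], [], [], [12], [12, 12], [13], [12], []]

/-- the images of the generating vectors -/
def Ms : List ℕ :=
  [0x1010000000000000201451504041010010110104040155101015454040410100101101040401545010100000000000000000000000000000000000000000000000000000000000000000404010140401010101040400101040404040101404010101010404001010404,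
  0x2010000000000000302a81008042010020120108040a2510201e1c60c0810300201302040c0274b020100000000000000000000000000000000000000000000000000000000000000000804020180402010201080400201080408040201804020102010804002010804,
  0x3020000000000000201b4390c0810300201302040c0724b0201a851080420100201201080408a54020100000000000000000000000000000000000000000000000000000000000000000804020180402010201080400201080408040201804020102010804002010804,
  0x1010000000000000101544504041010010110104040455401015555080410100101101040405555010100000000000000000000000000000000000000000000000000000000000000000404010140401010101040400101040404040101404010101010404001010404,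
  0x1020000000000000201959504041010010110104040a6a601015154040410100101101040401015010100000000000000000000000000000000000000000000000000000000000000000404010140401010101040400101040404040101404010101010404001010404,
  0x30200000000000003021e390c0810300201302040c072b402011e390c0810300201302040c0d81e020100000000000000000000000000000000000000000000000000000000000000000804020180402010201080400201080408040201804020102010804002010804,
  0x30200000000000001034b930c0810300201302040c08d4b02019c87040c302002011030c0802d1b020100000000000000000000000000000000000000000000000000000000000000000804020180402010201080400201080408040201804020102010804002010804,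
  0x3020000000000000201b46c0c0810300201302040c0d8b40201aa5508042010020120108040aa55020100000000000000000000000000000000000000000000000000000000000000000804020180402010201080400201080408040201804020102010804002010804,
  0x2010000000000000302aa5508042010020120108040aa5502011e390c0810300201302040c08d4b020100000000000000000000000000000000000000000000000000000000000000000804020180402010201080400201080408040201804020102010804002010804,
  0x10100000000000001015aa90804102001011020408055550101aa56040410100101101080405555010100000000000000000000000000000000000000000000000000000000000000000404010140401010101040400101040404040101404010101010404001010404]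

/-- the certificates of a type -/
def cs0 : List (ℕ × ℕ) :=
  [(0, 1024), (0, 1024), (0, 1024), (0, 1024), (0, 1024), (0, 1024), (0, 1024), (0, 1024), (0, 1024), (0, 1024), (0,
  1024), (0, 1024), (0, 1024), (0, 1024), (0, 1024), (0, 1024), (0, 1049600), (0, 1049600), (0x3e8f830d28500ad,
  0x6c180004c10020580e010680d0305c0b020440a01064090003c0600048050001c040005403020200203030010205000), (111501370,
  0x3c0c030340b02028060001c040002403000380200014010302000), (298, 0x140201010010100c00), (298, 0x140201010010100c00),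
  (226, 0x14020100c010101000), (226, 0x14020100c010101000), (0, 2098176), (0, 2098176), (274, 0x140201010010000c00),
  (274, 0x140201010010000c00), (130, 0x14020000c010101000), (130, 0x14020000c010101000), (0x201a91c4291b,
  0x205c110004c10000340a0002c08020500600024050003c0c0001c040305803010380200048010305400), (0x80e21f063,
  0x20400e0003c0c0204c090002c0800028060001c040304803010340200014010304400), (0, 1024), (0, 1024), (0, 1024), (0,
  1024), (0, 1024), (0, 1024), (0, 1024), (0, 1024), (0, 1024), (0, 1024), (0, 1024), (0, 1024), (0, 1024), (0,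
  1024), (0, 1024), (0, 1024), (0, 4195328), (0, 4195328), (0x8e9718d64b,
  0x4c10000480a0003c090002c0800038050001c040401803040440200030010403400), (0x6d9a96594,
  0x4c100003c0c0c0380b080480a00034050001c040002403000180200044010c02000), (587, 0x140204010010400c00), (587,
  0x140204010010400c00), (515, 0x14020400c010401000), (515, 0x14020400c010401000), (0, 8389632), (0, 8389632), (531,
  0x140204010010000c00), (531, 0x140204010010000c00), (387, 0x14020000c010401000), (387, 0x14020000c010401000),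
  (0x249689b587624, 0x4c10000480e000580d0003c0c0002c08040540600024050001c04040280300044020c050010405c00),
  (0x8468206e7d, 0x40440d0003c0c000480a0002c0800038060001c0404014030c0400200024010804c00), (58,
  0x14020000c010001000), (58, 0x14020000c010001000), (27, 0x14020000c010001000), (27, 0x14020000c010001000)]

/-- the certificates of a type -/
def cs1 : List (ℕ × ℕ) :=
  [(0, 1024), (0, 1024), (0, 1024), (0, 1024), (0, 1024), (0, 1024), (0, 1024), (0, 1024), (0, 1024), (0, 1024), (0,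
  1024), (0, 1024), (0, 1024), (0, 1024), (0, 1024), (0, 1024), (0, 1049600), (0, 2098176), (253962,
  0x302c0700024040202803000180200014010202000), (327690, 0x2c0703024040202003000180200014010202800), (298,
  0x200c0201014010101000), (0, 3146752), (0, 3146752), (226, 0x20140201010010200c00), (0, 2098176), (0, 3146752),
  (226, 0x20140201010010000c00), (0, 1049600), (0, 1049600), (82, 0x10020000c010201400), (305424,
  0x10280602024040102c0303014020001c010202000), (82218, 0x280602014040101c030202c0200020010302400), (0, 1024), (0,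
  1024), (0, 1024), (0, 1024), (0, 1024), (0, 1024), (0, 1024), (0, 1024), (0, 1024), (0, 1024), (0, 1024), (0,
  1024), (0, 1024), (0, 1024), (0, 1024), (0, 1024), (0, 4195328), (0, 12583936), (615892483,
  0x3c0c000340a0002c060001c040403803040140200020010402400), (429493787,
  0x8030090002c0808038060001c040c028030c014020803c010403400), (587, 0x140204010010400c00), (611,
  0x14020c010010c00c00), (515, 0x14020400c010401000), (539, 0x14020c00c010c01000), (0, 8389632), (0, 4195328), (531,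
  0x140204010010000c00), (555, 0x14020c010010000c00), (387, 0x14020000c010401000), (411, 0x14020000c010c01000),
  (0x8464b6e41b, 0x403c0b000340a0003009080380700040040401803000140204020010804400), (35155347,
  0xc03c0a0002c080c038050001c0400030030c0240200018010003400), (0, 1024), (10, 0x10020000c010001400), (27,
  0x14020000c010001000), (51, 0x14020000c010001000)]

/-- the certificates of a type -/
def cs2 : List (ℕ × ℕ) :=
  [(0, 1024), (0, 1024), (0, 1024), (0, 1024), (0, 1024), (0, 1024), (0, 1024), (0, 1024), (0, 1024), (0, 1024), (0,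
  1024), (0, 1024), (0, 1024), (0, 1024), (0, 1024), (0, 1024), (0, 1049600), (0, 2098176), (0x215a4492a,
  0x48090002c0800038050004c0d0001c040103c030003006010280200040010004400), (144746776,
  0x3c0c0002c08000380702024040301403000340200028010001800), (298, 0x140201010010100c00), (306, 0x140202010010200c00),
  (226, 0x14020100c010101000), (234, 0x14020200c010201000), (0, 2098176), (0, 3146752), (274, 0x140201010010000c00),
  (282, 0x140202010010000c00), (130, 0x14020000c010101000), (138, 0x14020000c010201000), (109381666,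
  0x20300a0002c080203c050001c040102403030380200018010003400), (67225834,
  0x30090002c0800038060001c040203c03020140200028010203400), (0, 1024), (0, 1024), (0, 1024), (0, 1024), (0, 1024),
  (0, 1024), (0, 1024), (0, 1024), (0, 1024), (0, 1024), (0, 1024), (0, 1024), (0, 1024), (0, 1024), (0, 1024), (0,
  1024), (0, 4195328), (0, 8389632), (11785, 0xc02c0800018040801c03000280200024010801400), (394755,
  0xc020050802c040801c0304018020c028010402400), (587, 0x800c0204014010401000), (0, 12583936), (0, 12583936), (515,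
  0x80140204010010800c00), (0, 8389632), (0, 12583936), (515, 0x80140204010010000c00), (0, 4195328), (0, 4195328),
  (371, 0x10020000c010801400), (599555, 0x4024050801c04040180300028020c020010402c00), (9731,
  0x28050802c040801c03040180200020010802400), (58, 0x14020000c010001000), (66, 0x14020000c010001000), (0, 1024), (11,
  0x10020000c010001400)]

/-- the certificates of a type -/
def cs3 : List (ℕ × ℕ) :=
  (by
  refine (?fq9012 : ((pk61l (fun i1 => (_root_.Prod.mk (pk61d (nat_lit 49) 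
    (nat_lit 0x3380cb76c54960094c1b8465b000d011104a10001972e4b60c0000026c1c120000000260b2000000000125800000000084c00000000040600000000018300000000009500000000004480000000001c400000000009800000000004100000000000e8000000000036000000000000) (pk61d (nat_lit 5) 
    (nat_lit 0x84428c108528004a56b6b8000000000000000000000063c6331800294e72100000000000000000000000) i1)) (pk61d (nat_lit 323) 
    (nat_lit 0x5c140c058120c0440d0003c0c00054090002c080c040050001c0404018030804c02000280104038000000040a01c000801a000a8160006012040880e000400a02030080609806000500400078020009000000000000003011038000f0303010024000b02030120180007010100a00c20130080005004000d00000000000000001e060001c0502026048002003000240282022018000e0206010010001a00840160000000000000000000000000000003c0c0002c080c034070802806000140300024020003801080100000000000000000000000000000000000000680e000400a0206008020580602050040204802020300000000000000000000000000000000000000000000000000408010040700c04060080405004000900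0000000000000000000000000000000000000000000000000000000000000000a0102008008200600000000000000000000000000000000000000000000000000000000000000000140204010010000c00000000000000000000000000000000000000000000000000000000000000000280408018020802000000000000000000000000000000000000000000000000000000000000000000500804040040403000000000000000000000000000000000000000000000000000000000000000000a010080800800060000000000000000000000000000000000000000000000000000000000000000014020100c010101000000000000000000000000000000000000000000000000000000000000000000280400018020802000000000000000000000000000000000000000000000000000000000000000000500800030040404000000000000000000000000000000000000000000000000000000000000000000a010000600800080000000000000000000000000000000000000000000000000000000000000000000000000000080040000000000000000000000000000000000000000000000000000000000000000000000000000080080000000000000000000000000000000000000000000000000000000000000000000000000000080100000000000000000000000000000000000000000000000000000000000000000000000000000080200000000000000000000000000000000000000000000000000000000000000000000000000000000400)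 (pk61d (nat_lit 5) 
    (nat_lit 0x294a5a44e7630845adad84863000000000000000000007ccc64a4424214a7382100000000000000000000) i1)))) (nat_lit 0) (nat_lit 68) List.nil) : List (ℕ × ℕ))
    = ?xq9012 → (List (ℕ × ℕ))) ?hq9012; (case hq9012 => (set_option maxRecDepth 1000000 in conv => lhs; reduce)); intro _; exact ?xq9012 : List (ℕ × ℕ))

/-- the certificates of a type -/
def cs4 : List (ℕ × ℕ) :=
  (by
  refine (?fq9013 : ((pk61l (fun i1 => (_root_.Prod.mk (pk61d (nat_lit 47) 
    (nat_lit 0x68115335341400ac0f83187400f8260222080040711283280000006e5c300000000049600000000084c000000001018000000001b90000000003060000000004a8000000000890000000000e20000000001040000000000e80000000000d800000000000) (pk61d (nat_lit 5) 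
    (nat_lit 0x8442630e7528004a56b42000000000000000000000008346329400210c673c0000000000000000000000) i1)) (pk61d (nat_lit 323) 
    (nat_lit 0x9820040a01c000781800068140005810040b80c000900a00038080204806060b0040008802000a800000000000000c13034000f030000e028000b02008120180007010001100c000900800050040c10000000000000001020070001e060001604010260300014028000e0201824018081a01000120081822000000000000000000000103c0d01028080304407000240602040040102c0300014020103001020380000000000000000000000000000000000000680e000400a0806008080580608050040804802080300000000000000000000000000000000000000000000000001008010100700c100600810050040009000000000000000000000000000000000000000000000000000000000000000000a0102008008200600000000000000000000000000000000000000000000000000000000000000000140204010010000c00000000000000000000000000000000000000000000000000000000000000000280408018020802000000000000000000000000000000000000000000000000000000000000000000500804040040403000000000000000000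000000000000000000000000000000000000000000000000a010080800800060000000000000000000000000000000000000000000000000000000000000000014020100c010101000000000000000000000000000000000000000000000000000000000000000000280400018020802000000000000000000000000000000000000000000000000000000000000000000500800030040404000000000000000000000000000000000000000000000000000000000000000000a010000600800080000000000000000000000000000000000000000000000000000000000000000000000000000080040000000000000000000000000000000000000000000000000000000000000000000000000000080080000000000000000000000000000000000000000000000000000000000000000000000000000080100000000000000000000000000000000000000000000000000000000000000000000000000000080200000000000000000000000000000000000000000000000000000000000000000000000000000000400) (pk61d (nat_lit 5) 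
    (nat_lit 0x294a57bce7630845adad73863000000000000000000009c4c64a4424214a8482100000000000000000000) i1)))) (nat_lit 0) (nat_lit 68) List.nil) : List (ℕ × ℕ))
    = ?xq9013 → (List (ℕ × ℕ))) ?hq9013; (case hq9013 => (set_option maxRecDepth 1000000 in conv => lhs; reduce)); intro _; exact ?xq9013 : List (ℕ × ℕ))

/-- the certificates of a type -/
def cs5 : List (ℕ × ℕ) :=
  [(0, 1024), (0, 1024), (0, 1024), (0, 1024), (0, 1024), (0, 1024), (0, 1024), (0, 1024), (0, 1024), (0, 1024), (0,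
  1024), (0, 1024), (0, 1024), (0, 1024), (0, 1024), (0, 1024), (0, 1049600), (0, 2098176), (352338,
  0x302c0700024040001803000140202028010302000), (57642, 0x30200602014040101c030202c0203028010302400), (298,
  0x200c0201014010101000), (0, 3146752), (0, 3146752), (226, 0x20140201010010200c00), (0, 2098176), (0, 3146752),
  (226, 0x20140201010010000c00), (0, 1049600), (0, 1049600), (82, 0x10020000c010201400), (231720,
  0x1024060202c0401028030001c0203014010102000), (352338, 0x302c0700024040001803000140202028010102000), (0, 1024), (0,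
  1024), (0, 1024), (0, 1024), (0, 1024), (0, 1024), (0, 1024), (0, 1024), (0, 1024), (0, 1024), (0, 1024), (0,
  1024), (0, 1024), (0, 1024), (0, 1024), (0, 1024), (0, 4195328), (0, 12583936), (0x260aa162d,
  0x4c0a000300900048070003c0600020050c02c040c03803040340200040010004400), (0x666158327d,
  0x3c0c000380b080480a0804007000200504018040c0340304024020804c010404400), (636500,
  0x24060001c050c0100204020010400c00), (637, 0x14020400c010c01000), (565, 0x14020c010010400c00), (552517,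
  0x1c0500018030c0200204010010c02400), (0, 8389632), (0, 4195328), (570890, 0x24060001c050c010020400c010002000),
  (581, 0x14020400c010001000), (437, 0x140200010010400c00), (404909, 0x240500018030001c0200010010c02000),
  (0x9261d6d604, 0x3c0c00048090002c08000340704044050c01804040380300028020c040010404c00), (0x271696455c995,
  0x40540e0003c0c00044070004c100002c06080501200020050403404000280300024020005c010405800), (0, 1024), (10,
  0x10020000c010001400), (77, 0x140200010010000c00), (12309, 0x2405000180300010020001c010002000)]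

/-- the certificates of a type -/
def cs6 : List (ℕ × ℕ) :=
  [(0, 1024), (0, 1024), (0, 1024), (0, 1024), (0, 1024), (0, 1024), (0, 1024), (0, 1024), (0, 1024), (0, 1024), (0,
  1024), (0, 1024), (0, 1024), (0, 1024), (0, 1024), (0, 1024), (0, 1049600), (0, 3146752), (352266,
  0x20280600024040302c030001c0200014010302000), (303186, 0x280602024040001c03000140203020010002c00), (0, 2098176),
  (298, 0x30100201014010300c00), (226, 0x300c0201010010101400), (0, 2098176), (0, 2098176), (0, 1049600), (0,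
  3146752), (226, 0x300c0201010010001400), (82, 0x14020000c010101000), (0, 3146752), (278538,
  0x2806020240403020030001c0200014010202c00), (84024, 0x302807000140402020030002c0200024010001800), (0, 1024), (0,
  1024), (0, 1024), (0, 1024), (0, 1024), (0, 1024), (0, 1024), (0, 1024), (0, 1024), (0, 1024), (0, 1024), (0,
  1024), (0, 1024), (0, 1024), (0, 1024), (0, 1024), (0, 4195328), (0, 8389632), (0x8244c6701d,
  0x3c0c080480a0002c0800038060c04c05000440400024030001c0200034010804000), (0x9042c68d94,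
  0x80400d0003c0c0004c0a0002c0600020050c0440400024030001c0200038010004800), (611972,
  0x20050001803080240204010010401c00), (612, 0x140204010010800c00), (540, 0x14020800c010401000), (577068,
  0x1c040001803080200204014010802400), (0, 8389632), (0, 12583936), (535108, 0x2005000180308024020401c010001000),
  (556, 0x140204010010000c00), (412, 0x14020000c010401000), (429460, 0x240400018030001c0200014010802000),
  (0x9b00b0d179, 0x4c10000380b00030090803c08080480508044040c01c03000280200034010001800), (0x8c41c9900a,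
  0xc04c0e0003c0c04044090002c080003406040280408048030001c0200014010004000), (10, 0x14020000c010001000), (0, 1024),
  (52, 0x14020000c010001000), (13332, 0x2004000180300014020001c010002400)]

/-- the certificates of a type -/
def cs7 : List (ℕ × ℕ) :=
  (by
  refine (?fq9016 : ((pk61l (fun i1 => (_root_.Prod.mk (pk61d (nat_lit 20) 
    (nat_lit 0x92c1980c095cc112e0d22e0a2260b2026030024b0020300173001320012a0011a00112000ea000e2000980008a00082000420003a0000b00000) (pk61d (nat_lit 5) 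
    (nat_lit 0x8062851a0038007000fb540000000000000000000000944a45240041d8b9980000000000000000000000) i1)) (pk61d (nat_lit 182) 
    (nat_lit 0x3407000200501030040102c03010280201024010101800d01c00080140409010040c00c040a008040b004000600340600020050102404010300301028020102c010201c000000300a0142009010100b00c2008008300700430060000000802c080c01c040001403000280200024010c018000000000a014200b010200700c100600800080042009000000000240708020040802c03040280200014010001800000000000000408010040700c040600804050040009000000000000000000000000000080140204010010800c0000000000000000000000000002005008100400400030000000000000000000000000000800c02040140104010000000000000000000000000000000500808040040803000000000000000000000000000000140202010010000c000000000000000000000000000000500808030040804000000000000000000000000000000140201010010100c00000000000000000000000000000050080404004000300000000000000000000000000000014020100c0101010000000000000000000000000000000500800030040804000000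00000000000000000000000014020000c010101000000000000000000000000000000050080003004000400000000000000000000000000000010020000c0108014000000000000000000000000000000400800030040005000000000000000000000000000000000000000000c0040000000000000000000000000000000000000000020010000000000000000000000000000000000000000004004000000000000000000000000000000000000000000c010000000000000000000000000000000000000000002004000000000000000000000000000000000000000000401000000000000000000000000000000000000000000000400) (pk61d (nat_lit 5) 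
    (nat_lit 0x38129be10424cc5a18d2cd8a400000000000000000000d716a834627b22edd44100000000000000000000) i1)))) (nat_lit 0) (nat_lit 68) List.nil) : List (ℕ × ℕ))
    = ?xq9016 → (List (ℕ × ℕ))) ?hq9016; (case hq9016 => (set_option maxRecDepth 1000000 in conv => lhs; reduce)); intro _; exact ?xq9016 : List (ℕ × ℕ))

/-- the certificates of a type -/
def cs8 : List (ℕ × ℕ) :=
  (by
  refine (?fq9017 : ((pk61l (fun i1 => (_root_.Prod.mk (pk61d (nat_lit 19) 
    (nat_lit 0x1e176f86dcd6052941c4f8029c0290026300496008ac010d80213004060078400dc8019b00306004a8007100052000660006c000500000) (pk61d (nat_lit 5) 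
    (nat_lit 0x1882055507730006ae0fb240000000000000000000000a4c8001400280068c80000000000000000000000) i1)) (pk61d (nat_lit 182) 
    (nat_lit 0x340a000300904020040401c03040180204014010402c00d0180008014100b010100900c100a008100c00400070000000302c070002404020280300018020001401020200000000c0b01c0009010000600c0005008080a004040800000001024050201c040101803000280203020010102c000000000b01c0c09010000600c00050080808004000a000000000000004020040401c03040180204014010002400000000000001007010100500c100600810080043009000000000000000000000000000020140201010010200c0000000000000000000000000000805008040400400030000000000000000000000000000200c0201014010101000000000000000000000000000000050083004004300300000000000000000000000000000014020c010010000c000000000000000000000000000000500830030043004000000000000000000000000000000140204010010400c00000000000000000000000000000050081004004000300000000000000000000000000000014020400c010401000000000000000000000000000000050080003004300400000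000000000000000000000000014020000c010401000000000000000000000000000000050080003004000400000000000000000000000000000010020000c0102014000000000000000000000000000000400800030040005000000000000000000000000000000000000000000c0040000000000000000000000000000000000000000020010000000000000000000000000000000000000000004004000000000000000000000000000000000000000000c010000000000000000000000000000000000000000002004000000000000000000000000000000000000000000401000000000000000000000000000000000000000000000400) (pk61d (nat_lit 5) 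
    (nat_lit 0x4a4e0af16a834857b22edd8c400000000000000000000ce1010cc62a0c72be84100000000000000000000) i1)))) (nat_lit 0) (nat_lit 68) List.nil) : List (ℕ × ℕ))
    = ?xq9017 → (List (ℕ × ℕ))) ?hq9017; (case hq9017 => (set_option maxRecDepth 1000000 in conv => lhs; reduce)); intro _; exact ?xq9017 : List (ℕ × ℕ))

/-- the certificates of a type -/
def cs9 : List (ℕ × ℕ) :=
  (by
  refine (?fq9018 : ((pk61l (fun i1 => (_root_.Prod.mk (pk61d (nat_lit 29) 
    (nat_lit 0x1ed7f1b9dcbd4fa000b2260004c164000024b00001098000080c0000372000018300000950000044800001c400000980000041000000e800000360000000) (pk61d (nat_lit 5) 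
    (nat_lit 0x844283d085ac005298c4a400000000000000000000006b86331800294e72100000000000000000000000) i1)) (pk61d (nat_lit 239) 
    (nat_lit 0x881c000801800068140005812080400808038060803004080280208078011028000c024000b01c00080141010010100f00c100e008100d004100600000000000000001a05000180480810020080e018080c010080a008081600000000000000003407000200501030040102c0301028020102401010180000000000000000000000000000804008080380608030040802802000480000000000000000000000000000408010040700c040600804050040009000000000000000000000000000000000000000000000a0102008008200600000000000000000000000000000000000000000000140204010010000c00000000000000000000000000000000000000000000280408018020802000000000000000000000000000000000000000000000500804040040403000000000000000000000000000000000000000000000a010080800800060000000000000000000000000000000000000000000014020100c010101000000000000000000000000000000000000000000000280400018020802000000000000000000000000000000000000000000000500800030040404000000000000000000000000000000000000000000000a010000600800080000000000000000000000000000000000000000000000000000000080040000000000000000000000000000000000000000000000000000000080080000000000000000000000000000000000000000000000000000000080100000000000000000000000000000000000000000000000000000000080200000000000000000000000000000000000000000000000000000000000400)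 (pk61d (nat_lit 5) 
    (nat_lit 0x294a59c8e7630845adad7bc6300000000000000000000844c64a4424214a7382100000000000000000000) i1)))) (nat_lit 0) (nat_lit 68) List.nil) : List (ℕ × ℕ))
    = ?xq9018 → (List (ℕ × ℕ))) ?hq9018; (case hq9018 => (set_option maxRecDepth 1000000 in conv => lhs; reduce)); intro _; exact ?xq9018 : List (ℕ × ℕ))

/-- the classes `y₁ y₃ x₁ x₃ x₅` and an element of order 17 -/
def C : Cls :=
  ⟨[([13], 3), ([12], 3), ([11, 2], 5), ([9, 0], 5), ([10, 8, 2, 0], 5), ([11, 8, 2, 0], 17)], [11, 8, 2, 0], [5],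
  [[true, true], [false, true, false, true, false, true, false, true, false, true], [false, false, false, true,
  false, true, false, true, false, false, false, true, false, true, false, true]]⟩

/-- the letters as words in the generators -/
noncomputable def ws : List (List Bool) :=
  (by
  refine (?fq9020 : ((pk61l (fun i1 => ((fun g1 : Nat → Nat => pk61l (fun i2 => (pk61f (pk61d (nat_lit 1) 
    (nat_lit 0x15005024010880288211490540484549050891122091089021150920902b090104208422408454248240a0885011500408908) i2) fun t2_2 => (pk61c (Nat.div t2_2 (nat_lit 1)) _root_.Bool.false fun _ => _root_.Bool.true))) (g1 i1) (g1 (Nat.succ i1)) List.nil) fun j => (pk61d (nat_lit 9) 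
    (nat_lit 0x646e3539a469fee4622954880301044000) j))) (nat_lit 0) (nat_lit 14) List.nil) : List (List Bool))
    = ?xq9020 → (List (List Bool))) ?hq9020; (case hq9020 => (set_option maxRecDepth 1000000 in set_option simprocs false in conv => lhs; reduce; dsimp only)); intro _; exact ?xq9020 : List (List Bool))

/-- the dimensions of the fixed spaces -/
def rows : List (List ℕ) :=
  (by
  refine (?fq9021 : ((pk61l (fun i1 => (pk61l (fun i2 => (pk61d (nat_lit 8) 
    (nat_lit 0x800818181028308008181018302820000808000808200008000808081000040400060810000400040806080000040004000800000004000401010101010101) i2)) (Nat.mul (nat_lit 7) i1) (Nat.mul (nat_lit 7) (Nat.succ i1)) List.nil)) (nat_lit 0) (nat_lit 9) List.nil) : List (List ℕ))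
    = ?xq9021 → (List (List ℕ))) ?hq9021; (case hq9021 => (set_option maxRecDepth 1000000 in set_option simprocs false in conv => lhs; reduce; dsimp only)); intro _; exact ?xq9021 : List (List ℕ))

end Cfsg.Agent.E82.M44
end

-- part: E82/M44/Tab
section
/-!
# The pressure machine for `Sp₄(4)`: the simple modules of dimension at most 32 (helper79)
-/

set_option autoImplicit false
set_option maxRecDepth 100000

namespace Cfsg.Agent.E82.M44

open Cfsg.Agent.E82.Mach

/-- the simple module `1` -/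
def G0 : List (List (ℕ × ℕ)) :=
  [[], [], [], [], [], [], [], [], [], [], [], [], [], []]

/-- a tree of words -/
def p0 : List (ℕ × ℕ) :=
  []

/-- a tree of words -/
def q0 : List (ℕ × ℕ) :=
  []

/-- the simple module `8a` -/
def G1 : List (List (ℕ × ℕ)) :=
  (by
  refine (?fq9022 : ((pk61l (fun i1 => ((fun g1 : Nat → Nat => pk61l (fun i2 => (_root_.Prod.mk (pk61d (nat_lit 3) 
    (nat_lit 0x1fe697dad8da207fbeb636ac6890436890d10da6bfc48f88) i2) (pk61d (nat_lit 3) 
    (nat_lit 0x1f74d6facad30434dafb907e22cb6597ef67df7facad3b1a) i2))) (g1 i1) (g1 (Nat.succ i1)) List.nil) fun j => (pk61d (nat_lit 6) 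
    (nat_lit 0x3fe6daa889e6d94cf30a100) j))) (nat_lit 0) (nat_lit 14) List.nil) : List (List (ℕ × ℕ)))
    = ?xq9022 → (List (List (ℕ × ℕ)))) ?hq9022; (case hq9022 => (set_option maxRecDepth 1000000 in set_option simprocs false in conv => lhs; reduce; dsimp only)); intro _; exact ?xq9022 : List (List (ℕ × ℕ)))

/-- a tree of words -/
def p1 : List (ℕ × ℕ) :=
  [(0, 6), (0, 7), (0, 0), (0, 4), (0, 1), (0, 5), (0, 12)]

/-- a tree of words -/
def q1 : List (ℕ × ℕ) :=
  [(0, 8), (0, 9), (0, 12), (1, 10), (1, 11), (4, 8), (4, 9)]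

/-- the simple module `8b` -/
def G2 : List (List (ℕ × ℕ)) :=
  (by
  refine (?fq9023 : ((pk61l (fun i1 => ((fun g1 : Nat → Nat => pk61l (fun i2 => (_root_.Prod.mk (pk61d (nat_lit 3) 
    (nat_lit 0x1feb236881646d7f9b5f3564b1b44868820116c24584349a) i2) (pk61d (nat_lit 3) 
    (nat_lit 0x1f79634c112c69d94836109a6bef65facdf7df769fcd4b2c) i2))) (g1 i1) (g1 (Nat.succ i1)) List.nil) fun j => (pk61d (nat_lit 6) 
    (nat_lit 0x3fced9e381e61444f245080) j))) (nat_lit 0) (nat_lit 14) List.nil) : List (List (ℕ × ℕ)))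
    = ?xq9023 → (List (List (ℕ × ℕ)))) ?hq9023; (case hq9023 => (set_option maxRecDepth 1000000 in set_option simprocs false in conv => lhs; reduce; dsimp only)); intro _; exact ?xq9023 : List (List (ℕ × ℕ)))

/-- a tree of words -/
def p2 : List (ℕ × ℕ) :=
  [(0, 4), (0, 5), (0, 2), (0, 6), (0, 3), (0, 7), (0, 13)]

/-- a tree of words -/
def q2 : List (ℕ × ℕ) :=
  [(0, 10), (0, 11), (0, 13), (1, 8), (1, 9), (4, 10), (4, 11)]

/-- the simple module `16a` -/
def G3 : List (List (ℕ × ℕ)) :=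
  (by
  refine (?fq9024 : ((pk61l (fun i1 => ((fun g1 : Nat → Nat => pk61l (fun i2 => (_root_.Prod.mk (pk61d (nat_lit 4) 
    (nat_lit 0xeddbba988655221eddbaa443221ffeda655ffeedb65edcccbba99998888774331eccba999888774326654321100065422100bba9877765433222211111000ba97764432222211100ba988777211b9987721ffdbaa6666555544321000ffeba66655543200) i2) (pk61d (nat_lit 4) 
    (nat_lit 0xdedbab898565212dedaba434212b7897121a7988721fffed656a643ba54205650ffd65b64a5310650edecc998c43edc988c3edeccc98ffeededb3dba43f65edcc8feddedba4da3f5ffeedfba565feddfa65ecc898ba93b84398977721dcc98b94a8398771) i2))) (g1 i1) (g1 (Nat.succ i1)) List.nil) fun j => (pk61d (nat_lit 8) 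
    (nat_lit 0xc9baaea69e88786d654c392e261000) j))) (nat_lit 0) (nat_lit 14) List.nil) : List (List (ℕ × ℕ)))
    = ?xq9024 → (List (List (ℕ × ℕ)))) ?hq9024; (case hq9024 => (set_option maxRecDepth 1000000 in set_option simprocs false in conv => lhs; reduce; dsimp only)); intro _; exact ?xq9024 : List (List (ℕ × ℕ)))

/-- a tree of words -/
def p3 : List (ℕ × ℕ) :=
  [(0, 6), (0, 7), (0, 0), (0, 4), (0, 1), (0, 5), (1, 7), (1, 0), (1, 8), (1, 1), (1, 9), (2, 9), (3, 2), (3, 3),
  (3, 8)]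

/-- a tree of words -/
def q3 : List (ℕ × ℕ) :=
  [(0, 8), (0, 9), (1, 10), (1, 11), (1, 0), (2, 10), (2, 11), (3, 2), (3, 8), (3, 9), (4, 8), (4, 9), (6, 8), (6,
  9), (9, 0)]

/-- the simple module `16b` -/
def G4 : List (List (ℕ × ℕ)) :=
  (by
  refine (?fq9025 : ((pk61l (fun i1 => ((fun g1 : Nat → Nat => pk61l (fun i2 => (_root_.Prod.mk (pk61d (nat_lit 4) 
    (nat_lit 0xeed988665221eddbba988443211ffdbbbbaaaa998776551ffebbbaaa9877652eddccc98443edcc943ba9887776654322211111000b998776542222111005432100644322100edccc9886654444333321000ecc9865444333200baa877221ba97721) i2) (pk61d (nat_lit 4) 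
    (nat_lit 0xede898656212dedbab898434121ecc86549863434203430dcc9648534310430aba98777212ba87721ffeedfbaedecce95d9865c43feddfaedce986d85c3fdeabf6feddbaaf5fffedabababb985a96577721ffdbabab96a85771dedcc9434edcc843) i2))) (g1 i1) (g1 (Nat.succ i1)) List.nil) fun j => (pk61d (nat_lit 8) 
    (nat_lit 0xc3b7a8948479725a48413820100700) j))) (nat_lit 0) (nat_lit 14) List.nil) : List (List (ℕ × ℕ)))
    = ?xq9025 → (List (List (ℕ × ℕ)))) ?hq9025; (case hq9025 => (set_option maxRecDepth 1000000 in set_option simprocs false in conv => lhs; reduce; dsimp only)); intro _; exact ?xq9025 : List (List (ℕ × ℕ)))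

/-- a tree of words -/
def p4 : List (ℕ × ℕ) :=
  [(0, 5), (0, 4), (0, 2), (0, 6), (0, 3), (0, 7), (1, 4), (1, 2), (1, 10), (1, 6), (1, 3), (1, 7), (3, 0), (3, 1),
  (3, 12)]

/-- a tree of words -/
def q4 : List (ℕ × ℕ) :=
  [(0, 10), (0, 11), (1, 8), (1, 9), (1, 12), (2, 8), (2, 9), (3, 0), (3, 10), (3, 11), (4, 10), (4, 11), (6, 10),
  (7, 11), (9, 12)]

/-- the simple module `32` -/
def G5 : List (List (ℕ × ℕ)) :=
  (by
  refine (?fq9026 : ((pk61l (fun i1 => ((fun g1 : Nat → Nat => pk61l (fun i2 => (_root_.Prod.mk (pk61d (nat_lit 5) 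
    (nat_lit 0x3fef6f5abded5a5273946106b5894a0e73148418c41003fef77bcce317bda72946307bdcb5292941cc629481003ffffffef7bddef37bdef7ad6b59ce2f7b4e727bdcb5a8e730c62ffffef7bbcdef7ad6b38bda727b96a39862ef397bdab5ad694a5273946307bdcd6b5ac6318b5a92941484ef2f6ad6b4a52728c1ee6b5ac6316a4a0a4def59ce273946305ad494a0e7314a418c631884210421084000037ace2728c16a4a0e629063188420842000338c46107bdcd6b16b525294a10841ce6294831882108400003388c1ee6b16a4a528420e62906208420003bde6738ad6918c1ef735ad6b58c6316b525294a508420a520420ef338ad2307b9ad6b18c5a9294a10829020fffddef37bdef5ad6b39c4e525a947398a520c631884210420ffbbcdef7ad6b389c96a398a418c6210820) i2) (pk61d (nat_lit 5) 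
    (nat_lit 0x3dff6b7abdaf4ad2729c2306b1a9424e6390a418860083dff779dc6717b5e53946117b9ea5a928498e6290a0083bc7b99d7b58d637385a9195a509426b4ac6116b1a9424a428401ebdbc731accad3852128ad2306b12829020d6f5ff7fbcdcbba9cb7ade719398ea2906b5144310c2008862debfeeee7cd4b7ace0e65946a2086208062ffbfde76f6bd6957b9ed636f6bd695b4e4735ed33d230292b4897feef2f6ad1ee6b2f6ad2f33da46ac4b4813dff5af6bdaf5a56729de3075a2f77fdfef3bbd6ff9c1bd939bfebdaf6ad272bc5f683bfeef37afe4fec1bfefef5bbdaf394ffeffbbc7bbfeebf7adeb385ab7acace638c43ffb7abda72ffbfd7fb8edeb795eb0a39862bdaf5a57959cbbca4e308d2b46358f73dac6b56a2316522509bdab4ed67ca4a30ad1ac7b9ac6acac51128) i2))) (g1 i1) (g1 (Nat.succ i1)) List.nil) fun j => (pk61d (nat_lit 9) 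
    (nat_lit 0x79b859eba5626114753394c8a301103800) j))) (nat_lit 0) (nat_lit 14) List.nil) : List (List (ℕ × ℕ)))
    = ?xq9026 → (List (List (ℕ × ℕ)))) ?hq9026; (case hq9026 => (set_option maxRecDepth 1000000 in set_option simprocs false in conv => lhs; reduce; dsimp only)); intro _; exact ?xq9026 : List (List (ℕ × ℕ)))

/-- a tree of words -/
noncomputable def p5 : List (ℕ × ℕ) :=
  (by
  refine (?fq9027 : ((pk61l (fun i1 => (_root_.Prod.mk (pk61d (nat_lit 3) 
    (nat_lit 0x1636db6da492449248000000) i1) (pk61d (nat_lit 4) 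
    (nat_lit 0x55b751dca67516407356427351c6420) i1))) (nat_lit 0) (nat_lit 31) List.nil) : List (ℕ × ℕ))
    = ?xq9027 → (List (ℕ × ℕ))) ?hq9027; (case hq9027 => (set_option maxRecDepth 1000000 in set_option simprocs false in conv => lhs; reduce; dsimp only)); intro _; exact ?xq9027 : List (ℕ × ℕ))

/-- a tree of words -/
noncomputable def q5 : List (ℕ × ℕ) :=
  (by
  refine (?fq9028 : ((pk61l (fun i1 => (_root_.Prod.mk (pk61d (nat_lit 4) 
    (nat_lit 0xfeeeccaa99988877665544221100000) i1) (pk61d (nat_lit 4) 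
    (nat_lit 0xdba0ba98bdaba0989898ba98bab9ca8) i1))) (nat_lit 0) (nat_lit 31) List.nil) : List (ℕ × ℕ))
    = ?xq9028 → (List (ℕ × ℕ))) ?hq9028; (case hq9028 => (set_option maxRecDepth 1000000 in set_option simprocs false in conv => lhs; reduce; dsimp only)); intro _; exact ?xq9028 : List (ℕ × ℕ))

/-- the simple module `32'` -/
def G6 : List (List (ℕ × ℕ)) :=
  (by
  refine (?fq9029 : ((pk61l (fun i1 => ((fun g1 : Nat → Nat => pk61l (fun i2 => (_root_.Prod.mk (pk61d (nat_lit 5) 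
    (nat_lit 0x3bde6738bded5a5273946107b9cb528e73148418c41003fff6f5ace717b5ab5a46107b9cd6b12841ce618841083fffffdef7bbce6f7bdeb5ad6718bded39c9ef72d6a39cc318bffffbdeef37bdeb5ace2f69c9ee5a8e618bbce5ed6ad6b5a5294a4e528c20f739ad6b58c6318b5292841484ef2f6ad6b4a52728c1ee6b5ac6316a4a0a4def59ce273946305ad494a0e63148418c63108420842100000deb389ca305a928398a418c621082108000ce311841ee7358c5a9494a52842108398c5210621042108000003388c1ee6b16a4a528420e62906208420003bde6738ad6918c1ee735ad6b18c62d4a4a5294210829481083bcce2b48c1ee6b5ac6316a4a528420a4083fef779cdef7bd6b5ad67189ca4b528e63148418c631084210400ffbbcdef7ad6b389c96a398a418c6210820) i2) (pk61d (nat_lit 5) 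
    (nat_lit 0x3bcee719bdaf4ad2729c23073dca5a8e6390a418860083fefeb7ace336bdab4ac23073dcd6350941cc710c41007bc737af7318d6670a4e56a42128ad2b1845ac6a509290a1007af6f1cc6b32b4e1484a2b48c1ac4a0a40835bd7bfee6f52ef37396b7ac6706399441896a290621880100862debfeeee7cd4b7ace0e65946a2086208062ffbfde76f6bd6957b9ed636d7b52b4bc8e6b4e47ac0a4a4605ffbbcbdab47b9acbdab4bccf691ab12d204f7fd6bdad7b52b494e57b41d78c1eef7fdcef35bd7fd837f3839bfebdaf6ad272bc5f683bfeef37afe4fec1bfefef5bbdaf394fdff7f8f77bbc7eb7ade16ad670b398e310ffedeaf69cbfeff5fee3b7ade57ac28e618ad7b52b4e5692ef2b394230a568c6b1cf731ac6b1446ad4522128bdab4ed67ca4a30ad1ac7b9ac6acac51128) i2))) (g1 i1) (g1 (Nat.succ i1)) List.nil) fun j => (pk61d (nat_lit 9) 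
    (nat_lit 0x79b859ebb56a6114763414c8a311183800) j))) (nat_lit 0) (nat_lit 14) List.nil) : List (List (ℕ × ℕ)))
    = ?xq9029 → (List (List (ℕ × ℕ)))) ?hq9029; (case hq9029 => (set_option maxRecDepth 1000000 in set_option simprocs false in conv => lhs; reduce; dsimp only)); intro _; exact ?xq9029 : List (List (ℕ × ℕ)))

/-- a tree of words -/
noncomputable def p6 : List (ℕ × ℕ) :=
  (by
  refine (?fq9030 : ((pk61l (fun i1 => (_root_.Prod.mk (pk61d (nat_lit 3) 
    (nat_lit 0x1a48db6da492449248000000) i1) (pk61d (nat_lit 4) 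
    (nat_lit 0x73dcb7dca65176405736425173c6420) i1))) (nat_lit 0) (nat_lit 31) List.nil) : List (ℕ × ℕ))
    = ?xq9030 → (List (ℕ × ℕ))) ?hq9030; (case hq9030 => (set_option maxRecDepth 1000000 in set_option simprocs false in conv => lhs; reduce; dsimp only)); intro _; exact ?xq9030 : List (ℕ × ℕ))

/-- a tree of words -/
noncomputable def q6 : List (ℕ × ℕ) :=
  (by
  refine (?fq9031 : ((pk61l (fun i1 => (_root_.Prod.mk (pk61d (nat_lit 5) 
    (nat_lit 0x462f7b18a5252841ce6318c5290821042000000) i1) (pk61d (nat_lit 4) 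
    (nat_lit 0xbaba98bababa989c82ba9898ba9bca8) i1))) (nat_lit 0) (nat_lit 31) List.nil) : List (ℕ × ℕ))
    = ?xq9031 → (List (ℕ × ℕ))) ?hq9031; (case hq9031 => (set_option maxRecDepth 1000000 in conv => lhs; reduce)); intro _; exact ?xq9031 : List (ℕ × ℕ))

end Cfsg.Agent.E82.M44
end

private theorem dce_df4536316a3a : _root_.True := by
  try have : _root_.True := by simp only [_root_.Cfsg.Agent.E82.M44.TT.eq_1]
  try have : _root_.True := by simp only [_root_.Cfsg.Agent.E82.F5.x5.eq_1]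
  try have : _root_.True := by simp only [_root_.Cfsg.Agent.E82.M44.tbOk.eq_1]
  try have : _root_.True := by simp only [_root_.Cfsg.Agent.E82.M44.vecOk.eq_1]
  try have : _root_.True := by simp only [_root_.Cfsg.Agent.E82.M44.exOk4.eq_1]
  try have : _root_.True := by simp only [_root_.Cfsg.Agent.E82.M44.Blk.syn.eq_1]
  try have : _root_.True := by simp only [_root_.Cfsg.Agent.E82.F5.w5.eq_1]
  try have : _root_.True := by simp only [_root_.Cfsg.Agent.E82.Grp.Ok.eq_1]
  try have : _root_.True := by simp only [_root_.Cfsg.Agent.E82.M44.zN.eq_1]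
  try have : _root_.True := by simp only [_root_.Cfsg.Agent.E82.M44.st.eq_1]
  try have : _root_.True := by simp only [_root_.Cfsg.Agent.E82.M44.okW.eq_1]
  try have : _root_.True := by simp only [_root_.Cfsg.Agent.E82.Grp.G.eq_1]
  try have : _root_.True := by simp only [_root_.Cfsg.Agent.E82.Grp.chk.eq_1]
  try have : _root_.True := by simp only [_root_.Cfsg.Agent.E82.M44.synOk.eq_1]
  try have : _root_.True := by simp only [_root_.Cfsg.Agent.E82.M44.sg.eq_1]
  exact _root_.True.intro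
end

-- part: E82/Par
section
set_option linter.all false
open scoped Cfsg.Agent.FastGrp

/-!
# S3369: the socle stabilises no subspace of the nilradical of a Borel subalgebra (helper92)
-/

set_option autoImplicit false
set_option maxRecDepth 100000

namespace Cfsg.Agent.E82

open Cfsg Cfsg.Lie
open Cfsg.Agent.H939.L64 (KK E2 LK L2 em aK rE up)
open Cfsg.Agent.E8A (act InN)

variable {S : Type} [Group S] {f : S →* E2} {H : Subgroup E2}

theorem fixd_of_L2 {w : L2} (hw : w ≠ 0) (h : ∀ s, act (f s) w = w) : Fixd f :=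
  ⟨up w, up_ne_zero hw, fun s => by rw [← up_act, h]⟩

/-- **no stable subspace inside the nilradical of a Borel subalgebra** -/
theorem Sit.end_par (hS : Sit f H) (hs : Small S) (hfx : ¬ Fixd f) {W : Submodule KK LK} (h0 : W ≠ ⊥)
    (hst : ∀ s, ∀ w ∈ W, rE (f s) w ∈ W) (hn : ∃ g : ↥(chevE8.group KK), ∀ w ∈ W, InN (aK g w)) : False := by
  have := hs.fin
  obtain ⟨g₀, hg₀⟩ := hn
  obtain ⟨g, lam, h1, h2⟩ := Cfsg.Agent.E8A.Par.exists_par_of_inN (K := KK) h0 (g₀ := g₀) hg₀
  obtain ⟨R, h3, h4, h5⟩ := Cfsg.Agent.E8A.Par.par_gen (F := ZMod 2) 2 (y := fun s => f s)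
    (fun v hv => by
      by_contra h6
      exact hfx (fixd_of_L2 h6 hv)) h1 fun s => h2 _ (hst s)
  refine hS.no_local hs h3 h4 fun h hh => h5 h fun s => ?_
  obtain ⟨τ, hτ⟩ := hS.nor h hh
  exact ⟨τ s, (hτ s).symm⟩

end Cfsg.Agent.E82
end

-- part: E82/M44/Row
section
prune_inst 0x202024042062000000180584330020448e00000200230000d94008000187d70100010701f6501a1200c6ac44403c402811040010425000000e00800041180080040112069058ac00300000800884000000000000000000000000000000051000000000000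
set_option linter.all false
open scoped Cfsg.Agent.FastGrp

/-- decoders of the packed data (elaboration time only) -/
private noncomputable def pk61d_v3 (b S i : Nat) : Nat := Nat.mod (Nat.shiftRight S (Nat.mul b i)) (Nat.shiftLeft (nat_lit 1) b)
private noncomputable def pk61f_v3 {α : Type} (t : Nat) (f : Nat → α) : α := Nat.rec (f Nat.zero) (fun k _ => f (Nat.succ k)) t
private noncomputable def pk61l_v3 {α : Type} (f : Nat → α) (s e : Nat) (tl : List α) : List α :=
  pk61f_v3 e fun e => Nat.rec tl (fun k ih => List.cons (pk61f_v3 (Nat.sub e (Nat.succ k)) f) ih) (Nat.sub e s)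

namespace Cfsg.Agent.H90F

private noncomputable def frc {α : Type} (x : ℕ) (f : ℕ → α) : α := Nat.rec (f 0) (fun k _ => f (Nat.succ k)) x

private theorem frc_eq {α : Type} (x : ℕ) (f : ℕ → α) : frc x f = f x := by cases x <;> rfl

private noncomputable def nth {α : Type} (d : α) (l : List α) : ℕ → α :=
  List.rec (fun _ => d) (fun a _ ih n => Nat.rec a (fun k _ => ih k) n) l

private theorem nth_eq {α : Type} (d : α) (l : List α) (n : ℕ) : nth d l n = l.getD n d := by
  induction l generalizing n with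
  | nil => rfl
  | cons a l ih => cases n with
    | zero => rfl
    | succ k => exact ih k

private noncomputable def fld {α : Type} (l : List α) (n : ℕ) (d : α) : α := frc n (nth d l)

private theorem ld_eq {α : Type} (l : List α) (n : ℕ) (d : α) : l.getD n d = fld l n d := by
  rw [fld, frc_eq, nth_eq]

private theorem ld_fun : @List.getD.{0} = @fld := by
  funext α a n d; exact ld_eq a n d

private noncomputable def dOf {P : Prop} (b : Bool) (h : b = true ↔ P) : Decidable P :=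
  Bool.rec (motive := fun c => b = c → Decidable P) (fun e => isFalse fun hp => Bool.noConfusion (e.symm.trans (h.2 hp)))
    (fun e => isTrue (h.1 e)) b rfl

private noncomputable def flt (n : ℕ) (p : ∀ k, k < n → Bool) (m : ℕ) : Bool :=
  Nat.rec true (fun k ih => Bool.rec false ih
    (Bool.rec (motive := fun b => Nat.ble (Nat.succ k) n = b → Bool) (fun _ => true)
      (fun h => p k (Nat.le_of_ble_eq_true h)) (Nat.ble (Nat.succ k) n) rfl)) m

private theorem flt_one (n : ℕ) (p : ∀ k, k < n → Bool) (k : ℕ) (b : Bool) (e : Nat.ble (Nat.succ k) n = b) :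
    (Bool.rec (motive := fun b => Nat.ble (Nat.succ k) n = b → Bool) (fun _ => true)
      (fun h => p k (Nat.le_of_ble_eq_true h)) b e : Bool) = true ↔ ∀ h, p k h = true := by
  cases b
  · exact ⟨fun _ h => absurd (Nat.ble_eq_true_of_le h) (by rw [e]; exact Bool.false_ne_true), fun _ => rfl⟩
  · exact ⟨fun h _ => h, fun h => h _⟩

private theorem flt_iff (n : ℕ) (p : ∀ k, k < n → Bool) (m : ℕ) :
    flt n p m = true ↔ ∀ k, k < m → ∀ h, p k h = true := by
  induction m with
  | zero => exact ⟨fun _ k h => absurd h (Nat.not_lt_zero k), fun _ => rfl⟩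
  | succ m ih =>
    have e : ∀ a b : Bool, (Bool.rec false a b : Bool) = true ↔ b = true ∧ a = true := by decide
    refine (e _ _).trans ((and_congr (flt_one n p m _ rfl) ih).trans ⟨fun h k hk => ?_, fun h => ⟨h m (Nat.lt_succ_self m), fun k hk => h k (Nat.lt_succ_of_lt hk)⟩⟩)
    rcases Nat.lt_succ_iff_lt_or_eq.1 hk with h1 | h1
    · exact h.2 k h1
    · exact h1 ▸ h.1

private noncomputable def fbl (n : ℕ) (P : ∀ k, k < n → Prop) [H : ∀ k h, Decidable (P k h)] : Decidable (∀ k h, P k h) :=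
  dOf (flt n (fun k h => @decide _ (H k h)) n)
    ((flt_iff _ _ _).trans ⟨fun h k hk => of_decide_eq_true (h k hk hk), fun h k _ hk => decide_eq_true (h k hk)⟩)

private theorem bl_fun : @Nat.decidableBallLT = @fbl := by
  funext n P H; exact Subsingleton.elim _ _

private noncomputable def flb {α : Type} (e : α → α → Bool) (l : List α) : List α → Bool :=
  List.rec (motive := fun _ => List α → Bool) (fun m => List.rec true (fun _ _ _ => false) m)
    (fun a _ ih m => List.rec false (fun b m _ => Bool.rec false (ih m) (e a b)) m) l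

private theorem lb_fun : @List.instBEq.{0} = fun α H => (⟨flb H.beq⟩ : BEq (List α)) := by
  funext α H
  refine congrArg BEq.mk (funext fun l => funext fun m => ?_)
  induction l generalizing m with
  | nil => cases m <;> rfl
  | cons a l ih =>
    cases m with
    | nil => rfl
    | cons b m =>
      show (a == b && List.beq l m) = (Bool.rec false (flb H.beq l m) (a == b) : Bool)
      rw [ih]; cases a == b <;> rfl

private noncomputable def fal {α : Type} (l : List α) (p : α → Bool) : Bool :=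
  List.rec true (fun a _ ih => Bool.rec false ih (p a)) l

private theorem al_fun : @List.all.{0} = @fal := by
  funext α l p
  induction l with
  | nil => rfl
  | cons a l ih => rw [List.all_cons, ih]; show _ = (Bool.rec false (fal l p) (p a) : Bool); cases p a <;> rfl

private noncomputable def fem {α : Type} [BEq α] (a : α) (l : List α) : Bool :=
  List.rec false (fun b _ ih => Bool.rec ih true (a == b)) l

private theorem em_fun : @List.elem.{0} = @fem := by
  funext α _ a l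
  induction l with
  | nil => rfl
  | cons b l ih => rw [List.elem_cons, ih]; show _ = (Bool.rec (fem a l) true (a == b) : Bool); cases a == b <;> rfl

private noncomputable def fmp {α β : Type} (f : α → β) (l : List α) : List β := List.rec [] (fun a _ ih => f a :: ih) l

private theorem mp_fun : @List.map.{0, 0} = @fmp := by
  funext α β f l
  induction l with
  | nil => rfl
  | cons a l ih => rw [List.map_cons, ih]; rfl

private noncomputable def fln {α : Type} (l : List α) : ℕ := List.rec 0 (fun _ _ ih => Nat.succ ih) l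

private theorem ln_fun : @List.length.{0} = @fln := by
  funext α l
  induction l with
  | nil => rfl
  | cons a l ih => rw [List.length_cons, ih]; rfl

private noncomputable def fap {α : Type} (l m : List α) : List α := List.rec m (fun a _ ih => a :: ih) l

private theorem fap_eq {α : Type} (l m : List α) : l ++ m = fap l m := by
  induction l with
  | nil => rfl
  | cons a l ih => rw [List.cons_append, ih]; rfl

private theorem ap_fun : @List.instAppend.{0} = fun α => (⟨fap⟩ : Append (List α)) := by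
  funext α; exact congrArg Append.mk (funext fun l => funext fun m => fap_eq l m)

private noncomputable def ffm {α β : Type} (f : α → List β) (l : List α) : List β := List.rec [] (fun a _ ih => fap (f a) ih) l

private theorem fm_fun : @List.flatMap.{0, 0} = @ffm := by
  funext α β f l
  induction l with
  | nil => rfl
  | cons a l ih => rw [List.flatMap_cons, ih, fap_eq]; rfl

end Cfsg.Agent.H90F

-- part: E82/M44/ChkA
section
/-!
# The pressure machine for `Sp₄(4)`: the checks in the group (helper79)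
-/

set_option autoImplicit false
set_option maxRecDepth 100000
set_option Elab.async false

namespace Cfsg.Agent.E82.M44

open Cfsg.Agent.E82.Mach

theorem syn_ok : synOk bs = true := by decide +kernel

private noncomputable def _root_.Cfsg.Agent.KO58904e0.k0 : type_of% @Bool.and := @(fun x0 x1 => @Bool.rec.{1} @(fun x2 => @Bool) @Bool.false @x1 @x0)
private theorem _root_.Cfsg.Agent.KO58904e0.e0 : @Bool.and = @_root_.Cfsg.Agent.KO58904e0.k0 := by delta _root_.Cfsg.Agent.KO58904e0.k0; rfl'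
private noncomputable def _root_.Cfsg.Agent.KO58904e0.k1 : (by first | exact type_of% @Cfsg.Agent.H90F.frc | exact Unit : Sort _) := by first | (refine @Subtype.val _ (fun g => @Cfsg.Agent.H90F.frc = @g) (@Subtype.mk _ _ (@(fun x0 x1 x2 => @Nat.rec.{1} @(fun x3 => @x0) (@x2 (nat_lit 0)) @(fun x3 x4 => @x2 (@Nat.succ @x3)) @x1)) ?_); rfl') | exact @Cfsg.Agent.H90F.frc | exact ()
private theorem _root_.Cfsg.Agent.KO58904e0.e1 : (by first | exact @Cfsg.Agent.H90F.frc = @_root_.Cfsg.Agent.KO58904e0.k1 | exact True : Prop) := by first | (delta _root_.Cfsg.Agent.KO58904e0.k1; exact @Subtype.property _ (fun g => @Cfsg.Agent.H90F.frc = @g) _) | rfl | trivial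
private noncomputable def _root_.Cfsg.Agent.KO58904e0.k2 : (by first | exact type_of% @Cfsg.Agent.H90F.fld | exact Unit : Sort _) := by first | (refine @Subtype.val _ (fun g => @Cfsg.Agent.H90F.fld = @g) (@Subtype.mk _ _ (@(fun x0 x1 x2 x3 => @Cfsg.Agent.KO58904e0.k1 _ @x2 (@Cfsg.Agent.H90F.nth _ @x3 @x1))) ?_); rewrite [← Cfsg.Agent.KO58904e0.e1]; (try delta Cfsg.Agent.H90F.fld); (try generalize @Cfsg.Agent.H90F.frc = g0); (try generalize @Cfsg.Agent.H90F.nth = g1); rfl') | exact @Cfsg.Agent.H90F.fld | exact ()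
private theorem _root_.Cfsg.Agent.KO58904e0.e2 : (by first | exact @Cfsg.Agent.H90F.fld = @_root_.Cfsg.Agent.KO58904e0.k2 | exact True : Prop) := by first | (delta _root_.Cfsg.Agent.KO58904e0.k2; exact @Subtype.property _ (fun g => @Cfsg.Agent.H90F.fld = @g) _) | rfl | trivial
private noncomputable def _root_.Cfsg.Agent.KO58904e0.k3 : (by first | exact type_of% @Cfsg.Agent.E82.Grp.frc | exact Unit : Sort _) := by first | (refine @Subtype.val _ (fun g => @Cfsg.Agent.E82.Grp.frc = @g) (@Subtype.mk _ _ (@(fun x0 x1 x2 => @Nat.rec.{1} @(fun x3 => @x0) (@x2 (nat_lit 0)) @(fun x3 x4 => @x2 (@Nat.succ @x3)) @x1)) ?_); rfl') | exact @Cfsg.Agent.E82.Grp.frc | exact ()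
private theorem _root_.Cfsg.Agent.KO58904e0.e3 : (by first | exact @Cfsg.Agent.E82.Grp.frc = @_root_.Cfsg.Agent.KO58904e0.k3 | exact True : Prop) := by first | (delta _root_.Cfsg.Agent.KO58904e0.k3; exact @Subtype.property _ (fun g => @Cfsg.Agent.E82.Grp.frc = @g) _) | rfl | trivial
private noncomputable def _root_.Cfsg.Agent.KO58904e0.k4 : (by first | exact type_of% @Cfsg.Agent.E82.Grp.cl | exact Unit : Sort _) := by first | (refine @Subtype.val _ (fun g => @Cfsg.Agent.E82.Grp.cl = @g) (@Subtype.mk _ _ (@(fun x0 x1 => @Nat.land (@Nat.shiftRight @x0 (@Nat.mul (nat_lit 8) @x1)) (nat_lit 255))) ?_); rfl') | exact @Cfsg.Agent.E82.Grp.cl | exact ()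
private theorem _root_.Cfsg.Agent.KO58904e0.e4 : (by first | exact @Cfsg.Agent.E82.Grp.cl = @_root_.Cfsg.Agent.KO58904e0.k4 | exact True : Prop) := by first | (delta _root_.Cfsg.Agent.KO58904e0.k4; exact @Subtype.property _ (fun g => @Cfsg.Agent.E82.Grp.cl = @g) _) | rfl | trivial
private theorem _root_.Cfsg.Agent.KO58904e0.e5.{ku} {M : Nat → Sort ku} (φ : ∀ n, M n) {z : M Nat.zero} {s : ∀ n, M n → M (Nat.succ n)} (h0 : φ Nat.zero = z) (hs : ∀ n, φ (Nat.succ n) = s n (φ n)) (n : Nat) : φ n = @Nat.rec M z s n := Nat.rec h0 (fun n ih => (hs n).trans (congrArg (s n) ih)) n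
private noncomputable def _root_.Cfsg.Agent.KO58904e0.k6 : type_of% @List.range.loop := @(fun x0 x1 => @Nat.rec.{1} @(fun x2 => (@List.{0} ℕ) → @List.{0} ℕ) @(fun x2 => @x2) @(fun x2 x3 x4 => @x3 (@x2 :: @x4)) @x0 @x1)
private theorem _root_.Cfsg.Agent.KO58904e0.e6 : @List.range.loop = @_root_.Cfsg.Agent.KO58904e0.k6 := by delta _root_.Cfsg.Agent.KO58904e0.k6; funext a0 a1; refine (congrFun (_root_.Cfsg.Agent.KO58904e0.e5 (fun a0 a1 => @List.range.loop a0 a1) ?_ (fun c0 => ?_) a0) a1 :) <;> (rfl')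
private noncomputable def _root_.Cfsg.Agent.KO58904e0.k7 : type_of% @List.range := @(fun x0 => @Cfsg.Agent.KO58904e0.k6 @x0 [])
private theorem _root_.Cfsg.Agent.KO58904e0.e7 : @List.range = @_root_.Cfsg.Agent.KO58904e0.k7 := by delta _root_.Cfsg.Agent.KO58904e0.k7; rewrite [← Cfsg.Agent.KO58904e0.e6]; rfl'
private noncomputable def _root_.Cfsg.Agent.KO58904e0.k8 : (by first | exact type_of% @Cfsg.Agent.H90F.fln | exact Unit : Sort _) := by first | (refine @Subtype.val _ (fun g => @Cfsg.Agent.H90F.fln = @g) (@Subtype.mk _ _ (@(fun x0 x1 => @List.rec.{1, 0} @x0 @(fun x2 => ℕ) (nat_lit 0) @(fun x2 x3 x4 => @Nat.succ @x4) @x1)) ?_); rfl') | exact @Cfsg.Agent.H90F.fln | exact ()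
private theorem _root_.Cfsg.Agent.KO58904e0.e8 : (by first | exact @Cfsg.Agent.H90F.fln = @_root_.Cfsg.Agent.KO58904e0.k8 | exact True : Prop) := by first | (delta _root_.Cfsg.Agent.KO58904e0.k8; exact @Subtype.property _ (fun g => @Cfsg.Agent.H90F.fln = @g) _) | rfl | trivial
private theorem _root_.Cfsg.Agent.KO58904e0.e9.{ku, kv} {α : Type kv} {M : List α → Sort ku} (φ : ∀ l, M l) {z : M List.nil} {s : ∀ a l, M l → M (List.cons a l)} (h0 : φ List.nil = z) (hs : ∀ a l, φ (List.cons a l) = s a l (φ l)) (l : List α) : φ l = @List.rec α M z s l := List.rec h0 (fun a l ih => (hs a l).trans (congrArg (s a l) ih)) l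
private noncomputable def _root_.Cfsg.Agent.KO58904e0.k10.{ku0} : type_of% @List.reverseAux.{ku0} := @(fun x0 x1 x2 => @List.rec.{(ku0+1), ku0} @x0 @(fun x3 => (@List.{ku0} @x0) → @List.{ku0} @x0) @(fun x3 => @x3) @(fun x3 x4 x5 x6 => @x5 (@x3 :: @x6)) @x1 @x2)
private theorem _root_.Cfsg.Agent.KO58904e0.e10.{ku0} : @List.reverseAux.{ku0} = @_root_.Cfsg.Agent.KO58904e0.k10.{ku0} := by delta _root_.Cfsg.Agent.KO58904e0.k10; funext a0 a1 a2; refine (congrFun (_root_.Cfsg.Agent.KO58904e0.e9 (fun a1 a2 => @List.reverseAux.{ku0} a0 a1 a2) ?_ (fun c0 c1 => ?_) a1) a2 :) <;> (rfl')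
private noncomputable def _root_.Cfsg.Agent.KO58904e0.k11.{ku0} : type_of% @List.reverse.{ku0} := @(fun x0 x1 => @Cfsg.Agent.KO58904e0.k10.{ku0} _ @x1 [])
private theorem _root_.Cfsg.Agent.KO58904e0.e11.{ku0} : @List.reverse.{ku0} = @_root_.Cfsg.Agent.KO58904e0.k11.{ku0} := by delta _root_.Cfsg.Agent.KO58904e0.k11; rewrite [← Cfsg.Agent.KO58904e0.e10.{ku0}]; rfl'
private noncomputable def _root_.Cfsg.Agent.KO58904e0.k12 : type_of% @Nat.decEq := @(fun x0 x1 => @Bool.rec.{1} @(fun x2 => (@Eq.{1} _ (@Nat.beq @x0 @x1) @x2) → @Decidable (@Eq.{1} _ @x0 @x1)) @(fun x2 => @Decidable.isFalse _ (@Nat.ne_of_beq_eq_false _ _ @x2)) @(fun x2 => @Decidable.isTrue _ (@Nat.eq_of_beq_eq_true _ _ @x2)) (@Nat.beq @x0 @x1) (@Eq.refl.{1} _ (@Nat.beq @x0 @x1)))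
private theorem _root_.Cfsg.Agent.KO58904e0.e12 : @Nat.decEq = @_root_.Cfsg.Agent.KO58904e0.k12 := by delta _root_.Cfsg.Agent.KO58904e0.k12; rfl'
private noncomputable def _root_.Cfsg.Agent.KO58904e0.k13 : type_of% @instDecidableEqNat := @Cfsg.Agent.KO58904e0.k12
private theorem _root_.Cfsg.Agent.KO58904e0.e13 : @instDecidableEqNat = @_root_.Cfsg.Agent.KO58904e0.k13 := by delta _root_.Cfsg.Agent.KO58904e0.k13; rewrite [← Cfsg.Agent.KO58904e0.e12]; rfl'
private noncomputable def _root_.Cfsg.Agent.KO58904e0.k14 : (by first | exact type_of% @Cfsg.Agent.E82.Mach.force | exact Unit : Sort _) := by first | (refine @Subtype.val _ (fun g => @Cfsg.Agent.E82.Mach.force = @g) (@Subtype.mk _ _ (@(fun x0 x1 x2 => @Nat.rec.{1} @(fun x3 => @x0) (@x2 (nat_lit 0)) @(fun x3 x4 => @x2 (@Nat.succ @x3)) @x1)) ?_); rfl') | exact @Cfsg.Agent.E82.Mach.force | exact ()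
private theorem _root_.Cfsg.Agent.KO58904e0.e14 : (by first | exact @Cfsg.Agent.E82.Mach.force = @_root_.Cfsg.Agent.KO58904e0.k14 | exact True : Prop) := by first | (delta _root_.Cfsg.Agent.KO58904e0.k14; exact @Subtype.property _ (fun g => @Cfsg.Agent.E82.Mach.force = @g) _) | rfl | trivial
private noncomputable def _root_.Cfsg.Agent.KO58904e0.k15 : (by first | exact type_of% @Cfsg.Agent.E82.Mach.forceL | exact Unit : Sort _) := by first | (refine @Subtype.val _ (fun g => @Cfsg.Agent.E82.Mach.forceL = @g) (@Subtype.mk _ _ (@(fun x0 x1 => @List.rec.{1, 0} ℕ @(fun x2 => ((@List.{0} ℕ) → @x0) → @x0) @(fun x2 => @x2 []) @(fun x2 x3 x4 x5 => @Cfsg.Agent.KO58904e0.k14 _ @x2 @(fun x6 => @x4 @(fun x7 => @x5 (@x6 :: @x7)))) @x1)) ?_); rewrite [← Cfsg.Agent.KO58904e0.e14]; (try delta Cfsg.Agent.E82.Mach.forceL); (try generalize @Cfsg.Agent.E82.Mach.force = g0); rfl') | exact @Cfsg.Agent.E82.Mach.forceL | exact ()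
private theorem _root_.Cfsg.Agent.KO58904e0.e15 : (by first | exact @Cfsg.Agent.E82.Mach.forceL = @_root_.Cfsg.Agent.KO58904e0.k15 | exact True : Prop) := by first | (delta _root_.Cfsg.Agent.KO58904e0.k15; exact @Subtype.property _ (fun g => @Cfsg.Agent.E82.Mach.forceL = @g) _) | rfl | trivial
private noncomputable def _root_.Cfsg.Agent.KO58904e0.k16 : (by first | exact type_of% @Cfsg.Agent.E82.M44.forceLL | exact Unit : Sort _) := by first | (refine @Subtype.val _ (fun g => @Cfsg.Agent.E82.M44.forceLL = @g) (@Subtype.mk _ _ (@(fun x0 x1 => @List.rec.{1, 0} (@List.{0} ℕ) @(fun x2 => ((@List.{0} (@List.{0} ℕ)) → @x0) → @x0) @(fun x2 => @x2 []) @(fun x2 x3 x4 x5 => @Cfsg.Agent.KO58904e0.k15 _ @x2 @(fun x6 => @x4 @(fun x7 => @x5 (@x6 :: @x7)))) @x1)) ?_); rewrite [← Cfsg.Agent.KO58904e0.e15]; (try delta Cfsg.Agent.E82.M44.forceLL); (try generalize @Cfsg.Agent.E82.Mach.forceL = g0); rfl') | exact @Cfsg.Agent.E82.M44.forceLL | exact ()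
private theorem _root_.Cfsg.Agent.KO58904e0.e16 : (by first | exact @Cfsg.Agent.E82.M44.forceLL = @_root_.Cfsg.Agent.KO58904e0.k16 | exact True : Prop) := by first | (delta _root_.Cfsg.Agent.KO58904e0.k16; exact @Subtype.property _ (fun g => @Cfsg.Agent.E82.M44.forceLL = @g) _) | rfl | trivial
private noncomputable def _root_.Cfsg.Agent.KO58904e0.k17 : (by first | exact type_of% @Cfsg.Agent.E82.Mach.tb | exact Unit : Sort _) := by first | (refine @Subtype.val _ (fun g => @Cfsg.Agent.E82.Mach.tb = @g) (@Subtype.mk _ _ (@(fun x0 x1 => @Nat.beq (@Nat.land (@Nat.shiftRight @x0 @x1) (nat_lit 1)) (nat_lit 1))) ?_); rfl') | exact @Cfsg.Agent.E82.Mach.tb | exact ()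
private theorem _root_.Cfsg.Agent.KO58904e0.e17 : (by first | exact @Cfsg.Agent.E82.Mach.tb = @_root_.Cfsg.Agent.KO58904e0.k17 | exact True : Prop) := by first | (delta _root_.Cfsg.Agent.KO58904e0.k17; exact @Subtype.property _ (fun g => @Cfsg.Agent.E82.Mach.tb = @g) _) | rfl | trivial
private noncomputable def _root_.Cfsg.Agent.KO58904e0.k18 : (by first | exact type_of% @Cfsg.Agent.E82.M44.sel | exact Unit : Sort _) := by first | (refine @Subtype.val _ (fun g => @Cfsg.Agent.E82.M44.sel = @g) (@Subtype.mk _ _ (@(fun x0 x1 => @List.rec.{1, 0} @x0 @(fun x2 => ℕ → @List.{0} @x0) @(fun x2 => []) @(fun x2 x3 x4 x5 => @Bool.rec.{1} @(fun x6 => @List.{0} @x0) (@x4 (@Nat.shiftRight @x5 (nat_lit 1))) (@x2 :: (@x4 (@Nat.shiftRight @x5 (nat_lit 1)))) (@Cfsg.Agent.KO58904e0.k17 @x5 (nat_lit 0))) @x1)) ?_); rewrite [← Cfsg.Agent.KO58904e0.e17]; (try delta Cfsg.Agent.E82.M44.sel); (try generalize @Cfsg.Agent.E82.Mach.tb = g0); rfl') | exact @Cfsg.Agent.E82.M44.sel |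 exact ()
private theorem _root_.Cfsg.Agent.KO58904e0.e18 : (by first | exact @Cfsg.Agent.E82.M44.sel = @_root_.Cfsg.Agent.KO58904e0.k18 | exact True : Prop) := by first | (delta _root_.Cfsg.Agent.KO58904e0.k18; exact @Subtype.property _ (fun g => @Cfsg.Agent.E82.M44.sel = @g) _) | rfl | trivial
private noncomputable def _root_.Cfsg.Agent.KO58904e0.k19.{ku0} : type_of% @cond.{ku0} := @(fun x0 x1 x2 x3 => @Bool.rec.{ku0} @(fun x4 => @x0) @x3 @x2 @x1)
private theorem _root_.Cfsg.Agent.KO58904e0.e19.{ku0} : @cond.{ku0} = @_root_.Cfsg.Agent.KO58904e0.k19.{ku0} := by delta _root_.Cfsg.Agent.KO58904e0.k19; rfl'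
private noncomputable def _root_.Cfsg.Agent.KO58904e0.k21.{ku0} : type_of% @List.isPrefixOf.{ku0} := @(fun x0 x1 x2 x3 => @List.rec.{(ku0+1), ku0} @x0 @(fun x4 => (@List.{ku0} @x0) → @Bool) @(fun x4 => @Bool.true) @(fun x4 x5 x6 x7 => @List.rec.{1, ku0} @x0 @(fun x8 => @Bool) @Bool.false @(fun x8 x9 x10 => @Bool.rec.{1} @(fun x11 => @Bool) @Bool.false (@x6 @x9) (@BEq.beq.{ku0} _ @x1 @x4 @x8)) @x7) @x2 @x3)
private theorem _root_.Cfsg.Agent.KO58904e0.e21.{ku0} : @List.isPrefixOf.{ku0} = @_root_.Cfsg.Agent.KO58904e0.k21.{ku0} := by delta _root_.Cfsg.Agent.KO58904e0.k21; funext a0 a1 a2 a3; refine (congrFun (_root_.Cfsg.Agent.KO58904e0.e9 (fun a2 a3 => @List.isPrefixOf.{ku0} a0 a1 a2 a3) ?_ (fun c0 c1 => ?_) a2) a3 :) <;> [(funext b0; (rfl')); (funext b0; (cases b0 with | @nil  => (rfl') | @cons b0_0 b0_1 => (rfl')))]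
private noncomputable def _root_.Cfsg.Agent.KO58904e0.k23.{ku0} : type_of% @List.drop.{ku0} := @(fun x0 x1 x2 => @Nat.rec.{(ku0+1)} @(fun x3 => (@List.{ku0} @x0) → @List.{ku0} @x0) @(fun x3 => @x3) @(fun x3 x4 x5 => @List.rec.{(ku0+1), ku0} @x0 @(fun x6 => @List.{ku0} @x0) [] @(fun x6 x7 x8 => @x4 @x7) @x5) @x1 @x2)
private theorem _root_.Cfsg.Agent.KO58904e0.e23.{ku0} : @List.drop.{ku0} = @_root_.Cfsg.Agent.KO58904e0.k23.{ku0} := by delta _root_.Cfsg.Agent.KO58904e0.k23; funext a0 a1 a2; refine (congrFun (_root_.Cfsg.Agent.KO58904e0.e5 (fun a1 a2 => @List.drop.{ku0} a0 a1 a2) ?_ (fun c0 => ?_) a1) a2 :) <;> [(funext b0; (rfl')); (funext b0; (cases b0 with | @nil  => (rfl') | @cons b0_0 b0_1 => (rfl')))]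
private noncomputable def _root_.Cfsg.Agent.KO58904e0.k25.{ku0} : type_of% @List.take.{ku0} := @(fun x0 x1 x2 => @Nat.rec.{(ku0+1)} @(fun x3 => (@List.{ku0} @x0) → @List.{ku0} @x0) @(fun x3 => []) @(fun x3 x4 x5 => @List.rec.{(ku0+1), ku0} @x0 @(fun x6 => @List.{ku0} @x0) [] @(fun x6 x7 x8 => @x6 :: (@x4 @x7)) @x5) @x1 @x2)
private theorem _root_.Cfsg.Agent.KO58904e0.e25.{ku0} : @List.take.{ku0} = @_root_.Cfsg.Agent.KO58904e0.k25.{ku0} := by delta _root_.Cfsg.Agent.KO58904e0.k25; funext a0 a1 a2; refine (congrFun (_root_.Cfsg.Agent.KO58904e0.e5 (fun a1 a2 => @List.take.{ku0} a0 a1 a2) ?_ (fun c0 => ?_) a1) a2 :) <;> [(funext b0; (rfl')); (funext b0; (cases b0 with | @nil  => (rfl') | @cons b0_0 b0_1 => (rfl')))]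
private noncomputable def _root_.Cfsg.Agent.KO58904e0.k26 : type_of% @Bool.or := @(fun x0 x1 => @Bool.rec.{1} @(fun x2 => @Bool) @x1 @Bool.true @x0)
private theorem _root_.Cfsg.Agent.KO58904e0.e26 : @Bool.or = @_root_.Cfsg.Agent.KO58904e0.k26 := by delta _root_.Cfsg.Agent.KO58904e0.k26; rfl'

theorem ex_ok : exOk4 okW bs ex = true := by (delta Cfsg.Agent.E82.M44.zN Cfsg.Agent.E82.Mach.chainOk Cfsg.Agent.E82.M44.st Cfsg.Agent.E82.M44.eqOk Cfsg.Agent.E82.M44.zAux Cfsg.Agent.E82.M44.evL Cfsg.Agent.E82.Mach.mv Cfsg.Agent.E82.M44.Blk.rels List.contains Cfsg.Agent.E82.M44.Ex4.ys Cfsg.Agent.E82.M44.EQ Cfsg.Agent.E82.M44.exp Cfsg.Agent.E82.Mach.flat Cfsg.Agent.E82.M44.cmb Cfsg.Agent.E82.M44.exOk4 Cfsg.Agent.E82.Mach.mvs Cfsg.Agent.E82.Mach.tabOk Cfsg.Agent.E82.M44.okW Cfsg.Agent.E82.Mach.inR; rewrite [H90F.ld_fun, H90F.lb_fun, H90F.al_fun, H90F.em_fun, H90F.mp_fun, H90F.ln_fun, H90F.ap_fun, H90F.fm_fun]; (first | (rewrite [Cfsg.Agent.KO58904e0.e0, Cfsg.Agent.KO58904e0.e2,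 Cfsg.Agent.KO58904e0.e3, Cfsg.Agent.KO58904e0.e4, Cfsg.Agent.KO58904e0.e7, Cfsg.Agent.KO58904e0.e8, Cfsg.Agent.KO58904e0.e11.{0}, Cfsg.Agent.KO58904e0.e13, Cfsg.Agent.KO58904e0.e16, Cfsg.Agent.KO58904e0.e14, Cfsg.Agent.KO58904e0.e18, Cfsg.Agent.KO58904e0.e15, Cfsg.Agent.KO58904e0.e19.{1}, Cfsg.Agent.KO58904e0.e21.{0}, Cfsg.Agent.KO58904e0.e23.{0}, Cfsg.Agent.KO58904e0.e25.{0}, Cfsg.Agent.KO58904e0.e26, Cfsg.Agent.KO58904e0.e17]; decide +kernel) | decide +kernel))

theorem gen_ok : genOk okW 14 C ws = true := by decide +kernel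

theorem chk_ok : C.chk okW = true := by decide +kernel

/-- the certificates of the types -/
def css : List (List (ℕ × ℕ)) := [cs0, cs1, cs2, cs3, cs4, cs5, cs6, cs7, cs8, cs9]

theorem ty_ok : ∀ J < 10, tyOk okW bs ex (ex.pat.getD J 0) (hs.getD J []) (Ms.getD J 0) (css.getD J []) = true := by
  (delta Cfsg.Agent.E82.M44.EQ Cfsg.Agent.E82.M44.tyOk Cfsg.Agent.E82.M44.zN Cfsg.Agent.E82.M44.Blk.S Cfsg.Agent.E82.Mach.flat Cfsg.Agent.E82.M44.st Cfsg.Agent.E82.M44.cmb Cfsg.Agent.E82.M44.eqOk Cfsg.Agent.E82.M44.zAux Cfsg.Agent.E82.M44.evL Cfsg.Agent.E82.M44.okW Cfsg.Agent.E82.M44.Blk.veq Cfsg.Agent.E82.Mach.inR Cfsg.Agent.E82.M44.Ex4.ys; refine of_decide_eq_true ?_; rewrite [H90F.ld_fun, H90F.bl_fun, H90F.al_fun, H90F.mp_fun, H90F.ln_fun, H90F.ap_fun, H90F.fm_fun]; decide +kernel)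

end Cfsg.Agent.E82.M44
end

-- part: E82/M44/ChkB
section
/-!
# The pressure machine for `Sp₄(4)`: the checks of the small tables (helper79)
-/

set_option autoImplicit false
set_option maxRecDepth 100000
set_option Elab.async false

namespace Cfsg.Agent.E82.M44

open Cfsg.Agent.E82.Mach

theorem tb0 : tbOk bs (hs.getD 0 []) (Ms.getD 0 0) 1 G0 = true := by decide +kernel

theorem rel0_0 : relOk bs 1 G0 0 64 = true := by decide +kernel

theorem rel0 : Rel bs 1 G0 0 :=
  Rel.step rel0_0 (Rel.last (by decide))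

theorem sp0 : spinOk 1 G0 p0 = true := by decide +kernel

theorem sq0 : spinOk 1 (trG G0) q0 = true := by decide +kernel

theorem fx0 : fixOk C 1 G0 (rows.getD 0 []) = true := by decide +kernel

theorem zz0 : Nat.ble 1 (zRk 1 G0 C.g C.h C.R + 0) = true := by decide +kernel

theorem tb1 : tbOk bs (hs.getD 1 []) (Ms.getD 1 0) 8 G1 = true := by decide +kernel

theorem rel1_0 : relOk bs 8 G1 0 64 = true := by decide +kernel

theorem rel1 : Rel bs 8 G1 0 :=
  Rel.step rel1_0 (Rel.last (by decide))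

theorem sp1 : spinOk 8 G1 p1 = true := by decide +kernel

theorem sq1 : spinOk 8 (trG G1) q1 = true := by decide +kernel

theorem fx1 : fixOk C 8 G1 (rows.getD 1 []) = true := by decide +kernel

theorem zz1 : Nat.ble 8 (zRk 8 G1 C.g C.h C.R + 2) = true := by decide +kernel

theorem tb2 : tbOk bs (hs.getD 2 []) (Ms.getD 2 0) 8 G2 = true := by decide +kernel

theorem rel2_0 : relOk bs 8 G2 0 64 = true := by decide +kernel

theorem rel2 : Rel bs 8 G2 0 :=
  Rel.step rel2_0 (Rel.last (by decide))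

theorem sp2 : spinOk 8 G2 p2 = true := by decide +kernel

theorem sq2 : spinOk 8 (trG G2) q2 = true := by decide +kernel

theorem fx2 : fixOk C 8 G2 (rows.getD 2 []) = true := by decide +kernel

theorem zz2 : Nat.ble 8 (zRk 8 G2 C.g C.h C.R + 2) = true := by decide +kernel

theorem tb3 : tbOk bs (hs.getD 3 []) (Ms.getD 3 0) 16 G3 = true := by decide +kernel

theorem rel3_0 : relOk bs 16 G3 0 64 = true := by decide +kernel

theorem rel3 : Rel bs 16 G3 0 :=
  Rel.step rel3_0 (Rel.last (by decide))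

theorem sp3 : spinOk 16 G3 p3 = true := by decide +kernel

theorem sq3 : spinOk 16 (trG G3) q3 = true := by decide +kernel

theorem fx3 : fixOk C 16 G3 (rows.getD 3 []) = true := by decide +kernel

theorem zz3 : Nat.ble 16 (zRk 16 G3 C.g C.h C.R + 0) = true := by decide +kernel

theorem tb4 : tbOk bs (hs.getD 4 []) (Ms.getD 4 0) 16 G4 = true := by decide +kernel

theorem rel4_0 : relOk bs 16 G4 0 64 = true := by decide +kernel

theorem rel4 : Rel bs 16 G4 0 :=
  Rel.step rel4_0 (Rel.last (by decide))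

theorem sp4 : spinOk 16 G4 p4 = true := by decide +kernel

theorem sq4 : spinOk 16 (trG G4) q4 = true := by decide +kernel

theorem fx4 : fixOk C 16 G4 (rows.getD 4 []) = true := by decide +kernel

theorem zz4 : Nat.ble 16 (zRk 16 G4 C.g C.h C.R + 0) = true := by decide +kernel

theorem tb5 : tbOk bs (hs.getD 5 []) (Ms.getD 5 0) 32 G5 = true := by decide +kernel

theorem rel5_0 : relOk bs 32 G5 0 64 = true := by decide +kernel

theorem rel5 : Rel bs 32 G5 0 :=
  Rel.step rel5_0 (Rel.last (by decide))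

theorem sp5 : spinOk 32 G5 p5 = true := by decide +kernel

theorem sq5 : spinOk 32 (trG G5) q5 = true := by decide +kernel

theorem fx5 : fixOk C 32 G5 (rows.getD 5 []) = true := by decide +kernel

theorem zz5 : Nat.ble 32 (zRk 32 G5 C.g C.h C.R + 0) = true := by decide +kernel

theorem tb6 : tbOk bs (hs.getD 6 []) (Ms.getD 6 0) 32 G6 = true := by decide +kernel

theorem rel6_0 : relOk bs 32 G6 0 64 = true := by decide +kernel

theorem rel6 : Rel bs 32 G6 0 :=
  Rel.step rel6_0 (Rel.last (by decide))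

theorem sp6 : spinOk 32 G6 p6 = true := by decide +kernel

theorem sq6 : spinOk 32 (trG G6) q6 = true := by decide +kernel

theorem fx6 : fixOk C 32 G6 (rows.getD 6 []) = true := by decide +kernel

theorem zz6 : Nat.ble 32 (zRk 32 G6 C.g C.h C.R + 0) = true := by decide +kernel

end Cfsg.Agent.E82.M44
end

-- part: E82/M44/Big
section
/-!
# The pressure machine for `Sp₄(4)`: the simple modules of dimension 128 (helper79)
-/

set_option autoImplicit false
set_option maxRecDepth 100000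

namespace Cfsg.Agent.E82.M44

open Cfsg.Agent.E82.Mach

/-- a letter -/
noncomputable def G7_0 : List (ℕ × ℕ) :=
  (by
  refine (?fq9001 : ((pk61l_v3 (fun i1 => (_root_.Prod.mk (pk61d_v3 (nat_lit 7) 
    (nat_lit 0xfffff7efbf7e7cf7efdfbf7ebd7af5ebcf9f1e3bf6ebd39f3e7cb972e3c35eac78afdebb72ddbb76ad5ab362bd6ab529d3a74a952a3425ca8709dba6eddbb66cd9ab56ad1a3466cd9b366cd9b264c993264c98b162c18305ebd7ae5cb96ad5ab162c56ad5ab56ad5aa54a952a54a94a952a14284e992a4468d1a244890a03e78e9c366cd9a3468c982e58a94264c992244889016283870c182850810183060c18204081020204000) i1) (pk61d_v3 (nat_lit 7) 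
    (nat_lit 0xdf9f766db97664fbb75e5c7f366ac98b4e1d1833e6cb93ae5c7d3262c3836eccb927ce9b32ecd977264a93223c68b12ac5875224283026cc8b11ebcbf3d3de9c9aecd4b72624bb6e6cb6a951dcb532534488acc94362420af1cfd68c7aac53b5221cab4e2c35a74dd4a51212c386a8c133420189f3a6cc9b2d2cc94924c88f1a2c48b0cec484720c07ef9ebc7aecabc7451cb81a31f8f7c39e8d7831ebb1a2c2bc74305047225c08) i1))) (nat_lit 0) (nat_lit 192) List.nil) : List (ℕ × ℕ))
    = ?xq9001 → (List (ℕ × ℕ))) ?hq9001; (case hq9001 => (set_option maxRecDepth 1000000 in conv => lhs; reduce)); intro _; exact ?xq9001 : List (ℕ × ℕ))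

/-- a letter -/
noncomputable def G7_1 : List (ℕ × ℕ) :=
  (by
  refine (?fq9002 : ((pk61l_v3 (fun i1 => (_root_.Prod.mk (pk61d_v3 (nat_lit 7) 
    (nat_lit 0x3ffffdfbefdf9f3dfbf7efdfaf5ebd7af5ebd79f3e3c73e5cb7eedbb35ebd7ab56ad5ab4e8c78b15fbd76e5bb76ed5ab56ad59b15ebd6ad56ad4a94e9d3a74e952a54a952a54a8d1a1425ca950e14276e9d376eddbb66cd9b356ad5ab468d1a3366cd9b366cd9b364c993264c993264c993264c98b162c583060c17af5ebd72e5cb96ad5ab562c58b15ab56ad5ab56ad5aa54a952a54a952a54a952a54a54a952a1428509d3a64c952a4488d1a3468d122448912244890a14080f9e3a70d9b3668d1a3468c982e58a94264c9922448912224078e1a3058b162850a14284880e1c3860c182850a10204060c183060c1820408102040810204080810200000) i1) (pk61d_v3 (nat_lit 7) 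
    (nat_lit 0x3be7ed9bae5e993e74e7931fdf9d7a72cb93171c3c3074ebd33e6cb93664c7b7665c98b0e0c9972478d1625c890eedc8b12141813e3ce8d362cc895264b890ead49b32545890a4c1910264d99122c478f5e5faf3cfdead38f5dab34edca930e5cb7529cc96d0e1bbb72d55a94a6cc94d5a1d386acd19266c509062fc74e7ef464c7aec54a76e444872e5b890d6244670dddb96a2c484b56254888e9c35660a13362020313e3ce8d362cc89325c486926cc95162424a924c191027ce9b3264b393664a3a724c87ef9ebc78eca3d78e8a9472e1fbe7af1e3b18f5e3a1a31cb87e5c7be2c39e951af0a0c78eca13182c23d78e8a94243460a0a11c9112e0808) i1))) (nat_lit 0) (nat_lit 290) List.nil) : List (ℕ × ℕ))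
    = ?xq9002 → (List (ℕ × ℕ))) ?hq9002; (case hq9002 => (set_option maxRecDepth 1000000 in conv => lhs; reduce)); intro _; exact ?xq9002 : List (ℕ × ℕ))

/-- a letter -/
noncomputable def G7_2 : List (ℕ × ℕ) :=
  (by
  refine (?fq9003 : ((pk61l_v3 (fun i1 => (_root_.Prod.mk (pk61d_v3 (nat_lit 7) 
    (nat_lit 0xfbf3cf8ebd38f0dbb34e8cb930e0bf7aeddbb72e5cb76acd9b362c58ab528d09f3e74e9b366cd9b3264c99325cb952a4c993264c891224488f1a2c58b12244870a0c183020407efdf3e7af5ebd7af1e3c78f1dbb74e9cb972e5cb870e1c386ad18b05ab14a84a910a03a70c982e58a952a50a14264889122408101e3868d1a3060c162848912204080a10080) i1) (pk61d_v3 (nat_lit 7) 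
    (nat_lit 0xfffbdfaefdb9f2dfbb5eacf9b1e2fffbffdbffbe5ef7ebdf9b7ebc5aaf5a9d2efbfb6eefd77ed9fdba6ed93b9ebe5ab9f1d7a65f2e1ab44adfbb7ed8fbb646d7ab5e987ab442ff5ff56fff6bd57ffbe56a8fbdd3f54bdf9a745dfaf14a83a6ed99b25eb95aa4e991a23e78d9a6ed9bb52ed9a1666c99b126c98125eb97ad1eb960e56a95a916a940a0e18182) i1))) (nat_lit 0) (nat_lit 160) List.nil) : List (ℕ × ℕ))
    = ?xq9003 → (List (ℕ × ℕ))) ?hq9003; (case hq9003 => (set_option maxRecDepth 1000000 in conv => lhs; reduce)); intro _; exact ?xq9003 : List (ℕ × ℕ))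

/-- a letter -/
noncomputable def G7_3 : List (ℕ × ℕ) :=
  (by
  refine (?fq9004 : ((pk61l_v3 (fun i1 => (_root_.Prod.mk (pk61d_v3 (nat_lit 7) 
    (nat_lit 0x3efdf9e7cf8ebd7a71e3c36edd9a74e8cb97261c382fdebb76eddbb72e5cb76acd9b366cd8b162bd6ab56ad5ab52a54a74a8d1a3468d0a1427ce9b366cd9b3264c972a4c993264c891223c78d1a2c58b162c58b162448912243870a14183060c183060c081020407efdfbe7cf9ebd7af5ebd7af5ebd7af1e3c78f1e3c76eddba74e9cb972e5cb972e5cb972e1c3870e1c386ad5a3162c16ad58a54a84a952214280e9d3864c982e58a952a54a942850992224489122408101e3c70e1a3468d1a3468d183060c182c58a14244891224489122040810202850804080) i1) (pk61d_v3 (nat_lit 7) 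
    (nat_lit 0x3ffeffefd7befdbbf3e5cf7eedfaf56bcf9b3e3c58fffefffbedfbdffe5ff7ebdfaf36ed7bf16fffefffbed7adffe57f7ebdfaf34e97bf14fbf6efdbacf9ddfa4fe7cb9f2e32e573e12fbefedbbbf6ebbf76d8f1bbf4dfb23f3d7cb573e5c75ead30e173e1af443ff7ebfebd5bffefb7ef5daf5aabf7dffe5fb95ea3ff76e9fab54bdfaf36ed59a74a8bb75efc5bb14e83b6ed9bb364cd7ae5ead52b4e993a3448cf9e3e6cd1b5eb97ae5a5cb2f585d5aa56a949324ad4136ebdb2e6ed9aaf5cb478e6ed17ac1ecd5b254cd93156a948b14cd82b502c3860e0c103) i1))) (nat_lit 0) (nat_lit 250) List.nil) : List (ℕ × ℕ))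
    = ?xq9004 → (List (ℕ × ℕ))) ?hq9004; (case hq9004 => (set_option maxRecDepth 1000000 in conv => lhs; reduce)); intro _; exact ?xq9004 : List (ℕ × ℕ))

/-- a letter -/
noncomputable def G7_4 : List (ℕ × ℕ) :=
  (by
  refine (?fq9005 : ((pk61l_v3 (fun i1 => (_root_.Prod.mk (pk61d_v3 (nat_lit 7) 
    (nat_lit 0x3cf8e3c34e8c382fdebb72ddab366cd8b162bd6ab529d2a3468d0a1427ce9b325ca93264c891220c07efdf3e7af5e3c76edd3a72e5cb972e1c3870e1bb66ad19b262c58b060c14a84e9d3264a95224468d12242850a142810204080f9e3a70d9a3264c983060b972e5cb962c58b162a54a952a50a142850993264c992244891222448912244891224489020408102040810204078f1e3870e1a3468c183058b162850a12244891224488102040810203870c182850810183040808102040800000000) i1) (pk61d_v3 (nat_lit 7) 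
    (nat_lit 0x3ffeefdb7eecf9bbf6ebd39f2efc6ff6e17b7eedbb35eadfa6beed15b3e6cb931e2cf867e6c13a3c6cf1f346cb17244c70f142cf863c17f9b04680fbffefbf3dfaffe5bfef0d97aeefbfb6eebb7a6ce7af96aefc77e94fdb86ed09b7eedbb35eadfa4feed07bbefbf5d3f6dd7ab26ebb6ed54bd365ca8939ebb74d1f2d56a922efc77e9bf66bd14e84bf6e1bb45eb15a826405b7d73fbab1edb54eeca8735d337aa91adfa6bd13e647eed15a81e303bfaffcbbeadf8b3dabf4abff95ea43fef0b9406) i1))) (nat_lit 0) (nat_lit 222) List.nil) : List (ℕ × ℕ))
    = ?xq9005 → (List (ℕ × ℕ))) ?hq9005; (case hq9005 => (set_option maxRecDepth 1000000 in conv => lhs; reduce)); intro _; exact ?xq9005 : List (ℕ × ℕ))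

/-- a letter -/
noncomputable def G7_5 : List (ℕ × ℕ) :=
  (by
  refine (?fq9006 : ((pk61l_v3 (fun i1 => (_root_.Prod.mk (pk61d_v3 (nat_lit 7) 
    (nat_lit 0x1e7c78e3c3869d1a30e0c17efdebd76edcb96eddab566cd9b366c58b162c58b162bd6ab529d2a3468d0a1428509f3a6cc972a4c9932244891223c68b121c283060c081020407efdfbe7cf9ebd7af1e3c76eddba74e9cb972e5cb972e1c3870e1c3870e1c386ed9ab466c98b162c183060c17ae5ab15aa52a54a850a14284e992a446890a142810204080f9f3c78e9d3870d9b3468c993264c983060c183060c172e5cb962c58b152a54a942850a13264c992244891122448912244891204081020408102040810204078f1e3c78e1c3870e1a3468d1a3060c183058b162c58a142850a12244891224489122448810204081020408102040810204080e1c3860c182850a10204060c18204080810204081020000000000000000000) i1) (pk61d_v3 (nat_lit 7) 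
    (nat_lit 0x1fbffeeddfb6edfbb367cddf7f6ddd76f4d9cf5f2d5db8eed37bbf6e1bf768bf7bbf6ebd39f2edc6b77edc2bd6cf9b2e4c78b3619d9f3609f3b3e6cb931e2cd86367cd823c6cf3e3e69d1b2cd8b92644c72e1e2950b3619d263417d9f3609f3a4478d01fbefffbefcf7ebf796dfff786edbffefbf3dfafde577ffde17aeefdbaf4e7cbb714ddfb704e9bbefedbbaede9b39ebe5abb71dda4f77edc37eed07cf77df7cff6dd78f75db74ef4d970e73d76cdf2d568d76e3bb4deb278c96efdb86fdda2fdeb07cf182e5b7dfae9cfeebd5931edb76aa53bb2e5448735dba68cdeab54911adda6f59ad453213c6476fdda2fdeb15eb504e9901f3c6078efedd7fe6cbbeb55bf1a2cf6cd5fa64abf796cc57290dfff786ed982f5ca0386) i1))) (nat_lit 0) (nat_lit 323) List.nil) : List (ℕ × ℕ))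
    = ?xq9006 → (List (ℕ × ℕ))) ?hq9006; (case hq9006 => (set_option maxRecDepth 1000000 in conv => lhs; reduce)); intro _; exact ?xq9006 : List (ℕ × ℕ))

/-- a letter -/
noncomputable def G7_6 : List (ℕ × ℕ) :=
  (by
  refine (?fq9007 : ((pk61l_v3 (fun i1 => (_root_.Prod.mk (pk61d_v3 (nat_lit 7) 
    (nat_lit 0xf7ebcf8e7cb8f0d7ab4e8c78b0e0b76acd8a74a8d0972a4c8870a0c076e9cb86ed9ab466cd9b264c98b162c18305eb96ac56ad5aa54a94a952a14284e992a4468d1a244890a142810203668c982e5cb162a54a14264c99326489122448891224489020408101e3868c162c58a142848912204080e1c3060a14204060c1830608102040808102040800000000) i1) (pk61d_v3 (nat_lit 7) 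
    (nat_lit 0xfffbefcefdbaf4dfbb6eccf9b2e4bf7aedcaf5aad49f3a6cc8f1a2c47ef9ebcefdbaf4efcdbf6e4dbaf16bd3834dfbb6ecdfad7eed4bb6e95bb342ccf9b2e4cf8d3e6c49b2e14b930243e78e9c9f1e7469b166449f2e3c32f3a546845a6c98b04acc91120148f1a2c48f0c7c6843a2c11b1200cce7f31eca7721ccf8cf9b0f9b11e341b2e13a642e4c070c04) i1))) (nat_lit 0) (nat_lit 160) List.nil) : List (ℕ × ℕ))
    = ?xq9007 → (List (ℕ × ℕ))) ?hq9007; (case hq9007 => (set_option maxRecDepth 1000000 in conv => lhs; reduce)); intro _; exact ?xq9007 : List (ℕ × ℕ))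

/-- a letter -/
noncomputable def G7_7 : List (ℕ × ℕ) :=
  (by
  refine (?fq9008 : ((pk61l_v3 (fun i1 => (_root_.Prod.mk (pk61d_v3 (nat_lit 7) 
    (nat_lit 0x3dfbf5e7cf8e7cf971e3c35ebd5a74e8c78f161c382ddbb566cd8a74e951a3425cb95264c8870e1418301dbb74e5cb86eddb366ad5a3466cd9b366cd9b364c993264c58b162c58b162c183060c17ae5ab15ab56ad5aa54a94a952a54a850a13a64a911a3468d1a244890a142850a04080f9e3a70d9b366cd9a3468c993264c983060b962a50993264c99224488912244890204078f1c3868d183058b162c58b162c50a14285091224489122448810204080e1c3860c182850a10204060c183060c183060c182040810204080810204081020408102000000000000) i1) (pk61d_v3 (nat_lit 7) 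
    (nat_lit 0x3ffefff7e7defdbbf5e9d77eedfb766dcf9b3e5c996fdebf76e5daf5abd5a9567ce9f3664d8f1a3c58915fbe7ef5e3defbfb6eebb7a6cefdb9efddadbb6efcb7ea6fd7a71dbb34b569d786dd0d7bf6ebd3bf6e6bd777e4bfaf4e2b5675e0b73e6cb933e6c69d367c49f2e4c295265c0973e6cb933e6c67cf67c47f2e4c274e65c0767ce9b327ce965cb4f945e6cc9254a4d90567c79d1a6c599127ce971e3431e3a7ca8f087cd99262c4823464d911600dce9cfe64c7b2a53b9121ccf9b1a74c8cf9e361c367c49d11f341f2e4c2952213a70c8509970254074c05) i1))) (nat_lit 0) (nat_lit 250) List.nil) : List (ℕ × ℕ))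
    = ?xq9008 → (List (ℕ × ℕ))) ?hq9008; (case hq9008 => (set_option maxRecDepth 1000000 in conv => lhs; reduce)); intro _; exact ?xq9008 : List (ℕ × ℕ))

/-- a letter -/
noncomputable def G7_8 : List (ℕ × ℕ) :=
  (by
  refine (?fq9009 : ((pk61l_v3 (fun i1 => (_root_.Prod.mk (pk61d_v3 (nat_lit 7) 
    (nat_lit 0xfbf3bf6ebd7af4e9d39f2e3c36eccf9f366cb972e5cb93264c9931e3c58b0e1c182fdebb76edcb972ddab362bd6ab56ad4a9529d2a3427cf9f3a74e9b366cd9b366cc993264c99325cb972a54a93264c891223c78f1a3468b162c58b162c4891224489121c3870a14283060c08101fbf7cf9ebd7af5ebc78f1e3c76edd3a72e5c386ad16ac4e992a54a9122446890a03e78e9d3a70e1c3668c982e58a952a50a1426488901a30284) i1) (pk61d_v3 (nat_lit 7) 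
    (nat_lit 0xf7ebffefbef9fcf5cbdfaf3e35eaffbff6efbef6ebc7f3d6cd58bdebf5abce9f1a1bb6b6d59da68c99b262c17aea6b55d258a95aa52a2fb74f79b26bb6e5b566951dcb529a32488adb34769922b2c50d86082baf3f5971eab4e1ad5674dd4a50962a386a9ab374951aa2a4cd050607871c19d8d16141ba1828202160c502120440066c95aa6ed9ab346d192266c98b05eb96ab36b151a56a94a80e18985064820206080801628182) i1))) (nat_lit 0) (nat_lit 192) List.nil) : List (ℕ × ℕ))
    = ?xq9009 → (List (ℕ × ℕ))) ?hq9009; (case hq9009 => (set_option maxRecDepth 1000000 in conv => lhs; reduce)); intro _; exact ?xq9009 : List (ℕ × ℕ))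

/-- a letter -/
noncomputable def G7_9 : List (ℕ × ℕ) :=
  (by
  refine (?fq9010 : ((pk61l_v3 (fun i1 => (_root_.Prod.mk (pk61d_v3 (nat_lit 7) 
    (nat_lit 0x3efcf9dfb75ebd7a74e9d3a73e5c786fddb76edd9b366cd9af569d19f3e7cd9b365cb972e5cb97264c993264c993264c98f1e3c58b161c387060c17efdebd76eddbb76e5cb972e5cb972ddbb56acd9b162bd6ab56ad4a952a54a74a8d09f3e7cf9d3a74e9b366cd9b366cd9b3264c993264c993264c993264b972e5ca952a54993264c891224478f1e3c68d1a3458b162c58b162c589122448912244891224489121c3870e142850a0c183060408101fbf7cf9ebd7af5ebc78f1e3c78f1e3b76e9d3972e1c3568d16ac589d3254a952244891223448501f3e78f1d3a74e9d3870e1c3870e1c366cd1a3264c182a50a0f1c3468d183060c182c5091014204) i1) (pk61d_v3 (nat_lit 7) 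
    (nat_lit 0x3d7bf5fff7df5cbe7bf5cf97bf5e7c7ffdf7d6af9efd6bd5efd79f1ffbeffddb77df5d796dd58be7bf5d39f2d9af563c5ef9ebf5cb579e3a7c70d0dd7b65d69ab25aaadda68cd92c56a99ab64a98a960a1bb6a4d5953a4d19b266c98b0aedd39facd931eab4a535649511d35529d29729a3364911a2386cd53668cdd26488d516284cd06080c5faebd3deacb935db5569425aa92a2b96ed54a74a1c258ad524468add3568ed52548acd15286c505080b872c19d15241413b7450992080c1130648111024003266c952b54bd72d548962b548d12b54a54375ed973564b551a68cd92c56a8d9a66ad92a62a5828244c9070c282821628203040c1010008182) i1))) (nat_lit 0) (nat_lit 290) List.nil) : List (ℕ × ℕ))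
    = ?xq9010 → (List (ℕ × ℕ))) ?hq9010; (case hq9010 => (set_option maxRecDepth 1000000 in conv => lhs; reduce)); intro _; exact ?xq9010 : List (ℕ × ℕ))

/-- a letter -/
noncomputable def G7_10 : List (ℕ × ℕ) :=
  (by
  refine (?fq9011 : ((pk61l_v3 (fun i1 => (_root_.Prod.mk (pk61d_v3 (nat_lit 7) 
    (nat_lit 0xffffffffffbf7efdfbefdf9f3dfbf7efdfaf5ebd7af3e7c78efdfbf7efdbb76eddbaf5e9d39f3e7cf9f2e5cb972e3c7870dfbf7eeddbb6ecd7af5ead5ab4e8cf9b1e2bf7efdebd7aedcb76eddab56acd8af5a9d29f3a5ca8f1a1c27ef9dba6eddbb66cd9ab466cd9b264c98b05ebd7ae5cb96ac56ad5aa54a94a84e991a23e78d9a2e589921e3858a0e18182) i1) (pk61d_v3 (nat_lit 7) 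
    (nat_lit 0xfb5eabf7bf2b547cf2abda8f3cd3a2edcf8a541d38a2e6838eb3e6c78bd274c8d126c599138cb930e0f095221409306440db1e2ec8d122c4d30e0e885020c0cb930e0bafdedc7cf1ebcb2edcd874e1cb8ab528d09b324c88b120c07af1cb86a5cab42c50a94624c8b024408905a3c6ac1c3068c522c4a814204884a910a03a70c982a508901a304880a10080) i1))) (nat_lit 0) (nat_lit 160) List.nil) : List (ℕ × ℕ))
    = ?xq9011 → (List (ℕ × ℕ))) ?hq9011; (case hq9011 => (set_option maxRecDepth 1000000 in conv => lhs; reduce)); intro _; exact ?xq9011 : List (ℕ × ℕ))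

/-- a letter -/
noncomputable def G7_11 : List (ℕ × ℕ) :=
  (by
  refine (?fq9012 : ((pk61l_v3 (fun i1 => (_root_.Prod.mk (pk61d_v3 (nat_lit 7) 
    (nat_lit 0xfffffffffffffffdfbf7efdf7efcf9efdfbf7efdfbf7ebd7af5ebcf9f1e3bf7efdfbf6eddbaf4e7cf9f3e7cb972e3c37efdfbf7eeddbb6ecd7af5ebd7ab56ad3a33e7cd8f1e2bf7ef5bb76abd7af5ebd6ad5aad4a74e9d3a74a952a3427cf9d2e5ca8f1e3438709fbf7ceddba6eddbb76ed9b366ad19b366cd9b264c98b05ebd7af5ebd7af5cb972e5cb56ac58ad5ab56ad5ab56a952a54a94a950a13a74c8d1a23e7cf1b3668b972c4c9921e3c70b16283870c0c182) i1) (pk61d_v3 (nat_lit 7) 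
    (nat_lit 0xfbf2fddb8fdebcfb7aebe7b75edc79e7c5bb361db971e6d5974e6cb9b0e3af48f162758d162c4e3c21c181c614183036ec9f3666d9d366ccd3a25c991a654993232e4cb87061bb72ed9b166ad47ef5e557cf5ebca341db97145d3972e26cc9b264498b122c18105ebc7ae5c396ad078d18d470d1a318b0162443114244885ab0b95283c68c5a58a8e1a5469418a5413224058910a4911142488920212a44a850213a70e993064a942a448111a3068910242840a04001) i1))) (nat_lit 0) (nat_lit 208) List.nil) : List (ℕ × ℕ))
    = ?xq9012 → (List (ℕ × ℕ))) ?hq9012; (case hq9012 => (set_option maxRecDepth 1000000 in conv => lhs; reduce)); intro _; exact ?xq9012 : List (ℕ × ℕ))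

/-- a letter -/
noncomputable def G7_12 : List (ℕ × ℕ) :=
  (by
  refine (?fq9013 : ((pk61l_v3 (fun i1 => (_root_.Prod.mk (pk61d_v3 (nat_lit 7) 
    (nat_lit 0xfbf3e7bf7ebbf6ebd7af4e9d39f3e7cb972e3c37efddbb6eddbb366bd7ab56ad3a7468cb93263c78afdebb76edcb972ddbb76ad5ab362bd7ad5aad5ab52a53a74a952a3468509b3264b972a2c4890e1c27af1e3b76e9ab468cd9b25ab162b56a93a74c992a54a91223468912242850203e78e9d3a70e1c366cd9a3468c982e5cb162a54a94284c9922448891204078e1a3468c183058b162850a1220284080c182) i1) (pk61d_v3 (nat_lit 7) 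
    (nat_lit 0xf9f7e7bf5ef7eee9b7675e9b79f2d5cf5ead3a3befedbbaf4dbd7672d7cf96ae3a7868c997263c58ebd6b956a5db956ddaa56e9d2a342fd7bd5aedcab76a5aa76ed52b346c50993664b952e245890e14378f5e3b74eda3568cd93358b562b54ad39f4c7929d3890ea33488d9a42650184e992a43894e9c446cd23446d0a02e3cb0e2a346141a4c51216288892020b962a506151a3090b144c90b2240205080c103) i1))) (nat_lit 0) (nat_lit 184) List.nil) : List (ℕ × ℕ))
    = ?xq9013 → (List (ℕ × ℕ))) ?hq9013; (case hq9013 => (set_option maxRecDepth 1000000 in conv => lhs; reduce)); intro _; exact ?xq9013 : List (ℕ × ℕ))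

/-- a letter -/
noncomputable def G7_13 : List (ℕ × ℕ) :=
  (by
  refine (?fq9014 : ((pk61l_v3 (fun i1 => (_root_.Prod.mk (pk61d_v3 (nat_lit 7) 
    (nat_lit 0xfffff7df9f3dfbf5e7c78efdfbf6eddbaf5ebd3a74e7cf9f2e5cb8f1e3c3870dfbf76eddb76edd9b35ebd5ab569d3a7468cf9f365c9931e3c587060bf7ef5ebd76eddb972ddbb56ad59b366c58af5ebd6ad5aad5ab52a54a74e9d2a54a8d1a3428509f3e7ce9d3a6cd9b3264c972e5ca952a4c993224488f1e3468d162c589121c3850a14183060407efdf3d78f1dbb74e5c386eddbb66cd9ab56ad1a3466cd9b264c98b162c18305ebd72e5cb56ad58b15ab54a952952a54284e9d32548911a344850203e7cf1d3870d9b3464c182e5cb162c54a952850993244891122448101e3c78e1c3868d1a3060c162c58a142848912204080e1c30508101830404000) i1) (pk61d_v3 (nat_lit 7) 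
    (nat_lit 0xfffbffcfbf3dfaf7e3cf8efdb777dfbba6dd9d7a6de7cb573d7ab869d1c7869edbfbf6ddd7a6debb396be7cb571e1a78e8cf9b3e4cb931e2c7830e0bf5af57ad76ad4b956dd2b54e959a342c51bd5eb5fbd5eedca976ad4b54e95bb54ecd8a1668d09f3a34f8f1a6458936645972a14b870a44181264419d1e7ce8d366459b12543972a14991064c07ef9fbc7af1dba76e1cb86ed97375eb9a2d58d5a2d66c953356a982950c58296cbdbb65cd5a2d6ab192b66c953160a58a84e993a44a911a246810a03e78f9c3a70d9a3660c982e38b0f1c5468c283498a242c51112208092c3c7172c3ca94185468c242c513242c89010444880e183840a101820600080) i1))) (nat_lit 0) (nat_lit 292) List.nil) : List (ℕ × ℕ))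
    = ?xq9014 → (List (ℕ × ℕ))) ?hq9014; (case hq9014 => (set_option maxRecDepth 1000000 in conv => lhs; reduce)); intro _; exact ?xq9014 : List (ℕ × ℕ))

/-- the simple module `128a` -/
noncomputable def G7 : List (List (ℕ × ℕ)) :=
  [G7_0, G7_1, G7_2, G7_3, G7_4, G7_5, G7_6, G7_7, G7_8, G7_9, G7_10, G7_11, G7_12, G7_13]

/-- a tree of words -/
noncomputable def p7 : List (ℕ × ℕ) :=
  (by
  refine (?fq9015 : ((pk61l_v3 (fun i1 => (_root_.Prod.mk (pk61d_v3 (nat_lit 5) 
    (nat_lit 0x6f7ad6739ce739c62d6b5ad5ad6b5ad694a527394a518c6318c6308421083dce735ad6b18c6316b5ad6b5294a4a50841ce7398c6318a5294842108420c6318c63108421084210421084200000000000) i1) (pk61d_v3 (nat_lit 4) 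
    (nat_lit 0x3b345d17b8cbad1b0a5d938c2d9181017b5d9173bc5d9738b53c918c5d17b5173489170ba5405d325d91851705d173ba5d734825d91734805174065d1734062) i1))) (nat_lit 0) (nat_lit 127) List.nil) : List (ℕ × ℕ))
    = ?xq9015 → (List (ℕ × ℕ))) ?hq9015; (case hq9015 => (set_option maxRecDepth 1000000 in set_option simprocs false in conv => lhs; reduce; dsimp only)); intro _; exact ?xq9015 : List (ℕ × ℕ))

/-- a tree of words -/
noncomputable def q7 : List (ℕ × ℕ) :=
  (by
  refine (?fq9016 : ((pk61l_v3 (fun i1 => (_root_.Prod.mk (pk61d_v3 (nat_lit 6) 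
    (nat_lit 0x35d74d33cf1c71befbaeaeaaa99e59659659648e38e38a18607df7df7df7de75d71c71c71c71b6da6996586185965965955145144d24924924923cf3ce38e38d34c30c28a28a2892082082082081c71c61861851041030c2082081040000000) i1) (pk61d_v3 (nat_lit 4) 
    (nat_lit 0x98989890a0cb099899db0ca69d3b08988d17b0c6998d973b06989898982980c2a5982b93b80c298298c2bab0ad9382bd93b80c2bca9b0a8dba98db0a98d9b8a) i1))) (nat_lit 0) (nat_lit 127) List.nil) : List (ℕ × ℕ))
    = ?xq9016 → (List (ℕ × ℕ))) ?hq9016; (case hq9016 => (set_option maxRecDepth 1000000 in conv => lhs; reduce)); intro _; exact ?xq9016 : List (ℕ × ℕ))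

/-- a letter -/
noncomputable def G8_0 : List (ℕ × ℕ) :=
  (by
  refine (?fq9017 : ((pk61l_v3 (fun i1 => (_root_.Prod.mk (pk61d_v3 (nat_lit 7) 
    (nat_lit 0xfffbcf8efdb8f0dfbb4e8cf9b0e0bf7efdebd7aedcb76acd9b362c58af5ebd6ad5aad4a74a8d1a3428509f3e7ce9d3a6cc972a4c993224488f1a0c07efdfbf7ef9f3e7cf9ebd78f1dbb74e9cb972e5cb870e1c386ed98b05eb94a84e990a03e78c982e5cb962c58a94264889122408101e3c78e1c3868c162848912204080e18080) i1) (pk61d_v3 (nat_lit 7) 
    (nat_lit 0xfbf3dfaebd39f2dbb35eacb931e2efd6ef6e973af4e7cb9f1b7cb85adfb6aeed9536ecd7ab5e9a7ab452cf966e6c9332e4c78b1e1978b04a8b121c2cf963c57b9b24688f32c5c9131c3c50b1e18705de2c10a03a6ad19b25ab15aa4a911a23a70d9a4e94aa648512a446891a126890123e7469e3830e9c3668d991668c0a0a10182) i1))) (nat_lit 0) (nat_lit 148) List.nil) : List (ℕ × ℕ))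
    = ?xq9017 → (List (ℕ × ℕ))) ?hq9017; (case hq9017 => (set_option maxRecDepth 1000000 in conv => lhs; reduce)); intro _; exact ?xq9017 : List (ℕ × ℕ))

/-- a letter -/
noncomputable def G8_1 : List (ℕ × ℕ) :=
  (by
  refine (?fq9018 : ((pk61l_v3 (fun i1 => (_root_.Prod.mk (pk61d_v3 (nat_lit 7) 
    (nat_lit 0x3ffffde7cf8efdfb71e3c37efdda74e8cf9f361c382fdfbf7efdebd7aedcb76acd9b366cd8b162bd7af5ebd7af5eb56ad5ab55ab52a53a74a951a3468d1a3468d0a1428509f3e74993223c78f1e3c68d1a2c4870a0c183060c08101fbf7efdfbf7efdf3e7cf9f3d7af1e3b76e9d3972e5cb972e5cb870e1c386eddb3162c17af5ca54a84e9d3214280f9f3c64c982e5cb972e5cb972c58b162c54a94284c992244489122448912240810204078f1e3c78e1c3868c1628489122448810203870c04080) i1) (pk61d_v3 (nat_lit 7) 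
    (nat_lit 0x3efcfbefd7bebd3af3e5cf6ecdbaf56bcb932e3c58f7edd976e6edb776ecd7ab5ead36ed6bd16fbf5e9bf6ecab53b75ddb6af5dbd3673d7cb573e5c75ead34e973e1af4539b326cb952f3e5c916266cb172e4c78b1e2c30e163c10f3e5c93e6cc7af33659d35ee59b92663978a563c5865ca92edd63c12e43b6ad1ab364cd6ac5aad52b4a912a3448ce9c3a6cd1b4e9521f3a70a944c94f1d2a94ea4388cda2348d1213668c93248d01b304d3a548346264a352a446891a2422c523402c2840a0c103) i1))) (nat_lit 0) (nat_lit 222) List.nil) : List (ℕ × ℕ))
    = ?xq9018 → (List (ℕ × ℕ))) ?hq9018; (case hq9018 => (set_option maxRecDepth 1000000 in conv => lhs; reduce)); intro _; exact ?xq9018 : List (ℕ × ℕ))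

/-- a letter -/
noncomputable def G8_2 : List (ℕ × ℕ) :=
  (by
  refine (?fq9019 : ((pk61l_v3 (fun i1 => (_root_.Prod.mk (pk61d_v3 (nat_lit 7) 
    (nat_lit 0xf7ebbf6ebd39f3e7cb972e3c35eacf9f366cb97264c78f1e3c78b162c58b0e1c182ddaa74a7ce9b325cb972a54a93223c68b121c3870a1428301dba6ed9ab466cd9b264c98b05eb96ac56ad5aa54a94a84e9d3a64c992a54a91224468d1a3468d1a2448912244890a142810203e7cf9e3c78e9d3a70e1c366cd9b366cd9a3468d1a3468c993260c182e58a94264c992244889016283870c182850810183060c18204081020204000) i1) (pk61d_v3 (nat_lit 7) 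
    (nat_lit 0xfffbffefbf3ffbeffbd76f3e37eeffbff6efbb7e6cffef7ebcffbd6ed59bce9f1a2fdeaf5afdebb72fdb9f7ad4eb362bd6ab52bd38f5a946a341fbebf7aedcbf6dbdeb4dacd8af5aad4af4d7d6a4ba8d0bf3dbde9cdaecd6b72634bf6e7cb6ecd3deb53a536649acc96362430af1d7d68cbaac55b5222caf4e3c35eacfd6a51a12e547a8c153420287ef9ebc7eecbbe7459cb81e39f8f7c39e8d7831fbb1e2c3be74385067225c08) i1))) (nat_lit 0) (nat_lit 192) List.nil) : List (ℕ × ℕ))
    = ?xq9019 → (List (ℕ × ℕ))) ?hq9019; (case hq9019 => (set_option maxRecDepth 1000000 in conv => lhs; reduce)); intro _; exact ?xq9019 : List (ℕ × ℕ))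

/-- a letter -/
noncomputable def G8_3 : List (ℕ × ℕ) :=
  (by
  refine (?fq9020 : ((pk61l_v3 (fun i1 => (_root_.Prod.mk (pk61d_v3 (nat_lit 7) 
    (nat_lit 0xf7efd77edd7a73e7cf9f3e5cb971e1bf76dd9af5ebd7af56ad5a7467cf9f366cd972e5c993263c78f1e3c78f1e3c78f162c58b162c5870e1c18305bb76a9d3a53e74d992e5cb972e54a95264478f1a3458b12243870e1c3870e1c2850a142830604076edd376ed9b356ad1a3366cd9b366cd9b264c993262c58305eb96ac56ad5ab56a952a52a13a74e9d3264c992a54a9522448911a3468d1a3468d1a3468d1a34489122448912244850a14281020407cf9f3e78f1e3c74e9d3a70e1c386cd9b366cd9b366cd9b366cd9a3468d1a3468d1a3264c993060c182e58a94264c9932648912224078e1a3058b162c58a14284880e1c3860c182850a10204060c183060c183060c182040810204080810200000) i1) (pk61d_v3 (nat_lit 7) 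
    (nat_lit 0xfffbffffdf7e7ffdefbf6ffebbf9f1fff7df9fff7bdfbbffadfe7c7fefbff76ddf7aedf9d367ffdefbf6e7bf76bcf9bffaefcb7eacfe78e9f1c345fbd7ebd6af5eb55a95eb539f3abd29f4685faf7ab5dab72a5fbd6ebd6a71e35fb55e947b346c507ef9fdfaf7ab5dab72a5fbd6ebd6a6ddb5fb55e937b346c50bf7aedcbf7adaf5d7ed2fb362fcf8ebef4e8cbaecd8ab6e4c88b2fdeb73e74b8f1a1af5cad3a6bf6a7ca8f097aa4f664c15362440515e7b75f5a7365d566b55b52634595eb539f3a5b76ccd7ae567cf57a53e53764bd51fa3258a9a1218287ef9ebc7ef9d972cfdd1772e1fbe7af1fbe763c73f743dcb87e5c7be2c39e951af0a0c7ef9d972c4c78e161c33f745c90f141dc9112e0808) i1))) (nat_lit 0) (nat_lit 312) List.nil) : List (ℕ × ℕ))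
    = ?xq9020 → (List (ℕ × ℕ))) ?hq9020; (case hq9020 => (set_option maxRecDepth 1000000 in conv => lhs; reduce)); intro _; exact ?xq9020 : List (ℕ × ℕ))

/-- a letter -/
noncomputable def G8_4 : List (ℕ × ℕ) :=
  (by
  refine (?fq9021 : ((pk61l_v3 (fun i1 => (_root_.Prod.mk (pk61d_v3 (nat_lit 7) 
    (nat_lit 0xf7ebcf8e7cb8f0d7ab4e8c78b0e0b76acd8a74a8d0972a4c8870a0c076e9cb86ed9ab466cd9b264c98b162c183056a94a84e9d3264a95224468d1a3468912244890a142850a040810203e78e9c366cd9a3468c993260c182e5cb162a54a14264c99326489122448891224489020408101e3868c162c58a142848912204080e1c3060a14204060c1830608102040808102040800000000) i1) (pk61d_v3 (nat_lit 7) 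
    (nat_lit 0xfbf3ffeebd3bf6dbb37eecb933e6bb72fdeab52bd69b327ce8b123c67af1fbefffbefcfbedafcf4d3ff96ffbc365ab17aeefbfb6eebb7a6cebcf6eb4bd396cd493bf1dfa53f6e1bb426dfbb6ecdbaceecd4737e93fbb41ebf5ef56bb56e54bb6ead32b72d54a452fd9af44bdeb15a816af5aad4ab4c6d4a432bd11f5a80efebff2efab7e2cfbed6ab0bf3d2c5413ff95ea43fef0b9406) i1))) (nat_lit 0) (nat_lit 172) List.nil) : List (ℕ × ℕ))
    = ?xq9021 → (List (ℕ × ℕ))) ?hq9021; (case hq9021 => (set_option maxRecDepth 1000000 in conv => lhs; reduce)); intro _; exact ?xq9021 : List (ℕ × ℕ))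

/-- a letter -/
noncomputable def G8_5 : List (ℕ × ℕ) :=
  (by
  refine (?fq9022 : ((pk61l_v3 (fun i1 => (_root_.Prod.mk (pk61d_v3 (nat_lit 7) 
    (nat_lit 0x3dfbf5e7cf8e7cf971e3c35ebd5a74e8c78f161c382ddbb566cd8a74e951a3425cb95264c8870e1418301dbb74e5cb866cd93162c17ae5ab15ab56ad5aa54a94a952a54a850a13a64a911a3468d1a244890a142850a04080f9e3a70d9b366cd9a3468c993264c983060b962a50993264c99224488912244890204078e1a3058b162c58a1428489122448810203870c182850810183060c183060c1020408101020408102040800000000) i1) (pk61d_v3 (nat_lit 7) 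
    (nat_lit 0x3efcfbfff7febd3af7eddf6ecdbbf76fcb932e7cd9eedcbb7ef5fab52ad7ad5e6cc9b3e74f8b122c78d1debc7afdf3f6ad1ab76cdfffefbf3efcf6b567df4b7ffef2bd77ff0bf7eedbb36ecd69526dd4977eed29d36fd09fbf6ebd3af4e674e75e477bf6e27cf77e07ebd6ab52ad4a654a55a456bd6a25cb57a05efdebb72edcb63465db436fdeb23c75fb03ffb7fcdbeb5f8d3efcf6d5a330a13efa6ac82fffde5bb6621c37ff0dd807) i1))) (nat_lit 0) (nat_lit 194) List.nil) : List (ℕ × ℕ))
    = ?xq9022 → (List (ℕ × ℕ))) ?hq9022; (case hq9022 => (set_option maxRecDepth 1000000 in conv => lhs; reduce)); intro _; exact ?xq9022 : List (ℕ × ℕ))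

/-- a letter -/
noncomputable def G8_6 : List (ℕ × ℕ) :=
  (by
  refine (?fq9023 : ((pk61l_v3 (fun i1 => (_root_.Prod.mk (pk61d_v3 (nat_lit 7) 
    (nat_lit 0xf3e38f0d3a30e0bf7aedcb76acd9b362c58a3427cf9d3a6cd99325cb952a4c993264c891224488f1a2c4870a0c183020407efdf3e7af5e3c76edd3a72e5cb972e1c3870e1bb66ad19b262c58b060c17ae5ab15aa52a54a850a13a64a911a242850a04080c982e5cb972c58b162a54a952850a14264c99324489122244891224489122408102040810204078f1e3870e1a3468c183058b162850a12244891224488102040810203870c182850810183040808102040800000000) i1) (pk61d_v3 (nat_lit 7) 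
    (nat_lit 0xfbf3af4dbb32e4fffbefcf7ebef9bbf3c5cab53befedbbaede9b39ebe5abaf1dba66f4e1b344cdfbb6ecd7ab6e98bb3444ff5ff56fb57e54f74fd52fbe6ad17bf3c54a0f3bf6ebd39f2ebc5af4e0d37eedbb35eadba56ecd0b33e6cb931e2cb852e4c090e9cef3e3b7ed3a336eb362b5e932234e72e1b3e52a132ebc66c98b05ab12bd384c911203460537c75fba32edb156ec88b35c357aa12adba62c15aa46ecd11202c503339fcc7b29dc87319bc46b2e13a642e4c070c04) i1))) (nat_lit 0) (nat_lit 212) List.nil) : List (ℕ × ℕ))
    = ?xq9023 → (List (ℕ × ℕ))) ?hq9023; (case hq9023 => (set_option maxRecDepth 1000000 in conv => lhs; reduce)); intro _; exact ?xq9023 : List (ℕ × ℕ))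

/-- a letter -/
noncomputable def G8_7 : List (ℕ × ℕ) :=
  (by
  refine (?fq9024 : ((pk61l_v3 (fun i1 => (_root_.Prod.mk (pk61d_v3 (nat_lit 7) 
    (nat_lit 0xf3e7c71e3c34e9d1870e0bf7aedcb76acd9b366cd8b162bd6ab529d2a3468d1a3428509f3a6cc972a4c993264c891223c78d1a2c589121c3850a0c183060c18306040810203f7efdf3e7cf5ebd78f1e3b76edd3a74e5cb972e5cb972e5cb970e1c3870e1c376ed9b356ad1a3366c993162c58b162c58b060c18305eb96ac56a94a952a54a850a13a64a911a242850a142810203e78e9c3668c993264c983060b972e58b162a54a94285099326489122244891224489122448902040810204078f1e3c78e1c3870e1a3468d1a3060c183058b162c58a142850a12244891224489122448912244891220408102040810204080e1c3860c182850a10204060c18204080810204081020408102000000000000) i1) (pk61d_v3 (nat_lit 7) 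
    (nat_lit 0xfbf3ef5e9d76ecdb97265fffbefcf7ebefcf376e7df177ffefbf3dfafbf3cd5a9f7c55efdbaf4e7cbaf4e336675e137befedbbaede9b39ebe5abaf4e3b76698b13af0dba22ffbf5ff5eadf6ed5f972a7bb74fd5aa5f7e79bb72cd5a945ebcfbe2ed8ab41ef7dfdb775dbd3673d7cb575e9c76ecd2d5a75e1b7435efdbaf4e7cbaf4e2b5675e0b73e6cb931e2cb930a54997025cf9b2e4c78b2e4c274e65c077bcf5fda72eeb356f498b39cb57ca52aebd38cd99256ac5254a75e13642d50577cf8edd7ee9d19b2edb362b55bb264468b35cb86cd5ea950992adbb34cd99262c482d5a315ab148d19b744d911603560b540dce9cfe64c7b2a53b9121cc68cde2446b2e4c2952213a70c8509970254074c05) i1))) (nat_lit 0) (nat_lit 312) List.nil) : List (ℕ × ℕ))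
    = ?xq9024 → (List (ℕ × ℕ))) ?hq9024; (case hq9024 => (set_option maxRecDepth 1000000 in conv => lhs; reduce)); intro _; exact ?xq9024 : List (ℕ × ℕ))

/-- a letter -/
noncomputable def G8_8 : List (ℕ × ℕ) :=
  (by
  refine (?fq9025 : ((pk61l_v3 (fun i1 => (_root_.Prod.mk (pk61d_v3 (nat_lit 7) 
    (nat_lit 0xfbf3dfaefdbaf5ebd3a74e7cf9f2e5cb8f0dfbb6eddbb366cd7af5ead5ab4e8cf9f366cb972e5cb93264c9931e3c78f1e2c58b162c387060bb72ddaab529d29f3a6cd9b3264c972e5ca952a4c88b121c27af1dba6ad19b25ab15aa4e992a54a91224468d1a244890a03e78e9d3a70e1c366cd9a3468c982a509921a3058a0a10182) i1) (pk61d_v3 (nat_lit 7) 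
    (nat_lit 0xfffbcf8bf7bbdfbbdaf5ce36ecf0b562cd8af5b7d7abbab54d34e8e8a5428d08efe33ecf1e2bf7b9a3447cf30c382edce08501d3882e6038bf7acd8af5a8d07efa7bf7b39f3c92edcc874e1cb88f1a0c07ef9cb86ed98b05eb94a82e593972a98b14424c8a024408901e38f8f1a7870c322c49814204882e588901e384880e18080) i1))) (nat_lit 0) (nat_lit 148) List.nil) : List (ℕ × ℕ))
    = ?xq9025 → (List (ℕ × ℕ))) ?hq9025; (case hq9025 => (set_option maxRecDepth 1000000 in conv => lhs; reduce)); intro _; exact ?xq9025 : List (ℕ × ℕ))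

/-- a letter -/
noncomputable def G8_9 : List (ℕ × ℕ) :=
  (by
  refine (?fq9026 : ((pk61l_v3 (fun i1 => (_root_.Prod.mk (pk61d_v3 (nat_lit 7) 
    (nat_lit 0x3efdf9efdfaefdbaf5ebd7af4e9d39f3e7cf9f2e5cb8f0dfbf76edbb76eddbb76edd9b366cd9af5ebd7af5ebd7ab56ad5ab4e9d1a33e7cf9b366cb972e5cb972e5cb972e4c993264c9931e3c78f1e3c78f1e3c78b162c58b162c3870e0c182eddb96eddaab56a53a74a7ce9b366cd9b3264c972e5cb972a54a93223c68b162c58b12244870e1c3870a1428301ebd78eddba6ad5a3366c96ad58ad5aa4e9d3264a952a54a952a54891224488d1a3468d1a3468912244890a14080f9e3a74e9d3a70e1c366cd9b3668d1a3260a95284c9921a3460b1628285080c182) i1) (pk61d_v3 (nat_lit 7) 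
    (nat_lit 0x3ffeffe7c79af5bbf6af5aaf7af538f0a746871a5468d0bf5ef56dfbafdebb5eb55df7ee57a9a745bb3629d1a1a6d59a546cd1b1427c77f3a33ecf9a7ce9b1e3457ef9ee79f323c47ef30e097264438301db971865498505d399305cc880e2fdebf66c59af5abd1a145fbe9f39fbe7b3dfbc9321db97125d3972e1fbe8f19fbe7b1dfbc8301db97105d3972e1fbe7ee5c396ed9bb160c57ae5ea54292e3cb0e4e98b962a3c70d4e5ca0f18850132240589108491114248892020b963e78b962a7cb94326099120649112240b962e448111e3878910243860e04001) i1))) (nat_lit 0) (nat_lit 250) List.nil) : List (ℕ × ℕ))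
    = ?xq9026 → (List (ℕ × ℕ))) ?hq9026; (case hq9026 => (set_option maxRecDepth 1000000 in conv => lhs; reduce)); intro _; exact ?xq9026 : List (ℕ × ℕ))

/-- a letter -/
noncomputable def G8_10 : List (ℕ × ℕ) :=
  (by
  refine (?fq9027 : ((pk61l_v3 (fun i1 => (_root_.Prod.mk (pk61d_v3 (nat_lit 7) 
    (nat_lit 0xffffffffffbf7efdfbefdf9f3dfbf5ebcf9f1e3bf7efdbb76ebd39f2e3c37eecf9afdfbf7efdfbf7af5ebd7af5ebb76edcb972ddbb76ad5ab366cd8b162bd7af5ebd7af5ab56ad5ab56ab56ad4a9529d3a74a952a3468d0a1427cf9f3a74e9b325ca93223c78f1a3468b121c28301fbf7efdfbe7cf9f3e7af5e3c76edd3a72e5c386eddbb66cd9ab466c98b05ebd7ae5cb96ac56a94a84e98f9e2e5cb962c58a9426488901e38386) i1) (pk61d_v3 (nat_lit 7) 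
    (nat_lit 0xf7bf5e7c7eb76acd8b6e5d9935e3d58b4e1d1839e7c7cb362cb931e2c3835eac78adcf96dd9a7476a74a6cc93229ad52cc68925b3472992292c50c860829c786bd59f374a3425ca8f1a8ab4ec458721ab370951a82a4cc050625a747293224a911a2428219f3708f1a3a70d9a3261d8f161c1ba1c283021a14604160c5021204400669d1b24c892a446890a0567cdaa3c68e9c3668c984688d9a261c1920c0828406080801628182) i1))) (nat_lit 0) (nat_lit 192) List.nil) : List (ℕ × ℕ))
    = ?xq9027 → (List (ℕ × ℕ))) ?hq9027; (case hq9027 => (set_option maxRecDepth 1000000 in conv => lhs; reduce)); intro _; exact ?xq9027 : List (ℕ × ℕ))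

/-- a letter -/
noncomputable def G8_11 : List (ℕ × ℕ) :=
  (by
  refine (?fq9028 : ((pk61l_v3 (fun i1 => (_root_.Prod.mk (pk61d_v3 (nat_lit 7) 
    (nat_lit 0xfffffffffffffffdfbf7efdf7efcf9efdfaf5e7cf8f1dfbf6dfbf7efdfbb76edbb35ead3a33e7cd7efdfbf7efdfbf7efdfbf7efdebd7af5ebd7af5ebb76eddb972e5cb76eddbb56ad5ab366cd9b162c58af5ebd7af5ebd7af5ebd7af5eb56ad5ab56ad5ab55ab56ad4a952a53a74e9d2a54a951a3468d0a14284f9f3e7cf9f3e7ce9d3a74e9b3664c972e54a93264488f1e3c78f1a3468b121c28301fbf7efdfbf7efdf3e7cf9f3d7af1e3b76e9d3972e1c376eddbb76cd9b3568cd93160bd7af5ebd7af5eb972e5cb96ad58b15ab54a94a950a13a74c7cf9e2e5cb0f1e3c78f1c3870d182c509101c386) i1) (pk61d_v3 (nat_lit 7) 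
    (nat_lit 0xf7ebbf3e59f1e2f7db9e6c7d72f4c9cf1f2c5c70f0c1cf973d7ab3e3c5af363cb931e2c3831e2c76ed478709bb364bd5aa4e8d15b8d0db335cad3238ad56a588d162486cd5a384c952282c54a180c1420a74a7cb951e1c26ecd91f366a9ce971a1b66678dcd8ad4ecc88d0e4b86ccdca84c8d4982c4cc880c0c4b949d1a23e6cd4b4c8cf1b4a7521c466d11a426501887093a3450d3234a911a24281dba2e4c9070609d9626181950a5021306481110240033647cd9a6678d9d386cd1930ad5274688f9b34ad3233c6d29d487119b446909940611a2466cd1b264898b141c1821618185080c101000c103) i1))) (nat_lit 0) (nat_lit 268) List.nil) : List (ℕ × ℕ))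
    = ?xq9028 → (List (ℕ × ℕ))) ?hq9028; (case hq9028 => (set_option maxRecDepth 1000000 in conv => lhs; reduce)); intro _; exact ?xq9028 : List (ℕ × ℕ))

/-- a letter -/
noncomputable def G8_12 : List (ℕ × ℕ) :=
  (by
  refine (?fq9029 : ((pk61l_v3 (fun i1 => (_root_.Prod.mk (pk61d_v3 (nat_lit 7) 
    (nat_lit 0xfffbf7dfbf3dfbf5e7c78efdfbf6eddbaf5ebd3a74e7cf9f2e5cb8f1e3c3870dfbf7eeddb76ecd9b35ebd5ab569d3a7468cf9b365cb931e3c587060bf7efdebd76edcb972ddbb56ad59b366c58af5ebd6ad5aad5ab52a54a74e9d2a54a8d1a3428509f3e7ce9d3a6cd9b3264c972e5ca952a4c993224488f1e3c68d162c489121c3850a14183060407ef9f3d7af1dbb74e5c386ed9b356ad19b364c58305eb972d5ab15ab54a54284e9d3a64c952a448911a3448912142850203e7cf9e3c78e9d3a70e1c366cd9a3468c993260c182e5cb962c58a952a50a14264c992244889122408101e3c78e1c3468c183058b142850912244080e183050a101830404000) i1) (pk61d_v3 (nat_lit 7) 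
    (nat_lit 0xfdfff7df9f7dfaf7e3cf8edbf777edbfaf4d9d76ece7cb573d7ab869d1c7869efdb7f7ddd36f5e9b396be7cb571e1a78e8cd9f365c9971e2c7830e0bf5eb5eaf76a5cab52dd2b54e959a342c51bf7ab5faf5ae55a976e55b54e95bb54ecd8a1668d09d1e34f9d1e6cc89362c4972a14b870a44181264419f3a3cf8d322cd9912543972a14991064c07cfdf3d78f5dba76e1cb86cddb3568d59b266c18b05cbd72d58b55aa56a14a84e7cf263e94e243a7119a446cd2132610194e98f273e7921d389521d446cd23446d0a03084c982c3c7172c3ca94185468c2648513162880910448092e587971c50695283090b264851120248880c1c30508141820600080) i1))) (nat_lit 0) (nat_lit 292) List.nil) : List (ℕ × ℕ))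
    = ?xq9029 → (List (ℕ × ℕ))) ?hq9029; (case hq9029 => (set_option maxRecDepth 1000000 in conv => lhs; reduce)); intro _; exact ?xq9029 : List (ℕ × ℕ))

/-- a letter -/
noncomputable def G8_13 : List (ℕ × ℕ) :=
  (by
  refine (?fq9030 : ((pk61l_v3 (fun i1 => (_root_.Prod.mk (pk61d_v3 (nat_lit 7) 
    (nat_lit 0xfffff7bf5ebbf7eddbb75ebd3a73e7cf972e3c7870dfbf7eeddbb6ecd7af5ead5ab4e8cf9f363c58afdfbd6ed5aaf5eb53a54a7cf9f3a74e9b325cb972a54a93223c78d1a3458b12243870e14283060407efdf3b74e9bb76cd9b356ad1a3366cd93262c58305ebd7ae5cb96ac56ad5aa54a94a84e9d3234488f9f3c6cd1a2e5cb162c54a94284c9932448891204078f1e3870e1a3058b162850a12203870c0c102) i1) (pk61d_v3 (nat_lit 7) 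
    (nat_lit 0xfffbffaf7ebbeeedbf775dbd3673d7ab96be3a7868edbf777edbfaf4e7cb573d7ab8f0cf9b3e2c78afdebf6addaaf5abd2a74a7ce8d3e3c68b12543852e54383027479f3a34d8b3224b950e5c293064407ef9fba76e9bae6cbd7355ad163356a992b62a58286cbd7376cbdab466c953356a98b04e993a24688f9e3e68d9a2e38b0f1c54694184c58a242c8892020b0f1c5cb0f2a50992144c58a22403860e08182) i1))) (nat_lit 0) (nat_lit 184) List.nil) : List (ℕ × ℕ))
    = ?xq9030 → (List (ℕ × ℕ))) ?hq9030; (case hq9030 => (set_option maxRecDepth 1000000 in conv => lhs; reduce)); intro _; exact ?xq9030 : List (ℕ × ℕ))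

/-- the simple module `128b` -/
noncomputable def G8 : List (List (ℕ × ℕ)) :=
  [G8_0, G8_1, G8_2, G8_3, G8_4, G8_5, G8_6, G8_7, G8_8, G8_9, G8_10, G8_11, G8_12, G8_13]

/-- a tree of words -/
noncomputable def p8 : List (ℕ × ℕ) :=
  (by
  refine (?fq9031 : ((pk61l_v3 (fun i1 => (_root_.Prod.mk (pk61d_v3 (nat_lit 5) 
    (nat_lit 0x6f7ad6739ce739c62f7bdef6b56b5ad6949ce5294a52946318c6108421083dee735ad6318c5ad6b5ad6a5294a4a528420e7398c6294a5294842108420c6318c63108421084210421084200000000000) i1) (pk61d_v3 (nat_lit 4) 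
    (nat_lit 0xb67673c915a987b1a0323c92832393cb915d7cb1a73cb6a2c971739736a73c165a3b52dc9871036273273c91873cb16a7c165a073cb16a2d73652473c165240) i1))) (nat_lit 0) (nat_lit 127) List.nil) : List (ℕ × ℕ))
    = ?xq9031 → (List (ℕ × ℕ))) ?hq9031; (case hq9031 => (set_option maxRecDepth 1000000 in set_option simprocs false in conv => lhs; reduce; dsimp only)); intro _; exact ?xq9031 : List (ℕ × ℕ))

/-- a tree of words -/
noncomputable def q8 : List (ℕ × ℕ) :=
  (by
  refine (?fq9032 : ((pk61l_v3 (fun i1 => (_root_.Prod.mk (pk61d_v3 (nat_lit 6) 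
    (nat_lit 0x35d34cf3c71c6eb6db6daeaaa99e59659659648e38e38e38617de79e79e79e75d71b6db6db6db6da6996586185d75d75545145145134924924923cf3ce38e38d34c30c28a28a28a2482082082081c71861861851041030c2082081040000000) i1) (pk61d_v3 (nat_lit 4) 
    (nat_lit 0x4babac28dcb92bbabb395d48bcb9152bab3c952d4bab3cb91524babacbab9a08cb16a09cb9a20ba0cba098928cb1ad09cb91a2098cb928bc98bac928bacb9a8) i1))) (nat_lit 0) (nat_lit 127) List.nil) : List (ℕ × ℕ))
    = ?xq9032 → (List (ℕ × ℕ))) ?hq9032; (case hq9032 => (set_option maxRecDepth 1000000 in conv => lhs; reduce)); intro _; exact ?xq9032 : List (ℕ × ℕ))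

end Cfsg.Agent.E82.M44
end

-- part: E82/M44/ChkC
section
/-!
# The pressure machine for `Sp₄(4)`: the checks of the tables of dimension 128 (helper79)
-/

set_option autoImplicit false
set_option maxRecDepth 100000
set_option Elab.async false

namespace Cfsg.Agent.E82.M44

open Cfsg.Agent.E82.Mach

private noncomputable def _root_.Cfsg.Agent.KO58904e0.k27.{ku0} : type_of% @List.all.{ku0} := @(fun x0 x1 x2 => @List.rec.{(ku0+1), ku0} @x0 @(fun x3 => (@x0 → @Bool) → @Bool) @(fun x3 => @Bool.true) @(fun x3 x4 x5 x6 => @Bool.rec.{1} @(fun x7 => @Bool) @Bool.false (@x5 @x6) (@x6 @x3)) @x1 @x2)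
private theorem _root_.Cfsg.Agent.KO58904e0.e27.{ku0} : @List.all.{ku0} = @_root_.Cfsg.Agent.KO58904e0.k27.{ku0} := by delta _root_.Cfsg.Agent.KO58904e0.k27; funext a0 a1 a2; refine (congrFun (_root_.Cfsg.Agent.KO58904e0.e9 (fun a1 a2 => @List.all.{ku0} a0 a1 a2) ?_ (fun c0 c1 => ?_) a1) a2 :) <;> (rfl')
private noncomputable def _root_.Cfsg.Agent.KO58904e0.k28.{ku0} : type_of% @List.append.{ku0} := @(fun x0 x1 x2 => @List.rec.{(ku0+1), ku0} @x0 @(fun x3 => (@List.{ku0} @x0) → @List.{ku0} @x0) @(fun x3 => @x3) @(fun x3 x4 x5 x6 => @x3 :: (@x5 @x6)) @x1 @x2)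
private theorem _root_.Cfsg.Agent.KO58904e0.e28.{ku0} : @List.append.{ku0} = @_root_.Cfsg.Agent.KO58904e0.k28.{ku0} := by delta _root_.Cfsg.Agent.KO58904e0.k28; funext a0 a1 a2; refine (congrFun (_root_.Cfsg.Agent.KO58904e0.e9 (fun a1 a2 => @List.append.{ku0} a0 a1 a2) ?_ (fun c0 c1 => ?_) a1) a2 :) <;> (rfl')
private noncomputable def _root_.Cfsg.Agent.KO58904e0.k29.{ku0} : type_of% @List.flatten.{ku0} := @(fun x0 x1 => @List.rec.{(ku0+1), ku0} (@List.{ku0} @x0) @(fun x2 => @List.{ku0} @x0) [] @(fun x2 x3 x4 => @Cfsg.Agent.KO58904e0.k28.{ku0} _ @x2 @x4) @x1)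
private theorem _root_.Cfsg.Agent.KO58904e0.e29.{ku0} : @List.flatten.{ku0} = @_root_.Cfsg.Agent.KO58904e0.k29.{ku0} := by delta _root_.Cfsg.Agent.KO58904e0.k29; rewrite [← Cfsg.Agent.KO58904e0.e28.{ku0}]; funext a0 a1; refine (_root_.Cfsg.Agent.KO58904e0.e9 (fun a1 => @List.flatten.{ku0} a0 a1) ?_ (fun c0 c1 => ?_) a1 :) <;> (rfl')
private noncomputable def _root_.Cfsg.Agent.KO58904e0.k30.{ku0, ku1} : type_of% @List.map.{ku0, ku1} := @(fun x0 x1 x2 x3 => @List.rec.{(ku1+1), ku0} @x0 @(fun x4 => @List.{ku1} @x1) [] @(fun x4 x5 x6 => (@x2 @x4) :: @x6) @x3)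
private theorem _root_.Cfsg.Agent.KO58904e0.e30.{ku0, ku1} : @List.map.{ku0, ku1} = @_root_.Cfsg.Agent.KO58904e0.k30.{ku0, ku1} := by delta _root_.Cfsg.Agent.KO58904e0.k30; funext a0 a1 a2 a3; refine (_root_.Cfsg.Agent.KO58904e0.e9 (fun a3 => @List.map.{ku0, ku1} a0 a1 a2 a3) ?_ (fun c0 c1 => ?_) a3 :) <;> (rfl')
private noncomputable def _root_.Cfsg.Agent.KO58904e0.k32.{ku0} : type_of% @List.get?Internal.{ku0} := @(fun x0 x1 x2 => @List.rec.{(ku0+1), ku0} @x0 @(fun x3 => ℕ → @Option.{ku0} @x0) @(fun x3 => @Option.none.{ku0} _) @(fun x3 x4 x5 x6 => @Nat.rec.{(ku0+1)} @(fun x7 => @Option.{ku0} @x0) (@Option.some.{ku0} _ @x3) @(fun x7 x8 => @x5 @x7) @x6) @x1 @x2)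
private theorem _root_.Cfsg.Agent.KO58904e0.e32.{ku0} : @List.get?Internal.{ku0} = @_root_.Cfsg.Agent.KO58904e0.k32.{ku0} := by delta _root_.Cfsg.Agent.KO58904e0.k32; funext a0 a1 a2; refine (congrFun (_root_.Cfsg.Agent.KO58904e0.e9 (fun a1 a2 => @List.get?Internal.{ku0} a0 a1 a2) ?_ (fun c0 c1 => ?_) a1) a2 :) <;> [(funext b0; (rfl')); (funext b0; (cases b0 with | @zero  => (rfl') | @succ b0_0 => (rfl')))]
private noncomputable def _root_.Cfsg.Agent.KO58904e0.k38 : type_of% @Bool.decEq := @(fun x0 x1 => @Bool.rec.{1} @(fun x2 => @Decidable (@Eq.{1} _ @x2 @x1)) (@Bool.rec.{1} @(fun x2 => @Decidable (@Eq.{1} _ @Bool.false @x2)) (@Decidable.isTrue _ (@rfl.{1} _ _)) (@Decidable.isFalse _ @(fun x2 => @Bool.noConfusion.{0} _ _ _ @x2)) @x1) (@Bool.rec.{1} @(fun x2 => @Decidable (@Eq.{1} _ @Bool.true @x2)) (@Decidable.isFalse _ @(fun x2 => @Bool.noConfusion.{0} _ _ _ @x2)) (@Decidable.isTrue _ (@rfl.{1} _ _)) @x1) @x0)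
private theorem _root_.Cfsg.Agent.KO58904e0.e38 : @Bool.decEq = @_root_.Cfsg.Agent.KO58904e0.k38 := by delta _root_.Cfsg.Agent.KO58904e0.k38; rfl'
private noncomputable def _root_.Cfsg.Agent.KO58904e0.oEq.{ku} (α : Sort ku) (a b : Nat) (f t : α) : α := @Decidable.rec (a = b) (fun _ => α) (fun _ => f) (fun _ => t) (Nat.decEq a b)
private noncomputable def _root_.Cfsg.Agent.KO58904e0.k41.{ku} (α : Sort ku) (a b : Nat) (f t : α) : α := @Bool.rec (fun _ => α) f t (Nat.beq a b)
private theorem _root_.Cfsg.Agent.KO58904e0.e41.{ku} : @_root_.Cfsg.Agent.KO58904e0.oEq.{ku} = @_root_.Cfsg.Agent.KO58904e0.k41.{ku} := funext fun α => funext fun a => funext fun b => funext fun f => funext fun t => by delta _root_.Cfsg.Agent.KO58904e0.oEq _root_.Cfsg.Agent.KO58904e0.k41; cases h : Nat.beq a b <;> cases Nat.decEq a b <;> rename_i g <;> first | rfl | exact absurd g (Nat.ne_of_beq_eq_false h) | exact absurd (Nat.eq_of_beq_eq_true h) g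
private noncomputable def _root_.Cfsg.Agent.KO58904e0.k42 : (by first | exact type_of% @Cfsg.Agent.E82.Mach.slt | exact Unit : Sort _) := by first | (refine @Subtype.val _ (fun g => @Cfsg.Agent.E82.Mach.slt = @g) (@Subtype.mk _ _ (@(fun x0 => @Nat.xor (@Nat.shiftLeft @x0 (nat_lit 64)) (@Nat.mod @x0 (nat_lit 2305843009213693951)))) ?_); rfl') | exact @Cfsg.Agent.E82.Mach.slt | exact ()
private theorem _root_.Cfsg.Agent.KO58904e0.e42 : (by first | exact @Cfsg.Agent.E82.Mach.slt = @_root_.Cfsg.Agent.KO58904e0.k42 | exact True : Prop) := by first | (delta _root_.Cfsg.Agent.KO58904e0.k42; exact @Subtype.property _ (fun g => @Cfsg.Agent.E82.Mach.slt = @g) _) | rfl | trivial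
private noncomputable def _root_.Cfsg.Agent.KO58904e0.k43 : (by first | exact type_of% @Cfsg.Agent.E82.Mach.actL | exact Unit : Sort _) := by first | (refine @Subtype.val _ (fun g => @Cfsg.Agent.E82.Mach.actL = @g) (@Subtype.mk _ _ (@(fun x0 x1 => @Cfsg.Agent.KO58904e0.k14 _ (@Cfsg.Agent.KO58904e0.k42 @x1) @(fun x2 => @List.rec.{1, 0} (ℕ × ℕ) @(fun x3 => ℕ) @x1 @(fun x3 x4 x5 => @Bool.rec.{1} @(fun x6 => ℕ) @x5 (@Nat.xor (@Nat.pow (nat_lit 2) (@Prod.snd.{0, 0} _ _ @x3)) @x5) (@Cfsg.Agent.KO58904e0.k17 @x2 (@Nat.add (nat_lit 64) (@Prod.fst.{0, 0} _ _ @x3)))) @x0))) ?_); rewrite [← Cfsg.Agent.KO58904e0.e17, ← Cfsg.Agent.KO58904e0.e42, ← Cfsg.Agent.KO58904e0.e14]; (try delta Cfsg.Agent.E82.Mach.actL); (try generalize @Cfsg.Agent.E82.Mach.force = g0); (try generalize @Cfsg.Agent.E82.Mach.slt = g1); (try generalize @Cfsg.Agent.E82.Mach.tb = g2); rfl') | exact @Cfsg.Agent.E82.Mach.actL | exact ()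
private theorem _root_.Cfsg.Agent.KO58904e0.e43 : (by first | exact @Cfsg.Agent.E82.Mach.actL = @_root_.Cfsg.Agent.KO58904e0.k43 | exact True : Prop) := by first | (delta _root_.Cfsg.Agent.KO58904e0.k43; exact @Subtype.property _ (fun g => @Cfsg.Agent.E82.Mach.actL = @g) _) | rfl | trivial
private noncomputable def _root_.Cfsg.Agent.KO58904e0.k44 : (by first | exact type_of% @Cfsg.Agent.E82.Mach.actJ | exact Unit : Sort _) := by first | (refine @Subtype.val _ (fun g => @Cfsg.Agent.E82.Mach.actJ = @g) (@Subtype.mk _ _ (@(fun x0 x1 x2 => @Option.rec.{1, 0} (@List.{0} (ℕ × ℕ)) @(fun x3 => ℕ) (nat_lit 0) @(fun x3 => @Cfsg.Agent.KO58904e0.k43 @x3 @x2) (@Cfsg.Agent.KO58904e0.k32.{0} _ @x0 @x1))) ?_); rewrite [← Cfsg.Agent.KO58904e0.e32.{0}, ← Cfsg.Agent.KO58904e0.e43]; (try delta Cfsg.Agent.E82.Mach.actJ); (try generalize @Cfsg.Agent.E82.Mach.actL = g0); rfl') | exact @Cfsg.Agent.E82.Mach.actJ | exact ()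
private theorem _root_.Cfsg.Agent.KO58904e0.e44 : (by first | exact @Cfsg.Agent.E82.Mach.actJ = @_root_.Cfsg.Agent.KO58904e0.k44 | exact True : Prop) := by first | (delta _root_.Cfsg.Agent.KO58904e0.k44; exact @Subtype.property _ (fun g => @Cfsg.Agent.E82.Mach.actJ = @g) _) | rfl | trivial
private noncomputable def _root_.Cfsg.Agent.KO58904e0.k45 : (by first | exact type_of% @Cfsg.Agent.E82.M44.actW | exact Unit : Sort _) := by first | (refine @Subtype.val _ (fun g => @Cfsg.Agent.E82.M44.actW = @g) (@Subtype.mk _ _ (@(fun x0 x1 x2 => @List.rec.{1, 0} ℕ @(fun x3 => ℕ) @x2 @(fun x3 x4 x5 => @Cfsg.Agent.KO58904e0.k14 _ @x5 (@Cfsg.Agent.KO58904e0.k44 @x0 @x3)) @x1)) ?_); rewrite [← Cfsg.Agent.KO58904e0.e44, ← Cfsg.Agent.KO58904e0.e14]; (try delta Cfsg.Agent.E82.M44.actW); (try generalize @Cfsg.Agent.E82.Mach.force = g0); (try generalize @Cfsg.Agent.E82.Mach.actJ = g1); rfl') | exact @Cfsg.Agent.E82.M44.actW | exact ()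
private theorem _root_.Cfsg.Agent.KO58904e0.e45 : (by first | exact @Cfsg.Agent.E82.M44.actW = @_root_.Cfsg.Agent.KO58904e0.k45 | exact True : Prop) := by first | (delta _root_.Cfsg.Agent.KO58904e0.k45; exact @Subtype.property _ (fun g => @Cfsg.Agent.E82.M44.actW = @g) _) | rfl | trivial
private noncomputable def _root_.Cfsg.Agent.KO58904e0.k46 : (by first | exact type_of% @Cfsg.Agent.E82.M44.Blk.S | exact Unit : Sort _) := by first | (refine @Subtype.val _ (fun g => @Cfsg.Agent.E82.M44.Blk.S = @g) (@Subtype.mk _ _ (@(fun x0 x1 => @Cfsg.Agent.KO58904e0.k29.{0} _ (@Cfsg.Agent.KO58904e0.k30.{0, 0} _ _ @(fun x2 => @x2 :: ((@Cfsg.Agent.KO58904e0.k28.{0} _ @x2 @x1) :: [])) (@Cfsg.Agent.E82.M44.Blk.Y @x0)))) ?_); rewrite [← Cfsg.Agent.KO58904e0.e28.{0}, ← Cfsg.Agent.KO58904e0.e30.{0, 0}, ← Cfsg.Agent.KO58904e0.e29.{0}]; rfl') | exact @Cfsg.Agent.E82.M44.Blk.S | exact ()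
private theorem _root_.Cfsg.Agent.KO58904e0.e46 : (by first | exact @Cfsg.Agent.E82.M44.Blk.S = @_root_.Cfsg.Agent.KO58904e0.k46 | exact True : Prop) := by first | (delta _root_.Cfsg.Agent.KO58904e0.k46; exact @Subtype.property _ (fun g => @Cfsg.Agent.E82.M44.Blk.S = @g) _) | rfl | trivial
private noncomputable def _root_.Cfsg.Agent.KO58904e0.k47.{ku0} : type_of% @List.length.{ku0} := @(fun x0 x1 => @List.rec.{1, ku0} @x0 @(fun x2 => ℕ) (nat_lit 0) @(fun x2 x3 x4 => @Nat.add @x4 (nat_lit 1)) @x1)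
private theorem _root_.Cfsg.Agent.KO58904e0.e47.{ku0} : @List.length.{ku0} = @_root_.Cfsg.Agent.KO58904e0.k47.{ku0} := by delta _root_.Cfsg.Agent.KO58904e0.k47; funext a0 a1; refine (_root_.Cfsg.Agent.KO58904e0.e9 (fun a1 => @List.length.{ku0} a0 a1) ?_ (fun c0 c1 => ?_) a1 :) <;> (rfl')
private noncomputable def _root_.Cfsg.Agent.KO58904e0.k48 : (by first | exact type_of% @Cfsg.Agent.E82.M44.Blk.veq | exact Unit : Sort _) := by first | (refine @Subtype.val _ (fun g => @Cfsg.Agent.E82.M44.Blk.veq = @g) (@Subtype.mk _ _ (@(fun x0 x1 x2 => @Cfsg.Agent.KO58904e0.k29.{0} _ (@Cfsg.Agent.KO58904e0.k30.{0, 0} _ _ @(fun x3 => @Cfsg.Agent.KO58904e0.k30.{0, 0} _ _ @(fun x4 => ((@Prod.fst.{0, 0} _ _ @x3) :: (@Option.rec.{1, 0} (@List.{0} ℕ) @(fun x5 => @List.{0} ℕ) [] @(fun x5 => @x5) (@Cfsg.Agent.KO58904e0.k32.{0} _ (@Cfsg.Agent.KO58904e0.k46 @x0 @x1) @x4)), @Cfsg.Agent.KO58904e0.k18 _ (@Cfsg.Agent.KO58904e0.k46 @x0 @x1) (@Nat.shiftRight @x2 (@Nat.mul (nat_lit 8)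 (@Nat.add (@Nat.mul (nat_lit 8) (@Prod.fst.{0, 0} _ _ @x3)) @x4))))) (@Cfsg.Agent.KO58904e0.k6 (@Cfsg.Agent.KO58904e0.k47.{0} _ (@Cfsg.Agent.KO58904e0.k46 @x0 @x1)) [])) (@Cfsg.Agent.E82.M44.Blk.gs @x0)))) ?_); rewrite [← Cfsg.Agent.KO58904e0.e47.{0}, ← Cfsg.Agent.KO58904e0.e6, ← Cfsg.Agent.KO58904e0.e18, ← Cfsg.Agent.KO58904e0.e46, ← Cfsg.Agent.KO58904e0.e32.{0}, ← Cfsg.Agent.KO58904e0.e30.{0, 0}, ← Cfsg.Agent.KO58904e0.e29.{0}]; (try delta Cfsg.Agent.E82.M44.Blk.veq); (try generalize @Cfsg.Agent.E82.M44.Blk.S = g0); (try generalize @Cfsg.Agent.E82.M44.sel = g1); rfl') | exact @Cfsg.Agent.E82.M44.Blk.veq | exact ()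
private theorem _root_.Cfsg.Agent.KO58904e0.e48 : (by first | exact @Cfsg.Agent.E82.M44.Blk.veq = @_root_.Cfsg.Agent.KO58904e0.k48 | exact True : Prop) := by first | (delta _root_.Cfsg.Agent.KO58904e0.k48; exact @Subtype.property _ (fun g => @Cfsg.Agent.E82.M44.Blk.veq = @g) _) | rfl | trivial
private noncomputable def _root_.Cfsg.Agent.KO58904e0.k49 : (by first | exact type_of% @Cfsg.Agent.E82.M44.actS | exact Unit : Sort _) := by first | (refine @Subtype.val _ (fun g => @Cfsg.Agent.E82.M44.actS = @g) (@Subtype.mk _ _ (@(fun x0 x1 x2 => @List.rec.{1, 0} (@List.{0} ℕ) @(fun x3 => ℕ) (nat_lit 0) @(fun x3 x4 x5 => @Nat.xor (@Cfsg.Agent.KO58904e0.k45 @x0 @x3 @x2) @x5) @x1)) ?_); rewrite [← Cfsg.Agent.KO58904e0.e45]; (try delta Cfsg.Agent.E82.M44.actS); (try generalize @Cfsg.Agent.E82.M44.actW = g0); rfl') | exact @Cfsg.Agent.E82.M44.actS | exact ()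
private theorem _root_.Cfsg.Agent.KO58904e0.e49 : (by first | exact @Cfsg.Agent.E82.M44.actS = @_root_.Cfsg.Agent.KO58904e0.k49 | exact True : Prop) := by first | (delta _root_.Cfsg.Agent.KO58904e0.k49; exact @Subtype.property _ (fun g => @Cfsg.Agent.E82.M44.actS = @g) _) | rfl | trivial
private noncomputable def _root_.Cfsg.Agent.KO58904e0.k50 : (by first | exact type_of% @Cfsg.Agent.E82.M44.vecOk | exact Unit : Sort _) := by first | (refine @Subtype.val _ (fun g => @Cfsg.Agent.E82.M44.vecOk = @g) (@Subtype.mk _ _ (@(fun x0 x1 x2 x3 x4 x5 x6 x7 => @Cfsg.Agent.KO58904e0.k14 _ (@Cfsg.Agent.KO58904e0.k45 @x3 @x4 (nat_lit 1)) @(fun x8 => @Bool.rec.{1} @(fun x9 => @Bool) @Bool.false (@Cfsg.Agent.KO58904e0.k27.{0} _ (@Cfsg.Agent.KO58904e0.k29.{0} _ (@Cfsg.Agent.KO58904e0.k30.{0, 0} _ _ @(fun x9 => @Cfsg.Agent.KO58904e0.k48 @x9 @x1 @x2) @x0)) @(fun x9 => @Nat.beq (@Cfsg.Agent.KO58904e0.k45 @x3 (@Prod.fst.{0, 0} _ _ @x9) @x8) (@Cfsg.Agent.KO58904e0.k49 @x3 (@Prod.snd.{0,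 0} _ _ @x9) @x8))) (@Bool.rec.{1} @(fun x9 => @Bool) @Bool.false (@Decidable.rec.{1} _ @(fun x9 => @Bool) @(fun x9 => @Bool.false) @(fun x9 => @Bool.true) (@Cfsg.Agent.KO58904e0.k38 (@Cfsg.Agent.KO58904e0.k17 (@Cfsg.Agent.KO58904e0.k45 @x3 @x1 @x8) (nat_lit 0)) @x7)) (@Bool.rec.{1} @(fun x9 => @Bool) @Bool.false (@Decidable.rec.{1} _ @(fun x9 => @Bool) @(fun x9 => @Bool.false) @(fun x9 => @Bool.true) (@Cfsg.Agent.KO58904e0.k38 (@Cfsg.Agent.KO58904e0.k17 @x8 (nat_lit 0)) @x6)) (@Nat.beq (@Cfsg.Agent.KO58904e0.k45 @x3 @x5 @x8) (nat_lit 1))))))) ?_); rewrite [← Cfsg.Agent.KO58904e0.e17, ← Cfsg.Agent.KO58904e0.e38, ← Cfsg.Agent.KO58904e0.e49, ← Cfsg.Agent.KO58904e0.e48, ← Cfsg.Agent.KO58904e0.e30.{0, 0}, ← Cfsg.Agent.KO58904e0.e29.{0}, ← Cfsg.Agent.KO58904e0.e27.{0}, ← Cfsg.Agent.KO58904e0.e45, ← Cfsg.Agent.KO58904e0.e14]; (try delta Cfsg.Agent.E82.M44.vecOk); (try generalize @Cfsg.Agent.E82.Mach.force = g0); (try generalize @Cfsg.Agent.E82.M44.actW = g1);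 (try generalize @Cfsg.Agent.E82.M44.Blk.veq = g2); (try generalize @Cfsg.Agent.E82.M44.actS = g3); (try generalize @Cfsg.Agent.E82.Mach.tb = g4); rfl') | exact @Cfsg.Agent.E82.M44.vecOk | exact ()
private theorem _root_.Cfsg.Agent.KO58904e0.e50 : (by first | exact @Cfsg.Agent.E82.M44.vecOk = @_root_.Cfsg.Agent.KO58904e0.k50 | exact True : Prop) := by first | (delta _root_.Cfsg.Agent.KO58904e0.k50; exact @Subtype.property _ (fun g => @Cfsg.Agent.E82.M44.vecOk = @g) _) | rfl | trivial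
private noncomputable def _root_.Cfsg.Agent.KO58904e0.k52.{ku0} : type_of% @List.beq.{ku0} := @(fun x0 x1 x2 x3 => @List.rec.{(ku0+1), ku0} @x0 @(fun x4 => (@List.{ku0} @x0) → @Bool) @(fun x4 => @List.rec.{1, ku0} @x0 @(fun x5 => @Bool) @Bool.true @(fun x5 x6 x7 => @Bool.false) @x4) @(fun x4 x5 x6 x7 => @List.rec.{1, ku0} @x0 @(fun x8 => @Bool) @Bool.false @(fun x8 x9 x10 => @Bool.rec.{1} @(fun x11 => @Bool) @Bool.false (@x6 @x9) (@BEq.beq.{ku0} _ @x1 @x4 @x8)) @x7) @x2 @x3)
private theorem _root_.Cfsg.Agent.KO58904e0.e52.{ku0} : @List.beq.{ku0} = @_root_.Cfsg.Agent.KO58904e0.k52.{ku0} := by delta _root_.Cfsg.Agent.KO58904e0.k52; funext a0 a1 a2 a3; refine (congrFun (_root_.Cfsg.Agent.KO58904e0.e9 (fun a2 a3 => @List.beq.{ku0} a0 a1 a2 a3) ?_ (fun c0 c1 => ?_) a2) a3 :) <;> [(funext b0; (cases b0 with | @nil  => (rfl') | @cons b0_0 b0_1 => (rfl'))); (funext b0; (cases b0 with | @nil  => (rfl') | @cons b0_0 b0_1 => (rfl')))]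
private noncomputable def _root_.Cfsg.Agent.KO58904e0.k53 : (by first | exact type_of% @Cfsg.Agent.E82.Mach.trG | exact Unit : Sort _) := by first | (refine @Subtype.val _ (fun g => @Cfsg.Agent.E82.Mach.trG = @g) (@Subtype.mk _ _ (@(fun x0 => @Cfsg.Agent.KO58904e0.k30.{0, 0} _ _ @(fun x1 => @Cfsg.Agent.KO58904e0.k30.{0, 0} _ _ (@Prod.swap.{0, 0} _ _) @x1) @x0)) ?_); rewrite [← Cfsg.Agent.KO58904e0.e30.{0, 0}]; rfl') | exact @Cfsg.Agent.E82.Mach.trG | exact ()
private theorem _root_.Cfsg.Agent.KO58904e0.e53 : (by first | exact @Cfsg.Agent.E82.Mach.trG = @_root_.Cfsg.Agent.KO58904e0.k53 | exact True : Prop) := by first | (delta _root_.Cfsg.Agent.KO58904e0.k53; exact @Subtype.property _ (fun g => @Cfsg.Agent.E82.Mach.trG = @g) _) | rfl | trivial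
private noncomputable def _root_.Cfsg.Agent.KO58904e0.k54 : (by first | exact type_of% @Cfsg.Agent.E82.Mach.wfL | exact Unit : Sort _) := by first | (refine @Subtype.val _ (fun g => @Cfsg.Agent.E82.Mach.wfL = @g) (@Subtype.mk _ _ (@(fun x0 x1 => @Cfsg.Agent.KO58904e0.k27.{0} _ @x1 @(fun x2 => @Bool.rec.{1} @(fun x3 => @Bool) @Bool.false (@Nat.ble (@Nat.succ (@Prod.snd.{0, 0} _ _ @x2)) @x0) (@Nat.ble (@Nat.succ (@Prod.fst.{0, 0} _ _ @x2)) @x0)))) ?_); rewrite [← Cfsg.Agent.KO58904e0.e27.{0}]; rfl') | exact @Cfsg.Agent.E82.Mach.wfL | exact ()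
private theorem _root_.Cfsg.Agent.KO58904e0.e54 : (by first | exact @Cfsg.Agent.E82.Mach.wfL = @_root_.Cfsg.Agent.KO58904e0.k54 | exact True : Prop) := by first | (delta _root_.Cfsg.Agent.KO58904e0.k54; exact @Subtype.property _ (fun g => @Cfsg.Agent.E82.Mach.wfL = @g) _) | rfl | trivial
private noncomputable def _root_.Cfsg.Agent.KO58904e0.k55 : (by first | exact type_of% @Cfsg.Agent.E82.M44.tbOk | exact Unit : Sort _) := by first | (refine @Subtype.val _ (fun g => @Cfsg.Agent.E82.M44.tbOk = @g) (@Subtype.mk _ _ (@(fun x0 x1 x2 x3 x4 => @Bool.rec.{1} @(fun x5 => @Bool) @Bool.false (@Bool.rec.{1} @(fun x5 => @Bool) (@Bool.rec.{1} @(fun x5 => @Bool) @Bool.false (@Cfsg.Agent.KO58904e0.k50 @x0 @x1 @x2 @x4 (@Cfsg.Agent.KO58904e0.k28.{0} _ @x1 @x1) @x1 @Bool.true @Bool.true) (@Bool.rec.{1} @(fun x5 => @Bool) @Bool.false (@Cfsg.Agent.KO58904e0.k50 @x0 @x1 @x2 @x4 @x1 (@Cfsg.Agent.KO58904e0.k28.{0} _ @x1 @x1) @Bool.false @Bool.true) (@Cfsg.Agent.KO58904e0.k50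 @x0 @x1 @x2 @x4 [] [] @Bool.true @Bool.false))) (@Cfsg.Agent.KO58904e0.k50 @x0 @x1 @x2 @x4 [] [] @Bool.true @Bool.true) (@Cfsg.Agent.KO58904e0.k52.{0} _ (@BEq.mk.{0} _ @(fun x5 x6 => @Cfsg.Agent.KO58904e0.k41.{1} @Bool @x5 @x6 @Bool.false @Bool.true)) @x1 [])) (@Bool.rec.{1} @(fun x5 => @Bool) @Bool.false (@Cfsg.Agent.KO58904e0.k27.{0} _ (@Cfsg.Agent.KO58904e0.k6 (nat_lit 8) []) @(fun x5 => @Nat.beq (@Cfsg.Agent.KO58904e0.k44 (@Cfsg.Agent.KO58904e0.k53 @x4) @x5 (nat_lit 1)) (nat_lit 1))) (@Bool.rec.{1} @(fun x5 => @Bool) @Bool.false (@Nat.beq (@Cfsg.Agent.KO58904e0.k47.{0} _ @x4) (nat_lit 14)) (@Bool.rec.{1} @(fun x5 => @Bool) @Bool.false (@Nat.ble (@Nat.succ (nat_lit 0)) @x3) (@Cfsg.Agent.KO58904e0.k27.{0} _ @x4 (@Cfsg.Agent.KO58904e0.k54 @x3))))))) ?_); rewrite [← Cfsg.Agent.KO58904e0.e54, ← Cfsg.Agent.KO58904e0.e47.{0}, ← Cfsg.Agent.KO58904e0.e53, ← Cfsg.Agent.KO58904e0.e44, ← Cfsg.Agent.KO58904e0.e6, ← Cfsg.Agent.KO58904e0.e27.{0}, ← Cfsg.Agent.KO58904e0.e41.{1},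 ← Cfsg.Agent.KO58904e0.e52.{0}, ← Cfsg.Agent.KO58904e0.e28.{0}, ← Cfsg.Agent.KO58904e0.e50]; (try delta Cfsg.Agent.E82.M44.tbOk Cfsg.Agent.E82.Mach.wfG); (try generalize @Cfsg.Agent.E82.M44.vecOk = g0); (try generalize @Cfsg.Agent.E82.Mach.actJ = g1); (try generalize @Cfsg.Agent.E82.Mach.trG = g2); (try generalize @Cfsg.Agent.E82.Mach.wfL = g3); rfl') | exact @Cfsg.Agent.E82.M44.tbOk | exact ()
private theorem _root_.Cfsg.Agent.KO58904e0.e55 : (by first | exact @Cfsg.Agent.E82.M44.tbOk = @_root_.Cfsg.Agent.KO58904e0.k55 | exact True : Prop) := by first | (delta _root_.Cfsg.Agent.KO58904e0.k55; exact @Subtype.property _ (fun g => @Cfsg.Agent.E82.M44.tbOk = @g) _) | rfl | trivial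
private noncomputable def _root_.Cfsg.Agent.KO58904e0.k56.{ku0} : type_of% @List.getD.{ku0} := @(fun x0 x1 x2 x3 => @Option.rec.{(ku0+1), ku0} @x0 @(fun x4 => @x0) @x3 @(fun x4 => @x4) (@Cfsg.Agent.KO58904e0.k32.{ku0} _ @x1 @x2))
private theorem _root_.Cfsg.Agent.KO58904e0.e56.{ku0} : @List.getD.{ku0} = @_root_.Cfsg.Agent.KO58904e0.k56.{ku0} := by delta _root_.Cfsg.Agent.KO58904e0.k56; rewrite [← Cfsg.Agent.KO58904e0.e32.{ku0}]; rfl'

theorem tb7 : tbOk bs (hs.getD 7 []) (Ms.getD 7 0) 128 G7 = true := by (first | (rewrite [Cfsg.Agent.KO58904e0.e55, Cfsg.Agent.KO58904e0.e56.{0}]; decide +kernel) | decide +kernel)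

theorem rel7_0 : relOk bs 128 G7 0 16 = true := by decide +kernel

theorem rel7_16 : relOk bs 128 G7 16 16 = true := by decide +kernel

theorem rel7_32 : relOk bs 128 G7 32 16 = true := by decide +kernel

theorem rel7_48 : relOk bs 128 G7 48 16 = true := by decide +kernel

theorem rel7 : Rel bs 128 G7 0 :=
  Rel.step rel7_0 (Rel.step rel7_16 (Rel.step rel7_32 (Rel.step rel7_48 (Rel.last (by decide)))))

theorem sp7 : spinOk 128 G7 p7 = true := by decide +kernel

theorem sq7 : spinOk 128 (trG G7) q7 = true := by decide +kernel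

theorem fx7 : fixOk C 128 G7 (rows.getD 7 []) = true := by decide +kernel

theorem tb8 : tbOk bs (hs.getD 8 []) (Ms.getD 8 0) 128 G8 = true := by (first | (rewrite [Cfsg.Agent.KO58904e0.e55, Cfsg.Agent.KO58904e0.e56.{0}]; decide +kernel) | decide +kernel)

theorem rel8_0 : relOk bs 128 G8 0 16 = true := by decide +kernel

theorem rel8_16 : relOk bs 128 G8 16 16 = true := by decide +kernel

theorem rel8_32 : relOk bs 128 G8 32 16 = true := by decide +kernel

theorem rel8_48 : relOk bs 128 G8 48 16 = true := by decide +kernel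

theorem rel8 : Rel bs 128 G8 0 :=
  Rel.step rel8_0 (Rel.step rel8_16 (Rel.step rel8_32 (Rel.step rel8_48 (Rel.last (by decide)))))

theorem sp8 : spinOk 128 G8 p8 = true := by decide +kernel

theorem sq8 : spinOk 128 (trG G8) q8 = true := by decide +kernel

theorem fx8 : fixOk C 128 G8 (rows.getD 8 []) = true := by decide +kernel

end Cfsg.Agent.E82.M44
end

-- part: E82/M44/St
section
/-!
# The pressure machine for `Sp₄(4)`: the simple module of dimension 256 (helper79)
-/

set_option autoImplicit false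
set_option maxRecDepth 100000

namespace Cfsg.Agent.E82.M44

open Cfsg.Agent.E82.Mach

/-- a letter -/
noncomputable def G9_0 : List (ℕ × ℕ) :=
  (by
  refine (?fq9033 : ((pk61l_v3 (fun i1 => (_root_.Prod.mk (pk61d_v3 (nat_lit 8) 
    (nat_lit 0xfffffefefdfdfcfcfbfbfbfbfbfafafafafaf9f9f9f9f9f8f8f7f7f7f7f7f7f7f7f6f6f5f5f4f4f3f3f2f2f2f2f2f1f1f1f1f1f0f0efeeedecebebebeaeaeae9e9e9e8e7e7e7e7e7e6e5e4e3e2e2e2e1e1e1e0dbdad9d7d7d2d1cbcac9c7c7c2c1bfbebdbcbbbbbbbababab9b9b9b8b7b7b7b7b7b6b5b4b3b2b2b2b1b1b1b0afaeadacabababaaaaaaa9a9a9a8a7a7a7a7a7a6a5a4a3a2a2a2a1a1a1a09b9a99979792918b8a89878782817b7a79777772716f6f6f6e6e6e6d6d6d6c6c6c6b6b6b6b6b6b6b6a6a6a6a6a6a6a69696969696969686868676767676767676767676766666665656564646463636362626262626262616161616161616060605f5f5f5e5e5e5d5d5d5c5c5c5b5b5b5b5b5b5b5a5a5a5a5a5a5a59595959595959585858575757575757575757575756565655555554545453535352525252525252515151515151515050504f4e4d4c4b4b4b4a4a4a49494948474747474746454443424242414141403f3e3d3c3b3b3b3a3a3a39393938373737373736353433323232313131302f2e2d2c2b2b2b2a2a2a29292928272727272726252423222222212121201b1a19171712110f0f0e0e0d0d0c0c0b0b0b0b0b0a0a0a0a0a0909090909080807070707070707070606050504040303020202020201010101010000)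 i1) (pk61d_v3 (nat_lit 8) 
    (nat_lit 0xdfcfdeceddcddcccfededbcecbfddddacdcafcdcd9ccc9d8c8fcf8dcd8d7ccc8c7d6c6d5c5d4c4d3c3f4d4d2c4c2f3d3d1c3c1d0c0cfcecdcceececbedcdcaecccc9c8ece8ccc8c7c6c5c4c3e4c4c2e3c3c1c0dedddcdcd8d4d3cecdccccc8c4c39f9e9d9cbe9e9bbd9d9abc9c9998bcb89c989796959493b49492b39391908f8e8d8cae8e8bad8d8aac8c8988aca88c888786858483a48482a38381809e9d9c9c9894938e8d8c8c8884837e7d7c7c787473bf9f4fbe9e4ebd9d4dbc9c4cbebb9e9b6e4e4bbdba9d9a6d4d4abcb99c996c4c49b89848bcb8b79c98976c684c4847b69646b59545b49444b39343b4b29492644442b3b19391634341b09040af8f3fae8e3ead8d3dac8c3caeab8e8b5e3e3badaa8d8a5d3d3aaca98c895c3c39a88838aca8a78c88875c583c3837a68636a58535a48434a38333a4a28482543432a3a18381533331a080309f9e9d9c9e9b4e9d9a4d9c994c989c98974c4896959493949244939143908f8e8d8c8e8b3e8d8a3d8c893c888c88873c3886858483848234838133807f7e7d7c7e7b2e7d7a2d7c792c787c78772c2876757473747224737123701e1d1c1c1814137f1f7e1e7d1d7c1c7e7b1e1b0e7d7a1d1a0d7c791c190c78187c78771c18170c087616751574147313747214120473711311037010)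 i1))) (nat_lit 0) (nat_lit 480) List.nil) : List (ℕ × ℕ))
    = ?xq9033 → (List (ℕ × ℕ))) ?hq9033; (case hq9033 => (set_option maxRecDepth 1000000 in conv => lhs; reduce)); intro _; exact ?xq9033 : List (ℕ × ℕ))

/-- a letter -/
noncomputable def G9_1 : List (ℕ × ℕ) :=
  let y0 : List (ℕ × ℕ) := (by
  refine (?fq9034 : (pk61l_v3 (fun i0 => (_root_.Prod.mk (pk61d_v3 (nat_lit 8) 
    (nat_lit 0xfffffefefdfdfcfcfbfbfbfbfbfafafafafafafafaf9f9f8f8f8f8f8f7f7f7f7f7f7f7f7f6f6f5f5f4f4f3f3f2f2f2f2f2f2f2f2f1f1f1f1f1f0f0ebeaeae8e7e7e2e2e1dfdedddcdbdbdbdadadadadad9d8d8d8d7d7d7d7d7d6d5d4d3d2d2d2d2d2d1d1d1d0cbcacac8c7c7c2c2c1bfbebdbcbbbbbbbababababab9b8b8b8b7b7b7b7b7b6b5b4b3b2b2b2b2b2b1b1b1b0afafaeaeadadacacabababababaaaaaaaaaaaaaaaaa9a9a8a8a8a8a8a7a7a7a7a7a7a7a7a6a6a5a5a4a4a3a3a2a2a2a2a2a2a2a2a1a1a1a1a1a0a09b9a9a9897979292918b8a8a8887878282817b7a7a7877777272716f6f6f6f6e6e6e6e6d6d6d6d6c6c6c6c6b6b6b6b6b6b6b6b6b6a6a6a6a6a6a6a6a6a6a6a6a6a6a696969696868686868686868686767676767676767676767676767666666666565656564646464636363636262626262626262626262626262616161616161616161606060605f5f5f5f)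 i0) (pk61d_v3 (nat_lit 8) 
    (nat_lit 0xefcfeeceedcdecccfdedebcdcbfefdeeedeacecdcae9c9fcece8ccc8fcf9ece9e7ccc9c7e6c6e5c5e4c4e3c3f4f3e4e3e2c4c3c2f4e4e1c4c1e0c0edeeedecece9e4e3e4cfcecdccddcdcbdeddcecdcac9dcccc8dcd9ccc9c7c6c5c4c3d4d3c4c3c2d4c4c1c0cdcecdccccc9c4c3c48f8e8d8cbd8d8bbebd8e8d8a89bc8c88bcb98c898786858483b4b3848382b48481809f8f9e8e9d8d9c8cad9d9b8d8baead9e9d9a8e8d8a9989ac9c988c88aca99c99978c89879686958594849383a4a3949392848382a49491848190809d9e9d9c9c999493948d8e8d8c8c898483847d7e7d7c7c79747374bfaf9f3fbeae9e3ebdad9d3dbcac9c3cbdbbadab9d9b6d3d3bbebdbaaeadaa9e9d9a6e6d3e3d3ab9a99939bcb8aca89c986c3c38bcb9b7aca9a79c99976c693c3937b6a69636b5a59535b4a49434b3a39333b4b3b2a4a3a29493926463343332b4b1a4a19491643431b0a09030bf8f4f3f) i0))) (nat_lit 0) (nat_lit 344) List.nil : List (ℕ × ℕ))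
    = ?xq9034 → (List (ℕ × ℕ))) ?hq9034; (case hq9034 => (set_option maxRecDepth 1000000 in conv => lhs; reduce)); intro _; exact ?xq9034 : List (ℕ × ℕ))
  (by
  refine (?fq9035 : (fun tl : List (ℕ × ℕ) => pk61l_v3 (fun i0 => (_root_.Prod.mk (pk61d_v3 (nat_lit 7) 
    (nat_lit 0x2f5ebd7aeddbb76e5cb972ddbb76eddbb76eddab56ad5ab56ad5ab56ad5ab566cd9b362c58b162c58b162bd7af5ebd7af5ebd7af5ebd7ad5ab56ab56ad5a952a54a74e9d3a54a952a54a952a54a952a54a8d1a3468d1a3468d0a14284f9f3a74d9b3264b972e5cb952a54a952a54a932644891224478f1e3c78f1e3c68d162c4890e1c2850a142850a14183060c18101fbe7af1dbb76e9d3a74e9cb870e1bb76eddbb66ad19b264c993262c58b05eb96ac56ad5aa54a952a52a14284e9d3a74e992a4468912244890a14280f9e3a70d9b3668d1a3468c983060b972e5cb962a50992244891222448901e3c78e1c3868d1a3060c162c58b162c58a142850a142850a1428489122040810204080e1c3870e1c3870e1c3860c182850a10204060c18204081020408102040808102040810200000) i0) (pk61d_v3 (nat_lit 8) 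
    (nat_lit 0xbe8e4e3ebd8d4d3dbc8c4c3cbdbb8d8b5d4d4b3d3bbebdba8e8d8a5e5d4e4d4a3e3d3ab9894939bcb88c885c4c483c38bcb9b78c89875c594c49473c3937b6864636b5854535b4844434b3834333b4b3b28483825453444342343332b4b184815444413431b08040309f8f9e8e9d8d9c8c9d9b8d8b4d9e9d9a8e8d8a4e4d99899c988c884c9c99978c89874c4996869585948493839493928483824443949184814490809f9e9d9c9d9b3d9e9d9a3e3d999c983c9c99973c39969594939493923433949134907f7e7d7c7d7b2d7e7d7a2e2d797c782c7c79772c29767574737473722423747124707f7e7d7c7d7b1d7e7d7a1e1d797c781c7c79771c19767574737473721413747114707f2f1f7e2e1e7d2d1d7c2c1c7d7b2d2b1d1b0d7e7d7a2e2d2a1e1d1a0e0d7929197c782c281c180c7c79772c29271c19170c09762616752515742414732313747372242322141312040374712421141104702010) i0))) (nat_lit 0) (nat_lit 350) tl)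
    = ?xq9035 → (List (ℕ × ℕ))) ?hq9035; (case hq9035 => (set_option maxRecDepth 1000000 in conv => lhs; reduce)); intro _; exact ?xq9035 y0 : List (ℕ × ℕ))

/-- a letter -/
noncomputable def G9_2 : List (ℕ × ℕ) :=
  (by
  refine (?fq9036 : ((pk61l_v3 (fun i1 => (_root_.Prod.mk (pk61d_v3 (nat_lit 8) 
    (nat_lit 0xfefcfcf9f8f6f5f4f4f4f3f3f3f2f0f0eeecece9e8e6e5e4e4e4e3e3e3e2e0e0dedcdcd9d8d6d5d4d4d4d3d3d3d2d0d0ceccccc9c8c6c5c4c4c4c3c3c3c2c0c0bfbebebebdbcbcbcbcbcbbbab9b9b9b8b8b8b7b6b6b6b5b5b5b4b4b4b4b4b4b4b3b3b3b3b3b3b3b2b2b2b1b0b0b0b0b0aeacaca9a8a6a5a4a4a4a3a3a3a2a0a09f9f9e9e9e9e9e9d9d9c9c9c9c9c9c9c9c9b9b9a9a99999999999898989898979796969696969595959595949494949494949494949493939393939393939393939292929292919190909090909090908f8e8e8e8d8c8c8c8c8c8b8a8989898888888786868685858584848484848484838383838383838282828180808080807f7f7e7e7e7e7e7d7d7c7c7c7c7c7c7c7c7b7b7a7a79797979797878787878777776767676767575757575747474747474747474747473737373737373737373737272727272717170707070707070706e6c6c696866656464646363636260605e5c5c595856555454545353535250504e4c4c494846454444444343434240403e3c3c393836353434343333333230302f2e2e2e2d2c2c2c2c2c2b2a2929292828282726262625252524242424242424232323232323232222222120202020201f1e1e1e1d1c1c1c1c1c1b1a1919191818181716161615151514141414141414131313131313131212121110101010100e0c0c09080605040404030303020000)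 i1) (pk61d_v3 (nat_lit 8) 
    (nat_lit 0xfffffdfbfafbfafbf9f6faf8f5f7f7f1efefedebeaebeaebe9e6eae8e5e7e7e1dfdfdddbdadbdadbd9d6dad8d5d7d7d1cfcfcdcbcacbcacbc9c6cac8c5c7c7c1fffffebffdfffdfcbfbdfbfafbf9bbfaf8baf7fbf6bbfaf5bafbf9f6f4bbb9b6faf8f5f3bab8b5f7f2b7f1f7f1f0b7b1afafadabaaabaaaba9a6aaa8a5a7a7a1efdfefeedfde9fedddefedecdfdddc9f9debdbeadaebe9dbd99beae8dad89ae7d7ebe6dbd69beae5dad59aebe9e6e4dbd9d6d49b9996eae8e5e3dad8d5d39a9895e7e2d7d297e1d1e7e1e0d7d1d09791dfdfde8fdddfdddc8f8ddbdadbd98bdad88ad7dbd68bdad58adbd9d6d48b8986dad8d5d38a8885d7d287d1d7d1d08781ffaffffeafae7ffdadfffdfcafadac7f7dfbabfaaafbf9aba97bfaf8aaa87af7a7fbf6aba67bfaf5aaa57afbf9f6f4aba9a6a47b7976faf8f5f3aaa8a5a37a7875f7f2a7a277f1a1f7f1f0a7a1a077716f6f6d6b6a6b6a6b69666a68656767615f5f5d5b5a5b5a5b59565a58555757514f4f4d4b4a4b4a4b49464a48454747413f3f3d3b3a3b3a3b39363a38353737316f6f6e2f6d6f6d6c2f2d6b6a6b692b6a682a676b662b6a652a6b6966642b29266a6865632a28256762276167616027215f5f5e1f5d5f5d5c1f1d5b5a5b591b5a581a575b561b5a551a5b5956541b19165a5855531a18155752175157515017110f0f0d0b0a0b0a0b09060a0805070701)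 i1))) (nat_lit 0) (nat_lit 512) List.nil) : List (ℕ × ℕ))
    = ?xq9036 → (List (ℕ × ℕ))) ?hq9036; (case hq9036 => (set_option maxRecDepth 1000000 in conv => lhs; reduce)); intro _; exact ?xq9036 : List (ℕ × ℕ))

/-- a letter -/
noncomputable def G9_3 : List (ℕ × ℕ) :=
  let y0 : List (ℕ × ℕ) := (by
  refine (?fq9037 : (pk61l_v3 (fun i0 => (_root_.Prod.mk (pk61d_v3 (nat_lit 8) 
    (nat_lit 0xfefdfcfcfcf9f8f8f6f6f5f4f4f4f4f3f3f3f3f2f1f0f0f0eeedececece9e8e8e6e6e5e4e4e4e4e3e3e3e3e2e1e0e0e0dedddcdcdcd9d8d8d6d6d5d4d4d4d4d3d3d3d3d2d1d0d0d0cecdccccccc9c8c8c6c6c5c4c4c4c4c3c3c3c3c2c1c0c0c0bfbebebebdbdbdbcbcbcbcbcbcbcbbbab9b9b9b8b8b8b8b8b7b6b6b6) i0) (pk61d_v3 (nat_lit 8) 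
    (nat_lit 0xfffffffefdfafbfafbfafbfbf9f8f5faf9f6f5f7f7f7f2f1efefefeeedeaebeaebeaebebe9e8e5eae9e6e5e7e7e7e2e1dfdfdfdedddadbdadbdadbdbd9d8d5dad9d6d5d7d7d7d2d1cfcfcfcecdcacbcacbcacbcbc9c8c5cac9c6c5c7c7c7c2c1fffffebffffdbffffefdfcbfbebdfbfafaf9bafbfaf8bbbaf7fbfaf6) i0))) (nat_lit 0) (nat_lit 124) List.nil : List (ℕ × ℕ))
    = ?xq9037 → (List (ℕ × ℕ))) ?hq9037; (case hq9037 => (set_option maxRecDepth 1000000 in conv => lhs; reduce)); intro _; exact ?xq9037 : List (ℕ × ℕ))
  let y1 : List (ℕ × ℕ) := (by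
  refine (?fq9038 : (fun tl : List (ℕ × ℕ) => pk61l_v3 (fun i0 => (_root_.Prod.mk (pk61d_v3 (nat_lit 8) 
    (nat_lit 0xb6b6b5b5b5b4b4b4b4b4b4b4b4b4b3b3b3b3b3b3b3b3b3b2b2b2b1b1b1b0b0b0b0b0b0b0afaeaeaeadadadacacacacacacacabaaa9a9a9a8a8a8a8a8a7a6a6a6a6a6a5a5a5a4a4a4a4a4a4a4a4a4a3a3a3a3a3a3a3a3a3a2a2a2a1a1a1a0a0a0a0a0a0a09f9e9e9e9d9d9d9c9c9c9c9c9c9c9b9a9999999898989898979696969696959595949494949494949494939393939393939393929292919191909090909090908f8f8e8e8e8e8e8d8d8d8d8d8c8c8c8c8c8c8c8c8c8c8c8b8b8a8a89898989898888888888888888878786868686868686868585858585848484848484848484848484848483838383838383838383838383838282828282818181818180808080808080808080807f7f7f7e7e7e7e7e7e7e7d7d7d7d7d7d7d7c7c7c7c7c7c7c7c7c7c7c7c7c7c7c7b7b7b7a7a7a7979797979797978787878787878787878787777777676767676767676767676757575757575757474747474) i0) (pk61d_v3 (nat_lit 8) 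
    (nat_lit 0xbbbafbf5bbfbf9f8f5f4bbb9b8b5faf9f6f5f3bab9b6b5f7f2b7f7f1b7f7f2f1f0b7b2b1fffffeaffffdaffffefdfcafaeadfbfafaf9aafbfaf8abaaf7fbfaf6abaafbf5abfbf9f8f5f4aba9a8a5faf9f6f5f3aaa9a6a5f7f2a7f7f1a7f7f2f1f0a7a2a1efefee9fefed9fefeeedec9f9e9debeaeae99aebeae89b9ae7ebeae69b9aebe59bebe9e8e5e49b999895eae9e6e5e39a999695e7e297e7e197e7e2e1e0979291efdfefeedfde8fefeddfdd8fefeeedecdfdedddc8f8e8debdbeadaeae9dad98aebeae8dbdad88b8ae7d7ebeae6dbdad68b8aebe5dbd58bebe9e8e5e4dbd9d8d5d48b898885eae9e6e5e3dad9d6d5d38a898685e7e2d7d287e7e1d7d187e7e2e1e0d7d2d1d0878281ffbfaffffebfbeafae7ffffdbfbdafad7ffffefdfcbfbebdbcafaeadac7f7e7dfbbbabfabaaafaf9bab9aaa97afbfaf8bbbab8abaaa87b7af7b7a7fbfaf6bbbab6abaaa67b7afbf5bbb5aba57bfbf9f8f5f4) i0))) (nat_lit 0) (nat_lit 350) tl)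
    = ?xq9038 → (List (ℕ × ℕ))) ?hq9038; (case hq9038 => (set_option maxRecDepth 1000000 in conv => lhs; reduce)); intro _; exact ?xq9038 y0 : List (ℕ × ℕ))
  (by
  refine (?fq9039 : (fun tl : List (ℕ × ℕ) => pk61l_v3 (fun i0 => (_root_.Prod.mk (pk61d_v3 (nat_lit 7) 
    (nat_lit 0x3a74e9d3a74e9d3a74e9d3a74e7cf9f3e7cf9f3e7cf9f3e7cf9f3e7cf9f2e5cb972e5cb8f1e3c78f1e3c3870e1c3870e1c3870e1c3870ddb766cd9a7468cd9b2e4c993263c78f1e2c383060bd76e5cb966c58ad5aad4a952a53a74e9d2a3428509d3664c99264488d1a2c48912243870e1c283020407cf5e3c78e5c386cd9ab468d1a3366cd9b262c18305eb972e5ab56ac58b162c58b15aa52a54a850a14284e993264c992a54a91224489122448911a3468d1a3468d1a244890a1428102040810203e7cf1e3c78f1d3a74e9d3870e1c3870e1c3870e1b3668d193264c993060c183060c182e5cb162c58b162c58a952a54a942850a142850a142850a14284c993264c993264c993264c992244891222448912240810204081020408101c3460c18244080c182840810203060c1820200000) i0) (pk61d_v3 (nat_lit 8) 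
    (nat_lit 0xbbb9b8b5b4aba9a8a5a47b797875faf9f6f5f3bab9b6b5b3aaa9a6a5a37a797675f7f2b7b2a7a277f7f1b7b1a7a177f7f2f1f0b7b2b1b0a7a2a1a07772716f6f6f6e6d6a6b6a6b6a6b6b6968656a69666567676762615f5f5f5e5d5a5b5a5b5a5b5b5958555a59565557575752514f4f4f4e4d4a4b4a4b4a4b4b4948454a49464547474742413f3f3f3e3d3a3b3a3b3a3b3b3938353a39363537373732315f5f5e2f5f5d2f5f5e5d5c2f2e2d5b5a5a592a5b5a582b2a575b5a562b2a5b552b5b595855542b2928255a595655532a292625575227575127575251502722216f5f6f6e5f5e1f6f6d5f5d1f6f6e6d6c5f5e5d5c1f1e1d6b5b6a5a6a695a591a6b6a685b5a581b1a67576b6a665b5a561b1a6b655b551b6b696865645b595855541b1918156a696665635a595655531a1916156762575217676157511767626160575251501712110f0f0f0e0d0a0b0a0b0a0b0b0908050a0906050707070201) i0))) (nat_lit 0) (nat_lit 350) tl)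
    = ?xq9039 → (List (ℕ × ℕ))) ?hq9039; (case hq9039 => (set_option maxRecDepth 1000000 in conv => lhs; reduce)); intro _; exact ?xq9039 y1 : List (ℕ × ℕ))

/-- a letter -/
noncomputable def G9_4 : List (ℕ × ℕ) :=
  let y0 : List (ℕ × ℕ) := (by
  refine (?fq9040 : (pk61l_v3 (fun i0 => (_root_.Prod.mk (pk61d_v3 (nat_lit 8) 
    (nat_lit 0xf6f4f4f3f2f2f1f0f0e6e4e4e3e2e2e1e0e0d6d4d4d3d2d2d1d0d0c6c4c4c3c2c2c1c0c0bfbebdbcbbbab9b8b7b6b6b6b5b4b4b4b4b4b3b3b3b2b2b2b2b2b1b1b1b0b0b0b0b0afaeadacabaaa9a8a7a6a6a6a5a4a4a4a4a4a3a3a3a2a2a2a2a2a1a1a1a0a0a0a0a09f9e9d9c9b9a999897969696959494949494939393929292929291919190909090908684848382828180807f7f7e7e7d7d7c7c7b7b7a7a79797878777776767676767575747474747474747473737373737272727272727272717171717170707070707070706f6e6d6c6b6a696867666666656464646464636363626262626261616160606060605654545352525150504f4f4e4e4d4d4c4c4b4b4a4a4949484847474646) i0) (pk61d_v3 (nat_lit 8) 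
    (nat_lit 0xfffefdfdfbfafafff5efeeededebeaeaefe5dfdedddddbdadadfd5cfcecdcdcbcacacfc5efeeedecebeae9e8e7efe6bfe5eeede4bebdede3bdebeae2bbbaeae1baefe5e0bfb5dfdedddcdbdad9d8d7dfd6afd5deddd4aeadddd3addbdad2abaadad1aadfd5d0afa5cfcecdcccbcac9c8c7cfc69fc5cecdc49e9dcdc39dcbcac29b9acac19acfc5c09f958f8e8d8d8b8a8a8f85cf8fce8ecd8dcc8ccb8bca8ac989c888c787cfc68f867fc585cecdc48e8d847e7dcdc38d837dcbcac28b8a827b7acac18a817acfc5c08f85807f75fffefdfcfbfaf9f8f7fff66ff5fefdf46e6dfdf36dfbfaf26b6afaf16afff5f06f655f5e5d5d5b5a5a5f55efdfeedeedddecdcebdbeadae9d9e8d8e7d7efe6) i0))) (nat_lit 0) (nat_lit 269) List.nil : List (ℕ × ℕ))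
    = ?xq9040 → (List (ℕ × ℕ))) ?hq9040; (case hq9040 => (set_option maxRecDepth 1000000 in conv => lhs; reduce)); intro _; exact ?xq9040 : List (ℕ × ℕ))
  (by
  refine (?fq9041 : (fun tl : List (ℕ × ℕ) => pk61l_v3 (fun i0 => (_root_.Prod.mk (pk61d_v3 (nat_lit 7) 
    (nat_lit 0x23468d162c489122448912243870e1c3850a142850a14283060c18302040810204080fdf3d78edd3970ddb366cd5a3468d1a3366cd93264c993162c583060c182f5ebd7af5cb972e5cb56ad5ab562c58b162b56ad5ab54a952a54a54a952a542850a14274e9d3a74c993264c993264c993254a952a54891224489122448912244891224488d1a3468d1a3468d1a3448912244891224489122448912244850a142850a142850a14081020408102040810204081020407cf9f3c78f1d3a74e1c386cd9b3468d193264c18305cb972c58b162c58b152a54a142850a142850a14284c993264c9932448912244891224489112244891224481020408102040810203c78e1c3468c182c58a1424488101c3860c183060a1420408102040810183060c18204081020408101020408100000000000000) i0) (pk61d_v3 (nat_lit 8) 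
    (nat_lit 0xdfd64fe5d5eeede4deddd44e4dede3ddd34debeae2dbdad24b4aeae1dad14aefe5e0dfd5d04f45dfdedddcdbdad9d8d7dfd63fd5deddd43e3dddd33ddbdad23b3adad13adfd5d03f35efdfbfaf4feedebeae4eedddbdad4decdcbcac4cebdbbbab4beadabaaa4ae9d9b9a949e8d8b8a848e7d7b7a747efe6dfd6bfb6afa64f462fe5d5b5a545eeede4deddd4bebdb4aeada44e4d442e2dede3ddd3bdb3ada34d432debeae2dbdad2bbbab2abaaa24b4a422b2aeae1dad1bab1aaa14a412aefe5e0dfd5d0bfb5b0afa5a04f45402f25dfaf3fdeae3eddad3ddcac3cdbab3bdaaa3ad9a939d8a838d7a737dfd6afa63f361fd5a535deddd4aeada43e3d341e1dddd3ada33d331ddbdad2abaaa23b3a321b1adad1aaa13a311adfd5d0afa5a03f35301f15ff5ffe5efd5dfc5cfb5bfa5af959f858f757fff65f560ff555fefdf45e5d540e0dfdf35d530dfbfaf25b5a520b0afaf15a510afff5f05f55500f05) i0))) (nat_lit 0) (nat_lit 350) tl)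
    = ?xq9041 → (List (ℕ × ℕ))) ?hq9041; (case hq9041 => (set_option maxRecDepth 1000000 in conv => lhs; reduce)); intro _; exact ?xq9041 y0 : List (ℕ × ℕ))

/-- a letter -/
noncomputable def G9_5 : List (ℕ × ℕ) :=
  let y0 : List (ℕ × ℕ) := (by
  refine (?fq9042 : (pk61l_v3 (fun i0 => (_root_.Prod.mk (pk61d_v3 (nat_lit 8) 
    (nat_lit 0xf5f4f3f2f1f0f0e5e4e3e2e1e0e0d5d4d3d2d1d0d0c5c4c3c2c1c0c0bfbfbebebdbdbcbcbbbbbabab9b9b8b8b7b7b6b6b5b5b5b5b5b4b4b4b4b4b3b3b3b3b3b2b2b2b2b2b1b1b1b1b1b0b0b0b0b0b0b0b0afaeadacabaaa9a8a7a6a5a5a5a4a4a4a3a3a3a2a2a2a1a1a1a0a0a0a0a09f9e9d9c9b9a9998979695959594949493939392929291919190909090908f8e8d8c8b8a8988878685858584848483838382828281818180808080807f7f7f7e7e7e7d7d7d7c7c7c7b7b7b7a7a7a797979787878777777767676757575757575757474747474747473737373737373727272727272727171717171717170707070707070707070706f6e6d6c6b6a6968676665656564646463636362626261616160606060605f5e5d5c5b5a5958575655555554545453535352525251515150505050504f4e4d4c4b4a494847464545454444444343434242424141414040404040)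 i0) (pk61d_v3 (nat_lit 8) 
    (nat_lit 0xfffdfefafbfff6efedeeeaebefe6dfdddedadbdfd6cfcdcecacbcfc6efdfeedeedddecdcebdbeadae9d9e8d8e7d7e6d6efe5dfd5bfede4ddd4bdeee3ded3beeae2dad2baebe1dbd1bbefe6e0dfd6d0bfb6efeeedecebeae9e8e7e6efe5afede4adeee3aeeae2aaebe1abefe6e0afa6cfcecdcccbcac9c8c7c6cfc59fcdc49dcec39ecac29acbc19bcfc6c09f96cfcecdcccbcac9c8c7c6cfc58fcdc48dcec38ecac28acbc18bcfc6c08f86cf9f8fce9e8ecd9d8dcc9c8ccb9b8bca9a8ac99989c89888c79787c69686cfc59f958f857fcdc49d948d847dcec39e938e837ecac29a928a827acbc19b918b817bcfc6c09f96908f86807f76fffefdfcfbfaf9f8f7f6fff56ffdf46dfef36efaf26afbf16bfff6f06f66fffefdfcfbfaf9f8f7f6fff55ffdf45dfef35efaf25afbf15bfff6f05f56efeeedecebeae9e8e7e6efe54fede44deee34eeae24aebe14befe6e04f46) i0))) (nat_lit 0) (nat_lit 337) List.nil : List (ℕ × ℕ))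
    = ?xq9042 → (List (ℕ × ℕ))) ?hq9042; (case hq9042 => (set_option maxRecDepth 1000000 in conv => lhs; reduce)); intro _; exact ?xq9042 : List (ℕ × ℕ))
  (by
  refine (?fq9043 : (fun tl : List (ℕ × ℕ) => pk61l_v3 (fun i0 => (_root_.Prod.mk (pk61d_v3 (nat_lit 6) 
    (nat_lit 0xffffbef7df3cefbebae79e38df7db6d75d75d74d34d34cf3cf3cf2cb2cb2c71c71c70c30c30c30c2fbefbeebaebadb6db6cb2cb2baebaeaaaaaa9a69a68a28a279e79e69a69a59659659659659249249249249238e38e38e38e38a28a28a28a28a18618618618618208208208208208208207df7df7de79e79e75d75d75c71c71c6db6db6da69a69a6596596586186185d75d75d65965965555555555555555545145145145145144d34d34d34d34d34d24924924924924924514514514514514504104104104104104104104103cf3ce38e34d34c30c2cb2ca28a2492482081c71c61861451451451441041041040c30c30c30c2082082082041041041040000000000000000) i0) (pk61d_v3 (nat_lit 8) 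
    (nat_lit 0xefdfeedeedddecdcebdbeadae9d9e8d8e7d7e6d6efe5dfd53fede4ddd43deee3ded33eeae2dad23aebe1dbd13befe6e0dfd6d03f36efdfbf3feedebe3eedddbd3decdcbc3cebdbbb3beadaba3ae9d9b939e8d8b838e7d7b737e6d6b636efe5dfd5bfb53f352fede4ddd4bdb43d342deee3ded3beb33e332eeae2dad2bab23a322aebe1dbd1bbb13b312befe6e0dfd6d0bfb6b03f36302f26dfbfaf4f3fdebeae4e3eddbdad4d3ddcbcac4c3cdbbbab4b3bdabaaa4a3ad9b9a94939d8b8a84838d7b7a74737d6b6a64636dfd5bfb5afa54f453f351fddd4bdb4ada44d443d341dded3beb3aea34e433e331edad2bab2aaa24a423a321adbd1bbb1aba14b413b311bdfd6d0bfb6b0afa6a04f46403f36301f16ff6f5ffe6e5efd6d5dfc6c5cfb6b5bfa6a5af96959f86858f76757f66656fff56f655f550ffdf46d645d540dfef36e635e530efaf26a625a520afbf16b615b510bfff6f06f66605f56500f06) i0))) (nat_lit 0) (nat_lit 350) tl)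
    = ?xq9043 → (List (ℕ × ℕ))) ?hq9043; (case hq9043 => (set_option maxRecDepth 1000000 in conv => lhs; reduce)); intro _; exact ?xq9043 y0 : List (ℕ × ℕ))

/-- a letter -/
noncomputable def G9_6 : List (ℕ × ℕ) :=
  (by
  refine (?fq9044 : ((pk61l_v3 (fun i1 => (_root_.Prod.mk (pk61d_v3 (nat_lit 8) 
    (nat_lit 0xfbf9f9f8f7f7f6f5f4f2f2f2f2f1f1f1f0f0ebe9e9e8e7e7e6e5e4e2e2e2e2e1e1e1e0e0dbd9d9d8d7d7d6d5d4d2d2d2d2d1d1d1d0d0cbc9c9c8c7c7c6c5c4c2c2c2c2c1c1c1c0c0bbb9b9b8b7b7b6b5b4b2b2b2b2b1b1b1b0b0aba9a9a8a7a7a6a5a4a2a2a2a2a1a1a1a0a09b99999897979695949292929291919190908b89898887878685848282828281818180807b79797877777675747272727271717170706f6e6d6c6b6b6b6a69696969696868686767676767666666656565646464636262626262626262626161616161616160606060605f5e5d5c5b5b5b5a59595959595858585757575757565656555555545454535252525252525252525151515151515150505050504f4e4d4c4b4b4b4a49494949494848484747474747464646454545444444434242424242424242424141414141414140404040403b39393837373635343232323231313130302f2f2e2e2d2d2c2c2b2b2b2b2b2a2a29292929292929292828282828272727272727272726262626262525252525242424242423232222222222222222222222222222212121212121212121212120202020202020201f1e1d1c1b1b1b1a19191919191818181717171717161616151515141414131212121212121212121111111111111110101010100f0f0e0e0d0d0c0c0b0b0b0b0b0a0a0909090909090909080808080807070707070707070606060606050505050504040404040303020202020202020202020202020201010101010101010101010000000000000000)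 i1) (pk61d_v3 (nat_lit 8) 
    (nat_lit 0xfffefdfdfffafefdfcfef9f8f6fdf8f5fcf3efeeededefeaeeedeceee9e8e6ede8e5ece3dfdedddddfdadedddcded9d8d6ddd8d5dcd3cfcecdcdcfcacecdcccec9c8c6cdc8c5ccc3bfbebdbdbfbabebdbcbeb9b8b6bdb8b5bcb3afaeadadafaaaeadacaea9a8a6ada8a5aca39f9e9d9d9f9a9e9d9c9e9998969d98959c938f8e8d8d8f8a8e8d8c8e8988868d88858c837f7e7d7d7f7a7e7d7c7e7978767d78757c73efeeedecefeb6feaeeede96e6dede86defeae76f6aeee66eede56dece46ce3eee9e8e6e26e696866ede8e5e16d6865ece3e06c63dfdedddcdfdb5fdadeddd95e5dddd85ddfdad75f5aded65eddd55ddcd45cd3ded9d8d6d25e595856ddd8d5d15d5855dcd3d05c53cfcecdcccfcb4fcacecdc94e4dcdc84dcfcac74f4acec64ecdc54dccc44cc3cec9c8c6c24e494846cdc8c5c14d4845ccc3c04c433f3e3d3d3f3a3e3d3c3e3938363d38353c339f8f9e8e9d8d9c8c9f9b8f8b2f9a8a9e9d998e8d892e2d9d988d882d9f9a978f8a872f2a9e968e862e9d958d852d9c948c842c93839e999896928e898886822e2928269d9895918d8885812d28259c93908c83802c238f8e8d8c8f8b1f8a8e8d891e1d8d881d8f8a871f1a8e861e8d851d8c841c838e898886821e1918168d8885811d18158c83801c13cf3fce3ecd3dcc3ccfcb3f3b0fca3acecdc93e3d390e0dcdc83d380dcfcac73f3a370f0acec63e360ecdc53d350dccc43c340cc333cec9c8c6c23e393836320e090806cdc8c5c13d3835310d0805ccc3c03c33300c03)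 i1))) (nat_lit 0) (nat_lit 560) List.nil) : List (ℕ × ℕ))
    = ?xq9044 → (List (ℕ × ℕ))) ?hq9044; (case hq9044 => (set_option maxRecDepth 1000000 in conv => lhs; reduce)); intro _; exact ?xq9044 : List (ℕ × ℕ))

/-- a letter -/
noncomputable def G9_7 : List (ℕ × ℕ) :=
  let y0 : List (ℕ × ℕ) := (by
  refine (?fq9045 : (pk61l_v3 (fun i0 => (_root_.Prod.mk (pk61d_v3 (nat_lit 8) 
    (nat_lit 0xfbfaf9f8f8f7f7f7f6f6f5f4f3f2f2f2f1f1f1f1f1f0f0f0ebeae9e8e8e7e7e7e6e6e5e4e3e2e2e2e1e1e1e1e1e0e0e0dbdad9d8d8d7d7d7d6d6d5d4d3d2d2d2d1d1d1d1d1d0d0d0cbcac9c8c8c7c7c7c6c6c5c4c3c2c2c2c1c1c1c1c1c0c0c0bbbab9b8b8b7b7b7b6b6b5b4b3b2b2b2b1b1b1b1b1b0b0b0abaaa9a8) i0) (pk61d_v3 (nat_lit 8) 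
    (nat_lit 0xfffffefefdfffbfafefdfefcfcfef9f5fdf9f8f6f5fcf4f3efefeeeeedefebeaeeedeeececeee9e5ede9e8e6e5ece4e3dfdfdededddfdbdadedddedcdcded9d5ddd9d8d6d5dcd4d3cfcfcececdcfcbcacecdcecccccec9c5cdc9c8c6c5ccc4c3bfbfbebebdbfbbbabebdbebcbcbeb9b5bdb9b8b6b5bcb4b3afafaeae) i0))) (nat_lit 0) (nat_lit 124) List.nil : List (ℕ × ℕ))
    = ?xq9045 → (List (ℕ × ℕ))) ?hq9045; (case hq9045 => (set_option maxRecDepth 1000000 in conv => lhs; reduce)); intro _; exact ?xq9045 : List (ℕ × ℕ))
  let y1 : List (ℕ × ℕ) := (by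
  refine (?fq9046 : (fun tl : List (ℕ × ℕ) => pk61l_v3 (fun i0 => (_root_.Prod.mk (pk61d_v3 (nat_lit 8) 
    (nat_lit 0xa8a7a7a7a6a6a5a4a3a2a2a2a1a1a1a1a1a0a0a09b9a999898979797969695949392929291919191919090908b8a898888878787868685848382828281818181818080807b7a797878777777767675747372727271717171717070706f6f6e6e6d6d6c6c6b6b6b6b6b6a6a6a6a6a69696969696868686868686868676767676767676767676766666666666666666565656565646464646463636363636262626262626262626262616161616161616161616161616161616160606060606060606060605f5e5d5c5b5b5b5a5a5a5959595858585858575757575757575656565656555555545454535353525252525252525151515151515151515151505050505050504f4e4d4c4b4b4b4a4a4a4949494848484848474747474747474646464646454545444444434343424242424242424141414141414141414141404040404040403f3e3d3c3b3b3b3a3a3a39393938383838383737373737373736) i0) (pk61d_v3 (nat_lit 8) 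
    (nat_lit 0xadafabaaaeadaeacacaea9a5ada9a8a6a5aca4a39f9f9e9e9d9f9b9a9e9d9e9c9c9e99959d999896959c94938f8f8e8e8d8f8b8a8e8d8e8c8c8e89858d898886858c84837f7f7e7e7d7f7b7a7e7d7e7c7c7e79757d797876757c7473efdfeedeedddecdcefebdfdb6fefeadfda6feee9ded96eeeede8deddd86e6defebeae7dfdbdad76f6b6aeeede6deddd66e6deee5ded56eece4dcd46cece3dcd36ceee9e5e2ded9d5d26e6965ede9e8e6e5e1ddd9d8d6d5d16d69686665ece4e3e0dcd4d3d06c6463efeeedecefeb5fefea5feee95eeeede85e5defebeae75f5b5aeeede65e5deee55eece45cece35ceee9e5e25e5955ede9e8e6e5e15d59585655ece4e3e05c5453cfcecdcccfcb4fcfca4fcec94ececdc84e4dcfcbcac74f4b4acecdc64e4dcec54eccc44cccc34ccec9c5c24e4945cdc9c8c6c5c14d49484645ccc4c3c04c4443cfcecdcccfcb3fcfca3fcec93ececdc83e3dcfcbcac73f3b3ace) i0))) (nat_lit 0) (nat_lit 350) tl)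
    = ?xq9046 → (List (ℕ × ℕ))) ?hq9046; (case hq9046 => (set_option maxRecDepth 1000000 in conv => lhs; reduce)); intro _; exact ?xq9046 y0 : List (ℕ × ℕ))
  (by
  refine (?fq9047 : (fun tl : List (ℕ × ℕ) => pk61l_v3 (fun i0 => (_root_.Prod.mk (pk61d_v3 (nat_lit 6) 
    (nat_lit 0xdb6db6d75d74d34cf3cf2cb2cb2cb2c71c71c71c71c71c70c30c30c30beeb6caebaeaaaaa69a68a28a289e79e79e79e69a69a69659649248e38e28a28a28a28618618618618618608208208207df79e75d71c6db6db6da69a69a6596596586186186186175d75d75d75d75d75965965965965555555545145144d34d34d24924924924924924514514514514514514514514504104104104104103cf3ce38e34d34c30c2cb2cb2cb2ca28a28a28a2492492492482082082082082081c71c71c71c71c71c71c71c61861861861861861451451451441041041040c30c30c30c2082082082082082082082041041041041041041041041041041041040000000000000000000000) i0) (pk61d_v3 (nat_lit 8) 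
    (nat_lit 0xcdc63e3dcec53eccc43cccc33ccec9c5c23e3935cdc9c8c6c5c13d39383635ccc4c3c03c34339f9e9d9c9f9b2f9f9a2f9e992e9e9d982e2d9f9b9a972f2b2a9e9d962e2d9e952e9c942c9c932c9e9995922e29259d99989695912d292826259c9493902c24239f8f9e8e9d8d9c8c9f9b8f8b1f9f9a8f8a1f9e998e891e9e9d988e8d881e1d9f9b9a978f8b8a871f1b1a9e9d968e8d861e1d9e958e851e9c948c841c9c938c831c9e9995928e8985821e19159d99989695918d89888685811d191816159c9493908c8483801c1413cf4f3fce4e3ecd4d3dcc4c3ccfcb4f4b3f3b0fcfca4f4a3f3a0fcec94e493e390ececdc84e4d483e3d380e0dcfcbcac74f4b4a473f3b3a370f0b0acecdc64e4d463e3d360e0dcec54e453e350eccc44c443c340cccc34c433c330ccec9c5c24e4945423e3935320e0905cdc9c8c6c5c14d49484645413d39383635310d09080605ccc4c3c04c4443403c3433300c0403) i0))) (nat_lit 0) (nat_lit 350) tl)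
    = ?xq9047 → (List (ℕ × ℕ))) ?hq9047; (case hq9047 => (set_option maxRecDepth 1000000 in conv => lhs; reduce)); intro _; exact ?xq9047 y1 : List (ℕ × ℕ))

/-- a letter -/
noncomputable def G9_8 : List (ℕ × ℕ) :=
  (by
  refine (?fq9048 : ((pk61l_v3 (fun i1 => (_root_.Prod.mk (pk61d_v3 (nat_lit 8) 
    (nat_lit 0xfefdfcfcf9f4f3efeeeeeeedededecececececebeae9e9e9e8e7e6e5e4e4e4e3e3e3e2e1e0dedddcdcd9d4d3cfcfcecececececdcdcdcdcdcccccccccccccccccbcbcacac9c9c9c9c9c8c8c7c7c6c6c5c5c4c4c4c4c4c3c3c3c3c3c2c2c1c1c0c0bfbebebebdbdbdbcbcbcbcbcbbbab9b9b9b8b7b6b5b4b4b4b3b3b3b2b1b0afaeaeaeadadadacacacacacabaaa9a9a9a8a7a6a5a4a4a4a3a3a3a2a1a09f9f9f9e9e9e9e9e9e9e9d9d9d9d9d9d9d9c9c9c9c9c9c9c9c9c9c9c9b9b9b9a9a9a9999999999999998989897979796969695959594949494949494939393939393939292929191919090908f8f8f8e8e8e8e8e8e8e8d8d8d8d8d8d8d8c8c8c8c8c8c8c8c8c8c8c8b8b8b8a8a8a8989898989898988888887878786868685858584848484848484838383838383838282828181818080807f7f7e7e7e7e7e7d7d7d7d7d7c7c7c7c7c7c7c7c7b7b7a7a79797979797878777776767575747474747473737373737272717170706e6d6c6c6964635e5d5c5c5954534f4e4e4e4d4d4d4c4c4c4c4c4b4a494949484746454444444343434241403f3e3e3e3d3d3d3c3c3c3c3c3b3a393939383736353434343333333231302f2e2e2e2d2d2d2c2c2c2c2c2b2a292929282726252424242323232221201e1d1c1c1914130e0d0c0c090403)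 i1) (pk61d_v3 (nat_lit 8) 
    (nat_lit 0xfbfaf8f7f7f2f1fffefbebfdfaeafcf8f7e8e7fbfaf9f7e7f8f7f6f5f4f2e2f3f1e1f2f1f0dbdad8d7d7d2d1ffdffefbdedbcbfdfadddacafcf8f7dcd8d7c8c7fbdbfadaf9f7d9d7c7f8d8f7d7f6d6f5d5f4f2d4d2c2f3f1d3d1c1f2d2f1d1f0d06fbb6e6bba6d6ab8b76c68676b6ab7696768676665b26462b163616261605fab5e5baa5d5aa8a75c58575b5aa7595758575655a25452a15351525150bf6f4fbebb9b6e6b4e4bbdba9a6d6a4d4abcb8b798976c68674c4847bb6b4bba6a4ab9b79769674947b86848b76747b66646b56545b4b29264624442b3b19163614341b26242b16141b06040af5f3faeab8b5e5b3e3badaa8a5d5a3d3aaca8a788875c58573c3837ab5b3baa5a3aa9a78759573937a85838a75737a65636a55535a4a28254523432a3a18153513331a25232a15131a050301f0f7b1e1b0e0b7a1d1a0d0a78771c18170c08071b0b1a0a77191709071808170716061505721412040271131103011202110110006b6a68676762615b5a58575752516f6e6b4b6d6a4a6c686748476b6a696747686766656462426361416261605f5e5b3b5d5a3a5c585738375b5a595737585756555452325351315251500f2b0e0b2a0d0a28270c08070b0a270907080706052204022103010201001b1a18171712110b0a0807070201)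 i1))) (nat_lit 0) (nat_lit 480) List.nil) : List (ℕ × ℕ))
    = ?xq9048 → (List (ℕ × ℕ))) ?hq9048; (case hq9048 => (set_option maxRecDepth 1000000 in conv => lhs; reduce)); intro _; exact ?xq9048 : List (ℕ × ℕ))

/-- a letter -/
noncomputable def G9_9 : List (ℕ × ℕ) :=
  let y0 : List (ℕ × ℕ) := (by
  refine (?fq9049 : (pk61l_v3 (fun i0 => (_root_.Prod.mk (pk61d_v3 (nat_lit 8) 
    (nat_lit 0xfefdfdfcfcfcf9f8f4f4f3efeeeeeeedededededecececececececebeae9e9e9e8e8e8e7e6e5e4e4e4e4e4e3e3e3e2e1e0dfdedededddddddddddcdcdcdcdcdcdcdbdad9d9d9) i0) (pk61d_v3 (nat_lit 8) 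
    (nat_lit 0xfafbfaf9f8f7f7f7f2f1f2fffefaeafdfbfaebeafcf9f8f7e9e8e7fbfaf9f7e7f8f7e7f7f6f5f4f2f1e2e1f3f2e2f2f1f0fffefadafdfbfadbdafcf9f8f7d9d8d7fbfaf9f7d7) i0))) (nat_lit 0) (nat_lit 70) List.nil : List (ℕ × ℕ))
    = ?xq9049 → (List (ℕ × ℕ))) ?hq9049; (case hq9049 => (set_option maxRecDepth 1000000 in conv => lhs; reduce)); intro _; exact ?xq9049 : List (ℕ × ℕ))
  let y1 : List (ℕ × ℕ) := (by
  refine (?fq9050 : (fun tl : List (ℕ × ℕ) => pk61l_v3 (fun i0 => (_root_.Prod.mk (pk61d_v3 (nat_lit 8) 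
    (nat_lit 0xd8d8d8d7d6d5d4d4d4d4d4d3d3d3d2d1d0cfcfcfcecececececececdcdcdcdcdcdcdcdcdcdcdcccccccccccccccccccccccccccccccbcbcbcacacac9c9c9c9c9c9c9c8c8c8c8c8c8c8c7c7c7c6c6c6c5c5c5c4c4c4c4c4c4c4c4c4c4c4c3c3c3c3c3c3c3c2c2c2c1c1c1c0c0c0bfbfbebebebebebdbdbdbdbdbdbdbdbcbcbcbcbcbcbcbcbcbcbcbbbbbabab9b9b9b9b9b8b8b8b8b8b7b7b6b6b5b5b4b4b4b4b4b4b4b4b3b3b3b3b3b2b2b1b1b0b0afaeaeaeadadadadadacacacacacacacabaaa9a9a9a8a8a8a7a6a5a4a4a4a4a4a3a3a3a2a1a09f9f9f9f9e9e9e9e9e9e9e9e9e9d9d9d9d9d9d9d9d9d9d9d9d9d9d9c9c9c9c9c9c9c9c9c9c9c9c9c9c9c9c9c9c9c9b9b9b9b9a9a9a9a99999999999999999998989898989898989897979797969696969595959594949494949494949494949494949393939393939393939292929291919191909090908f8f8f8f8e8e8e8e8e8e8e8e8e8d8d8d8d8d8d) i0) (pk61d_v3 (nat_lit 8) 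
    (nat_lit 0xf8f7d7f7f6f5f4f2f1d2d1f3f2d2f2f1f0ffefdffefaeeeadedacafdfbfaedebeadddbdacbcafcf9f8f7ece9e8e7dcd9d8d7c9c8c7fbebdbfaeadaf9f7e9e7d9d7c7f8f7e8e7d8d7c7f7e7d7f6e6d6f5e5d5f4f2f1e4e2e1d4d2d1c2c1f3f2e3e2d3d2c2f2e2d2f1e1d1f0e0d06f5fba6e6a5e5abbba6d6b6a5d5b5ab9b8b76c6968675c5958576b5b6a5ab769675957b768675857675766566555b2b1646261545251b2636253526252615160506faa6e6aabaa6d6b6aa9a8a76c6968676b6aa76967a76867676665a2a1646261a26362626160af6f4f3faeaa9a6e6a4e4a3e3aadabaa9b9a6d6b6a4d4b4a3d3b3aaca9a8a79998976c6968674c4948473c393837ab6b4b3baa6a4a3aa9a797696749473937a8a797686748473837a7674737a6664636a5654535a4a2a19291646261444241343231a3a292636243423332a2624232a1614131a0604030bfaf5f4fbebaaeaa8a5e5a4e4abdbbbaadabaa) i0))) (nat_lit 0) (nat_lit 350) tl)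
    = ?xq9050 → (List (ℕ × ℕ))) ?hq9050; (case hq9050 => (set_option maxRecDepth 1000000 in conv => lhs; reduce)); intro _; exact ?xq9050 y0 : List (ℕ × ℕ))
  (by
  refine (?fq9051 : (fun tl : List (ℕ × ℕ) => pk61l_v3 (fun i0 => (_root_.Prod.mk (pk61d_v3 (nat_lit 8) 
    (nat_lit 0x8d8d8d8d8d8d8d8d8c8c8c8c8c8c8c8c8c8c8c8c8c8c8c8c8c8c8c8b8b8b8b8a8a8a8a89898989898989898988888888888888888887878787868686868585858584848484848484848484848484848383838383838383838282828281818181808080807f7f7e7e7e7e7e7d7d7d7d7d7d7d7d7c7c7c7c7c7c7c7c7c7c7c7b7b7a7a79797979797878787878777776767575747474747474747473737373737272717170706e6d6d6c6c6c69686464635e5d5d5c5c5c59585454534f4e4e4e4d4d4d4d4d4c4c4c4c4c4c4c4b4a49494948484847464544444444444343434241403f3f3e3e3e3e3e3d3d3d3d3d3d3d3d3c3c3c3c3c3c3c3c3c3c3c3b3b3a3a39393939393838383838373736363535343434343434343433333333333232313130302e2d2d2c2c2c29282424231f1e1e1e1d1d1d1d1d1c1c1c1c1c1c1c1b1a19191918181817161514141414141313131211100e0d0d0c0c0c0908040403)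 i0) (pk61d_v3 (nat_lit 8) 
    (nat_lit 0x8b8a5d5b5a4d4b4abcb9b8b7aca9a8a78988875c5958574c494847bbab5b4bbaaa5a4ab9b7a9a78759574947b8b7a8a78758574847b7a75747b6a65646b5a55545b4b2b1a4a2a18281545251444241b3b2a3a28253524342b2a25242b1a15141b0a050402f0f7a2e2a0e0a7b7a2d2b2a0d0b0a7978772c2928270c0908072b0b2a0a77292709077728270807270726062505727124222104020172232203022202210120006a6b6a69686767676261625a5b5a59585757575251525f5e5a4a5d5b5a4b4a5c5958574948475b5a59574758574757565554525142415352425251506f5f6e6a5e5a3a6d6b6a5d5b5a3b3a6c6968675c5958573938376b5b6a5a69675957376867585737675766566555646261545251323163625352326252615160502a2b2a29282727272221220f1a0e0a1b1a0d0b0a1918170c0908070b0a17090717080707060512110402011203020201000a0b0a0908070707020102) i0))) (nat_lit 0) (nat_lit 350) tl)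
    = ?xq9051 → (List (ℕ × ℕ))) ?hq9051; (case hq9051 => (set_option maxRecDepth 1000000 in conv => lhs; reduce)); intro _; exact ?xq9051 y1 : List (ℕ × ℕ))

/-- a letter -/
noncomputable def G9_10 : List (ℕ × ℕ) :=
  (by
  refine (?fq9052 : ((pk61l_v3 (fun i1 => (_root_.Prod.mk (pk61d_v3 (nat_lit 8) 
    (nat_lit 0xfffffffffffffffffefefefefefdfdfcfcfbfbfbfbfbfbfbfbfbfbfbfafafafafafafafafafafaf9f9f9f9f9f8f8f8f8f8f7f7f7f7f7f7f7f7f6f6f6f6f6f5f5f5f5f5f4f4f3f3f2f2f2f2f2f1f1f0f0efefefefefefefefeeeeeeeeeeededececebebebebebebebebebebebeaeaeaeaeaeaeaeaeaeaeae9e9e9e9e9e8e8e8e8e8e7e7e7e7e7e7e7e7e6e6e6e6e6e5e5e5e5e5e4e4e3e3e2e2e2e2e2e1e1e0e0dfdfdfdfdfdedededddcdbdbdbdbdbdbdbdadadadadadadad9d9d9d8d8d8d7d7d7d7d7d6d6d6d5d5d5d4d3d2d2d2d1d0cfcfcecbcbcbcacacac9c8c7c7c6c5c2bfbfbfbfbfbebebebdbcbbbbbbbbbbbbbbbababababababab9b9b9b8b8b8b7b7b7b7b7b6b6b6b5b5b5b4b3b2b2b2b1b0afafaeabababaaaaaaa9a8a7a7a6a5a29f9f9e9b9b9b9a9a9a999897979695928f8f8e8b8b8b8a8a8a898887878685827f7f7e7b7b7b7a7a7a797877777675726f6f6f6f6f6e6e6e6d6c6b6b6b6b6b6b6b6a6a6a6a6a6a6a6969696868686767676767666666656565646362626261605f5f5f5f5f5e5e5e5d5c5b5b5b5b5b5b5b5a5a5a5a5a5a5a5959595858585757575757565656555555545352525251504f4f4e4b4b4b4a4a4a494847474645423f3f3e3b3b3b3a3a3a393837373635322f2f2e2b2b2b2a2a2a292827272625221f1f1e1b1b1b1a1a1a191817171615120f0f0e0b0b0b0a0a0a09080707060502)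 i1) (pk61d_v3 (nat_lit 8) 
    (nat_lit 0xfdfcafadac7f7d7cfcaeac7e7cad7dac7cf9f6f4aba9a6a47b797674f8f5f3aaa8a5a37a787573f4a9a47974f3a8a37873f1f0a7a1a0777170f4a6a47674f3a5a37573a474a373f0a2a07270a171a070edec9f9d9c8f8d8cec9e9c8e8c9d8d9c8ce9e6e49b9996948b898684e8e5e39a9895938a888583e499948984e398938883e1e0979190878180e496948684e39593858394849383e09290828091819080dddc8f8d8cdc8e8c8d8cd9d6d48b898684d8d5d38a888583d48984d38883d1d0878180d48684d385838483d082808180cdccccc9c6c4c8c5c3c4c3c1c0c4c3c0bdbc7f7d7cbc7e7c7d7cb9b6b47b797674b8b5b37a787573b47974b37873b1b0777170b47674b375737473b072707170adacaca9a6a4a8a5a3a4a3a1a0a4a3a09d9c9c999694989593949391909493908d8c8c898684888583848381808483807d7c7c797674787573747371707473706d6c2f2d2c6c2e2c2d2c6966642b2926246865632a2825236429246328236160272120642624632523242360222021205d5c1f1d1c5c1e1c1d1c5956541b1916145855531a1815135419145318135150171110541614531513141350121011104d4c4c494644484543444341404443403d3c3c393634383533343331303433302d2c2c292624282523242321202423201d1c1c191614181513141311101413100d0c0c09060408050304030100040300)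 i1))) (nat_lit 0) (nat_lit 512) List.nil) : List (ℕ × ℕ))
    = ?xq9052 → (List (ℕ × ℕ))) ?hq9052; (case hq9052 => (set_option maxRecDepth 1000000 in conv => lhs; reduce)); intro _; exact ?xq9052 : List (ℕ × ℕ))

/-- a letter -/
noncomputable def G9_11 : List (ℕ × ℕ) :=
  let y0 : List (ℕ × ℕ) := (by
  refine (?fq9053 : (pk61l_v3 (fun i0 => (_root_.Prod.mk (pk61d_v3 (nat_lit 8) 
    (nat_lit 0xfffffffffffffffffefefdfdfdfdfdfcfcfbfbfbfbfbfbfbfbfbfbfbfbfbfbfafafafafafafafafafafafafafaf9f9f9f9f9f9f9f9f8f8f8f8f8f7f7f7f7f7f7f7f7f6f6f6f6f6f5f5f5f5f5f5f5f5f4f4f3f3f2f2f1f1f1f1f1f0f0efefefefefeeedededecebebebebebebebebebeaeaeaeaeaeaeaeaeae9e9e9e9e9e8e8e8e7e7e7e7e7e6e6e6e5e5e5e5e5e4e3e2e1e1e1e0dfdfdfdfdfdedddddddcdbdbdbdbdbdbdbdbdbdadadadadadadadadad9d9d9d9d9d8d8d8d7d7d7d7d7d6d6d6d5d5d5d5d5d4d3d2d1d1d1d0cfcfcdcbcbcbcbcacacacac9c9c8c7c7c6c5c5c1bfbfbdbbbbbbbbbabababab9b9b8b7b7b6b5b5b1afafafafafaeadadadacabababab) i0) (pk61d_v3 (nat_lit 8) 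
    (nat_lit 0xfefcbfbebc7f7e7cbe7efcbdbc7d7cbc7cf8f6f5f4bbb8b6b5b47b78767574f9f8f6f3bab9b8b6b37a79787673f4f3b9b4b3797473f4b8b47874f2f0b7b2b0777270f3b6b37673f4f3b5b4b3757473b474b373b272f0b1b07170b070eeec8f8e8c8eec8d8c8ce8e6e5e48b88868584e9e8e6e38a89888683e4e3898483e48884e2e0878280e38683e4e3858483848382e0818080dedc9f9e9c9edc9d9c9cd8d6d5d49b98969594d9d8d6d39a99989693d4d3999493d49894d2d0979290d39693d4d3959493949392d0919090ceccccc8c6c5c4c9c8c6c3c4c3c4c2c0c3c4c3c0bebcbcb8b6b5b4b9b8b6b3b4b3b4b2b0b3b4b3b0aeac7f7e7c7eac7d7c7ca8a6a5a4) i0))) (nat_lit 0) (nat_lit 258) List.nil : List (ℕ × ℕ))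
    = ?xq9053 → (List (ℕ × ℕ))) ?hq9053; (case hq9053 => (set_option maxRecDepth 1000000 in conv => lhs; reduce)); intro _; exact ?xq9053 : List (ℕ × ℕ))
  (by
  refine (?fq9054 : (fun tl : List (ℕ × ℕ) => pk61l_v3 (fun i0 => (_root_.Prod.mk (pk61d_v3 (nat_lit 8) 
    (nat_lit 0xabababababaaaaaaaaaaaaaaaaaaa9a9a9a9a9a8a8a8a7a7a7a7a7a6a6a6a5a5a5a5a5a4a3a2a1a1a1a09f9f9d9b9b9b9b9a9a9a9a9999989797969595918f8f8d8b8b8b8b8a8a8a8a8989888787868585817f7f7d7b7b7b7b7a7a7a7a7979787777767575716f6f6f6f6f6e6d6d6d6c6b6b6b6b6b6b6b6b6b6a6a6a6a6a6a6a6a6a696969696968686867676767676666666565656565646362616161605f5f5f5f5f5f5f5f5e5e5d5d5d5d5d5c5c5b5b5b5b5b5b5b5b5b5b5b5b5b5b5a5a5a5a5a5a5a5a5a5a5a5a5a5a59595959595959595858585858575757575757575756565656565555555555555555545453535252515151515150504f4f4d4b4b4b4b4a4a4a4a4949484747464545413f3f3d3b3b3b3b3a3a3a3a3939383737363535312f2f2d2b2b2b2b2a2a2a2a2929282727262525211f1f1d1b1b1b1b1a1a1a1a1919181717161515110f0f0d0b0b0b0b0a0a0a0a090908070706050501)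 i0) (pk61d_v3 (nat_lit 8) 
    (nat_lit 0x7b78767574a9a8a6a37a79787673a4a3797473a47874a2a0777270a37673a4a3757473747372a07170709e9c9c98969594999896939493949290939493908e8c8c88868584898886838483848280838483807e7c7c78767574797876737473747270737473706e6c1f1e1c1e6c1d1c1c686665641b18161514696866631a19181613646319141364181462601712106316136463151413141312601110105e5c2f2e2c1f1e1c2e1e5c2d2c1d1c2c1c585655542b282625241b18161514595856532a292826231a1918161354532924231914135428241814525027222017121053262316135453252423151413241423132212502120111020104e4c4c48464544494846434443444240434443403e3c3c38363534393836333433343230333433302e2c2c28262524292826232423242220232423201e1c1c18161514191816131413141210131413100e0c0c0806050409080603040304020003040300) i0))) (nat_lit 0) (nat_lit 350) tl)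
    = ?xq9054 → (List (ℕ × ℕ))) ?hq9054; (case hq9054 => (set_option maxRecDepth 1000000 in conv => lhs; reduce)); intro _; exact ?xq9054 y0 : List (ℕ × ℕ))

/-- a letter -/
noncomputable def G9_12 : List (ℕ × ℕ) :=
  (by
  refine (?fq9055 : ((pk61l_v3 (fun i1 => (_root_.Prod.mk (pk61d_v3 (nat_lit 8) 
    (nat_lit 0xfefdfdfbfbfaf9f8f8f4f4f3f2f1f1efeeeeeeedededecebebebeaeaeae9e9e9e8e8e8e7e6e5e4e4e4e3e3e3e2e2e2e1e1e1e0dfdfdedededddddcdcdbdbdadadad9d9d9d8d8d7d7d6d6d5d5d4d4d3d3d3d2d2d2d1d1d0d0cecdcdcbcbcac9c8c8c4c4c3c2c1c1bfbebebebdbdbdbcbbbbbbbababab9b9b9b8b8b8b7b6b5b4b4b4b3b3b3b2b2b2b1b1b1b0afafaeaeaeadadacacababaaaaaaa9a9a9a8a8a7a7a6a6a5a5a4a4a3a3a3a2a2a2a1a1a0a09e9d9d9b9b9a9998989494939291918e8d8d8b8b8a8988888484838281817e7d7d7b7b7a7978787474737271716e6d6d6b6b6a6968686464636261615e5d5d5b5b5a5958585454535251514f4f4e4e4e4d4d4c4c4b4b4a4a4a49494948484747464645454444434343424242414140403f3e3e3e3d3d3d3c3b3b3b3a3a3a393939383838373635343434333333323232313131302f2f2e2e2e2d2d2c2c2b2b2a2a2a29292928282727262625252424232323222222212120201f1e1e1e1d1d1d1c1b1b1b1a1a1a191919181818171615141414131313121212111111100e0d0d0b0b0a090808040403020101)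 i1) (pk61d_v3 (nat_lit 8) 
    (nat_lit 0xfdfefdfbfafbf8f9f8f4f3f4f1f2f1dfeddeddeeeddedcebeadaebdbdae8d9d8e9e8d9d7d6d5e4e3d3e4d4d3e1d2d1e2e1d2d0efdfeeeddeeeddecdceadbebeadae9e8d9e9d8e7d7e6d6e5d5e3d4e4e3d3e2e1d2e2d1e0d0cdcecdcbcacbc8c9c8c4c3c4c1c2c1afbdaeadbebdaeacbbbaaabbabaab8a9a8b9b8a9a7a6a5b4b3a3b4a4a3b1a2a1b2b1a2a0bfafbebdaebeadbcacbaabbbbaaab9b8a9b9a8b7a7b6a6b5a5b3a4b4b3a3b2b1a2b2a1b0a09d9e9d9b9a9b9899989493949192918d8e8d8b8a8b8889888483848182817d7e7d7b7a7b7879787473747172716d6e6d6b6a6b6869686463646162615d5e5d5b5a5b5859585453545152514f3f4e3e3d4d3e4c3c4b3a4a3b3a49393848394737463645354433433433423231413240304f4e4d3d4e3e3d4c4a3b3a4b4a3b494838493938474645433433444334424131423231402f1f2e1e1d2d1e2c1c2b1a2a1b1a29191828192717261625152413231413221211211220102f2e2d1d2e1e1d2c2a1b1a2b2a1b292818291918272625231413242314222111221211200d0e0d0b0a0b080908040304010201) i1))) (nat_lit 0) (nat_lit 412) List.nil) : List (ℕ × ℕ))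
    = ?xq9055 → (List (ℕ × ℕ))) ?hq9055; (case hq9055 => (set_option maxRecDepth 1000000 in conv => lhs; reduce)); intro _; exact ?xq9055 : List (ℕ × ℕ))

/-- a letter -/
noncomputable def G9_13 : List (ℕ × ℕ) :=
  (by
  refine (?fq9056 : ((pk61l_v3 (fun i1 => (_root_.Prod.mk (pk61d_v3 (nat_lit 8) 
    (nat_lit 0xfefefdf9f8f8f6f6f5f2f2f1efeeeeeeedededecebeae9e9e9e8e8e8e7e6e6e6e5e5e5e4e3e2e2e2e1e1e1e0dfdfdededddddddcdcdbdbdadad9d9d9d8d8d7d7d6d6d5d5d5d4d4d3d3d2d2d1d1d1d0d0cececdc9c8c8c6c6c5c2c2c1bfbfbebebdbdbdbcbcbbbbbabab9b9b9b8b8b7b7b6b6b5b5b5b4b4b3b3b2b2b1b1b1b0b0afaeaeaeadadadacabaaa9a9a9a8a8a8a7a6a6a6a5a5a5a4a3a2a2a2a1a1a1a09f9e9e9e9d9d9d9c9b9a999999989898979696969595959493929292919191908f8f8e8e8d8d8d8c8c8b8b8a8a89898988888787868685858584848383828281818180807e7e7d7978787676757272716f6e6e6e6d6d6d6c6b6a696969686868676666666565656463626262616161605f5f5e5e5d5d5d5c5c5b5b5a5a59595958585757565655555554545353525251515150504e4e4d4948484646454242413e3e3d3938383636353232312f2f2e2e2d2d2d2c2c2b2b2a2a29292928282727262625252524242323222221212120201f1e1e1e1d1d1d1c1b1a191919181818171616161515151413121212111111100e0e0d090808060605020201)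 i1) (pk61d_v3 (nat_lit 8) 
    (nat_lit 0xfefdfef8f9f8f6f5f6f2f1f2dfeeedddeededddcdbdae8d9d8e9e8d9d7e6e5d5e6d6d5d4d3e2e1d1e2d2d1d0efdfeddeeeedddecdcebdbeadae9e8d9e9d8e7d7e5d6e6e5d5e4d4e3d3e1d2e2e1d1e0d0cecdcec8c9c8c6c5c6c2c1c2bfafbeadbdaeadbcacbbabbaaab9a9a8b8a9b7a7b6a5b5a6a5b4a4b3a3b2a1b1a2a1b0a0bfbdaeadbebdaebcbbbab9b8a8b9a9a8b7b5a6a5b6b5a6b4b3b1a2a1b2b1a2b08f9e9d8d9e8e8d8c8b8a988988999889879695859686858483929181928281809f8f9d8e9e9d8d9c8c9b8b9a8a99988999889787958696958594849383918292918190807e7d7e7879787675767271725f6e6d5d6e5e5d5c5b5a685958696859576665556656555453626151625251506f5f6d5e6e6d5d6c5c6b5b6a5a69685969586757655666655564546353615262615160504e4d4e4849484645464241423e3d3e3839383635363231322f1f2e1d2d1e1d2c1c2b1b2a1a29191828192717261525161524142313221121121120102f2d1e1d2e2d1e2c2b2a292818291918272516152625162423211211222112200e0d0e080908060506020102) i1))) (nat_lit 0) (nat_lit 412) List.nil) : List (ℕ × ℕ))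
    = ?xq9056 → (List (ℕ × ℕ))) ?hq9056; (case hq9056 => (set_option maxRecDepth 1000000 in conv => lhs; reduce)); intro _; exact ?xq9056 : List (ℕ × ℕ))

/-- the simple module `256` -/
noncomputable def G9 : List (List (ℕ × ℕ)) :=
  [G9_0, G9_1, G9_2, G9_3, G9_4, G9_5, G9_6, G9_7, G9_8, G9_9, G9_10, G9_11, G9_12, G9_13]

/-- a tree of words -/
noncomputable def p9 : List (ℕ × ℕ) :=
  (by
  refine (?fq9057 : ((pk61l_v3 (fun i1 => (_root_.Prod.mk (pk61d_v3 (nat_lit 7) 
    (nat_lit 0x1bb0dfb566cd3a74a84f9d366cd972e4c9931e3c78d1a2c58b12244850a03f7efdfbe7cf5ebc76edd3a74e9d3972e5cb76eddbb76ad5a3468cd93162c583060c17ae5aad5aa52a53a74c992a54a95224468912244891214285020407cf9f3e7cf9f3e78f1d3a70e1c366cd9b3668d1a3464c983060c18305cb972e5cb972c58b152a54a942850a13264c993264891224448912240810204078f1e3870e1a3468d183060c182c58b162c50a142850a1428489122448910203870e183060a142850a102040810203060c183060c10204081020404081020408100000000000000) i1) (pk61d_v3 (nat_lit 4) 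
    (nat_lit 0x1917335a3927541a3987ad3b328ba2713735a8c713317315a7315754607173a33754b6a06979c7711b32394248871ba0d32d95273915b8dba9871071ba039287a7391bd735badc98c73dc71ba715bad791573157156098c71a73ba735bd73958731546ac73546298710732731ba731bad7391548715460c735462873154620) i1))) (nat_lit 0) (nat_lit 255) List.nil) : List (ℕ × ℕ))
    = ?xq9057 → (List (ℕ × ℕ))) ?hq9057; (case hq9057 => (set_option maxRecDepth 1000000 in conv => lhs; reduce)); intro _; exact ?xq9057 : List (ℕ × ℕ))

/-- a tree of words -/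
noncomputable def q9 : List (ℕ × ℕ) :=
  (by
  refine (?fq9058 : ((pk61l_v3 (fun i1 => (_root_.Prod.mk (pk61d_v3 (nat_lit 8) 
    (nat_lit 0x89716e6c6c696868666664646462605f5f5f5e5e5c5c5c5c5c5b5a5957575756555554545353525251515151514f4e4d4d4b4b4a4a4a4a4949484847464646464645424242424242424240404040403f3f3e3e3d3d3c3c3b3b3b3a3a3a3939383838383838373736363636363635353535343434333332323231313030302f2f2d2d2d2c2b2b2a2a2928282827272726262625242424232222222221212121201f1e1e1d1d1d1d1c1c1c1c1c1c1b1b1a1a191919181818181616161515151515151515141413121212121212111110100f0f0f0e0e0d0d0d0c0c0b0b0b0a0a0a0a090909090808070707060606060605050404030302020201010100000000) i1) (pk61d_v3 (nat_lit 4) 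
    (nat_lit 0x296712dc9a70c98928987a0dc99860c9394d48989b28c2992524b28baba294b2ca7315428d1b62c1ababababa0badba39542d9b34b62c9ba0b6ababa0baba0baba0ca0dc9b2095292899b2a958d9b2caaba952d394b2cbababa0ba0cba071b6a0dc9899b6a20989892898928baba0badc9ba0989289b28cbaba9898cba09ba8) i1))) (nat_lit 0) (nat_lit 255) List.nil) : List (ℕ × ℕ))
    = ?xq9058 → (List (ℕ × ℕ))) ?hq9058; (case hq9058 => (set_option maxRecDepth 1000000 in conv => lhs; reduce)); intro _; exact ?xq9058 : List (ℕ × ℕ))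

end Cfsg.Agent.E82.M44
end

-- part: E82/M44/ChkD
section
/-!
# The pressure machine for `Sp₄(4)`: the checks of the table of dimension 256 (helper79)
-/

set_option autoImplicit false
set_option maxRecDepth 100000
set_option Elab.async false

namespace Cfsg.Agent.E82.M44

open Cfsg.Agent.E82.Mach

theorem tb9 : tbOk bs (hs.getD 9 []) (Ms.getD 9 0) 256 G9 = true := by (delta Cfsg.Agent.E82.M44.Blk.S Cfsg.Agent.E82.M44.vecOk Cfsg.Agent.E82.Mach.actJ Cfsg.Agent.E82.Mach.trG Cfsg.Agent.E82.M44.tbOk Cfsg.Agent.E82.M44.actS Cfsg.Agent.E82.Mach.wfL Cfsg.Agent.E82.M44.actW Cfsg.Agent.E82.Mach.wfG Cfsg.Agent.E82.M44.Blk.veq; rewrite [H90F.ld_fun, H90F.lb_fun, H90F.al_fun, H90F.mp_fun, H90F.ap_fun, H90F.fm_fun]; decide +kernel)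

private noncomputable def _root_.Cfsg.Agent.KO58904e0.k57 : (by first | exact type_of% @Cfsg.Agent.E82.M44.Blk.rels | exact Unit : Sort _) := by first | (refine @Subtype.val _ (fun g => @Cfsg.Agent.E82.M44.Blk.rels = @g) (@Subtype.mk _ _ (@(fun x0 => @Cfsg.Agent.KO58904e0.k29.{0} _ (@Cfsg.Agent.KO58904e0.k30.{0, 0} _ _ @(fun x1 => @Cfsg.Agent.KO58904e0.k30.{0, 0} _ _ @(fun x2 => ((@Prod.fst.{0, 0} _ _ @x1) :: (@x2 :: []), @Cfsg.Agent.KO58904e0.k28.{0} _ (@Option.rec.{1, 0} (@List.{0} ℕ) @(fun x3 => @List.{0} ℕ) [] @(fun x3 => @x3) (@Cfsg.Agent.KO58904e0.k32.{0} _ (@Prod.snd.{0, 0} _ _ @x1) @x2)) ((@Prod.fst.{0, 0} _ _ @x1) :: []))) (@Cfsg.Agent.E82.M44.Blk.R @x0)) (@Cfsg.Agent.E82.M44.Blk.gs @x0)))) ?_); rewrite [← Cfsg.Agent.KO58904e0.e32.{0}, ← Cfsg.Agent.KO58904e0.e28.{0}, ← Cfsg.Agent.KO58904e0.e30.{0, 0}, ← Cfsg.Agent.KO58904e0.e29.{0}]; rfl') | exact @Cfsg.Agent.E82.M44.Blk.rels | exact ()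
private theorem _root_.Cfsg.Agent.KO58904e0.e57 : (by first | exact @Cfsg.Agent.E82.M44.Blk.rels = @_root_.Cfsg.Agent.KO58904e0.k57 | exact True : Prop) := by first | (delta _root_.Cfsg.Agent.KO58904e0.k57; exact @Subtype.property _ (fun g => @Cfsg.Agent.E82.M44.Blk.rels = @g) _) | rfl | trivial
private noncomputable def _root_.Cfsg.Agent.KO58904e0.k58 : (by first | exact type_of% @Cfsg.Agent.E82.Mach.idK | exact Unit : Sort _) := by first | (refine @Subtype.val _ (fun g => @Cfsg.Agent.E82.Mach.idK = @g) (@Subtype.mk _ _ (@(fun x0 x1 => @Nat.rec.{1} @(fun x2 => ℕ → ℕ) @(fun x2 => @x2) @(fun x2 x3 x4 => @Cfsg.Agent.KO58904e0.k14 _ (@Nat.xor @x4 (@Nat.shiftLeft (@Nat.pow (nat_lit 2) @x2) (@Nat.mul @x0 @x2))) @x3) @x1 (nat_lit 0))) ?_); rewrite [← Cfsg.Agent.KO58904e0.e14]; (try delta Cfsg.Agent.E82.Mach.idK); (try generalize @Cfsg.Agent.E82.Mach.force = g0); rfl') | exact @Cfsg.Agent.E82.Mach.idK | exact ()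
private theorem _root_.Cfsg.Agent.KO58904e0.e58 : (by first | exact @Cfsg.Agent.E82.Mach.idK = @_root_.Cfsg.Agent.KO58904e0.k58 | exact True : Prop) := by first | (delta _root_.Cfsg.Agent.KO58904e0.k58; exact @Subtype.property _ (fun g => @Cfsg.Agent.E82.Mach.idK = @g) _) | rfl | trivial
private noncomputable def _root_.Cfsg.Agent.KO58904e0.k59 : (by first | exact type_of% @Cfsg.Agent.E82.Mach.mulR | exact Unit : Sort _) := by first | (refine @Subtype.val _ (fun g => @Cfsg.Agent.E82.Mach.mulR = @g) (@Subtype.mk _ _ (@(fun x0 x1 x2 => @Cfsg.Agent.KO58904e0.k14 _ (@Cfsg.Agent.KO58904e0.k42 @x1) @(fun x3 => @Nat.xor @x1 (@List.rec.{1, 0} (ℕ × ℕ) @(fun x4 => ℕ) (nat_lit 0) @(fun x4 x5 x6 => @Nat.xor (@Nat.shiftLeft (@Nat.land (@Nat.shiftRight @x3 (@Nat.add (nat_lit 64) (@Nat.mul @x0 (@Prod.snd.{0, 0} _ _ @x4)))) (@Nat.sub (@Nat.pow (nat_lit 2) @x0) (nat_lit 1))) (@Nat.mul @x0 (@Prod.fst.{0, 0} _ _ @x4))) @x6) @x2)))) ?_); rewrite [← Cfsg.Agent.KO58904e0.e42,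 ← Cfsg.Agent.KO58904e0.e14]; (try delta Cfsg.Agent.E82.Mach.mulR); (try generalize @Cfsg.Agent.E82.Mach.force = g0); (try generalize @Cfsg.Agent.E82.Mach.slt = g1); rfl') | exact @Cfsg.Agent.E82.Mach.mulR | exact ()
private theorem _root_.Cfsg.Agent.KO58904e0.e59 : (by first | exact @Cfsg.Agent.E82.Mach.mulR = @_root_.Cfsg.Agent.KO58904e0.k59 | exact True : Prop) := by first | (delta _root_.Cfsg.Agent.KO58904e0.k59; exact @Subtype.property _ (fun g => @Cfsg.Agent.E82.Mach.mulR = @g) _) | rfl | trivial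
private noncomputable def _root_.Cfsg.Agent.KO58904e0.k60 : (by first | exact type_of% @Cfsg.Agent.E82.Mach.mulJ | exact Unit : Sort _) := by first | (refine @Subtype.val _ (fun g => @Cfsg.Agent.E82.Mach.mulJ = @g) (@Subtype.mk _ _ (@(fun x0 x1 x2 x3 => @Option.rec.{1, 0} (@List.{0} (ℕ × ℕ)) @(fun x4 => ℕ) (nat_lit 0) (@Cfsg.Agent.KO58904e0.k59 @x0 @x2) (@Cfsg.Agent.KO58904e0.k32.{0} _ @x1 @x3))) ?_); rewrite [← Cfsg.Agent.KO58904e0.e32.{0}, ← Cfsg.Agent.KO58904e0.e59]; (try delta Cfsg.Agent.E82.Mach.mulJ); (try generalize @Cfsg.Agent.E82.Mach.mulR = g0); rfl') | exact @Cfsg.Agent.E82.Mach.mulJ | exact ()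
private theorem _root_.Cfsg.Agent.KO58904e0.e60 : (by first | exact @Cfsg.Agent.E82.Mach.mulJ = @_root_.Cfsg.Agent.KO58904e0.k60 | exact True : Prop) := by first | (delta _root_.Cfsg.Agent.KO58904e0.k60; exact @Subtype.property _ (fun g => @Cfsg.Agent.E82.Mach.mulJ = @g) _) | rfl | trivial
private noncomputable def _root_.Cfsg.Agent.KO58904e0.k61 : (by first | exact type_of% @Cfsg.Agent.E82.Mach.mulW | exact Unit : Sort _) := by first | (refine @Subtype.val _ (fun g => @Cfsg.Agent.E82.Mach.mulW = @g) (@Subtype.mk _ _ (@(fun x0 x1 x2 => @List.rec.{1, 0} ℕ @(fun x3 => ℕ → ℕ) @(fun x3 => @x3) @(fun x3 x4 x5 x6 => @Cfsg.Agent.KO58904e0.k14 _ (@Cfsg.Agent.KO58904e0.k60 @x0 @x1 @x6 @x3) @x5) @x2)) ?_); rewrite [← Cfsg.Agent.KO58904e0.e60, ← Cfsg.Agent.KO58904e0.e14]; (try delta Cfsg.Agent.E82.Mach.mulW); (try generalize @Cfsg.Agent.E82.Mach.force = g0); (try generalize @Cfsg.Agent.E82.Mach.mulJ = g1); rfl') | exact @Cfsg.Agent.E82.Mach.mulW | exact ()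
private theorem _root_.Cfsg.Agent.KO58904e0.e61 : (by first | exact @Cfsg.Agent.E82.Mach.mulW = @_root_.Cfsg.Agent.KO58904e0.k61 | exact True : Prop) := by first | (delta _root_.Cfsg.Agent.KO58904e0.k61; exact @Subtype.property _ (fun g => @Cfsg.Agent.E82.Mach.mulW = @g) _) | rfl | trivial
private noncomputable def _root_.Cfsg.Agent.KO58904e0.k62 : (by first | exact type_of% @Cfsg.Agent.E82.Mach.evW | exact Unit : Sort _) := by first | (refine @Subtype.val _ (fun g => @Cfsg.Agent.E82.Mach.evW = @g) (@Subtype.mk _ _ (@(fun x0 x1 x2 => @Cfsg.Agent.KO58904e0.k14 _ (@Cfsg.Agent.KO58904e0.k58 @x0 @x0) (@Cfsg.Agent.KO58904e0.k61 @x0 @x1 @x2))) ?_); rewrite [← Cfsg.Agent.KO58904e0.e61, ← Cfsg.Agent.KO58904e0.e58, ← Cfsg.Agent.KO58904e0.e14]; (try delta Cfsg.Agent.E82.Mach.evW); (try generalize @Cfsg.Agent.E82.Mach.force = g0); (try generalize @Cfsg.Agent.E82.Mach.idK = g1); (try generalize @Cfsg.Agent.E82.Mach.mulW = g2); rfl') | exact @Cfsg.Agent.E82.Mach.evW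 | exact ()
private theorem _root_.Cfsg.Agent.KO58904e0.e62 : (by first | exact @Cfsg.Agent.E82.Mach.evW = @_root_.Cfsg.Agent.KO58904e0.k62 | exact True : Prop) := by first | (delta _root_.Cfsg.Agent.KO58904e0.k62; exact @Subtype.property _ (fun g => @Cfsg.Agent.E82.Mach.evW = @g) _) | rfl | trivial
private noncomputable def _root_.Cfsg.Agent.KO58904e0.k63 : (by first | exact type_of% @Cfsg.Agent.E82.Mach.okT | exact Unit : Sort _) := by first | (refine @Subtype.val _ (fun g => @Cfsg.Agent.E82.Mach.okT = @g) (@Subtype.mk _ _ (@(fun x0 x1 x2 x3 => @Nat.beq (@Cfsg.Agent.KO58904e0.k62 @x0 @x1 @x2) (@Cfsg.Agent.KO58904e0.k62 @x0 @x1 @x3))) ?_); rewrite [← Cfsg.Agent.KO58904e0.e62]; (try delta Cfsg.Agent.E82.Mach.okT); (try generalize @Cfsg.Agent.E82.Mach.evW = g0); rfl') | exact @Cfsg.Agent.E82.Mach.okT | exact ()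
private theorem _root_.Cfsg.Agent.KO58904e0.e63 : (by first | exact @Cfsg.Agent.E82.Mach.okT = @_root_.Cfsg.Agent.KO58904e0.k63 | exact True : Prop) := by first | (delta _root_.Cfsg.Agent.KO58904e0.k63; exact @Subtype.property _ (fun g => @Cfsg.Agent.E82.Mach.okT = @g) _) | rfl | trivial
private noncomputable def _root_.Cfsg.Agent.KO58904e0.k64 : (by first | exact type_of% @Cfsg.Agent.E82.M44.relOk | exact Unit : Sort _) := by first | (refine @Subtype.val _ (fun g => @Cfsg.Agent.E82.M44.relOk = @g) (@Subtype.mk _ _ (@(fun x0 x1 x2 x3 x4 => @Cfsg.Agent.KO58904e0.k27.{0} _ (@Cfsg.Agent.KO58904e0.k25.{0} _ @x4 (@Cfsg.Agent.KO58904e0.k23.{0} _ @x3 (@Cfsg.Agent.KO58904e0.k29.{0} _ (@Cfsg.Agent.KO58904e0.k30.{0, 0} _ _ @Cfsg.Agent.KO58904e0.k57 @x0)))) @(fun x5 => @Cfsg.Agent.KO58904e0.k63 @x1 @x2 (@Prod.fst.{0, 0} _ _ @x5) (@Prod.snd.{0, 0} _ _ @x5)))) ?_); rewrite [← Cfsg.Agent.KO58904e0.e63, ← Cfsg.Agent.KO58904e0.e57, ← Cfsg.Agent.KO58904e0.e30.{0, 0}, ←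 Cfsg.Agent.KO58904e0.e29.{0}, ← Cfsg.Agent.KO58904e0.e23.{0}, ← Cfsg.Agent.KO58904e0.e25.{0}, ← Cfsg.Agent.KO58904e0.e27.{0}]; (try delta Cfsg.Agent.E82.M44.relOk); (try generalize @Cfsg.Agent.E82.M44.Blk.rels = g0); (try generalize @Cfsg.Agent.E82.Mach.okT = g1); rfl') | exact @Cfsg.Agent.E82.M44.relOk | exact ()
private theorem _root_.Cfsg.Agent.KO58904e0.e64 : (by first | exact @Cfsg.Agent.E82.M44.relOk = @_root_.Cfsg.Agent.KO58904e0.k64 | exact True : Prop) := by first | (delta _root_.Cfsg.Agent.KO58904e0.k64; exact @Subtype.property _ (fun g => @Cfsg.Agent.E82.M44.relOk = @g) _) | rfl | trivial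

theorem rel9_0 : relOk bs 256 G9 0 4 = true := by (first | (rewrite [Cfsg.Agent.KO58904e0.e64]; decide +kernel) | decide +kernel)

theorem rel9_4 : relOk bs 256 G9 4 4 = true := by decide +kernel

theorem rel9_8 : relOk bs 256 G9 8 4 = true := by decide +kernel

theorem rel9_12 : relOk bs 256 G9 12 4 = true := by decide +kernel

theorem rel9_16 : relOk bs 256 G9 16 4 = true := by decide +kernel

theorem rel9_20 : relOk bs 256 G9 20 4 = true := by decide +kernel

theorem rel9_24 : relOk bs 256 G9 24 4 = true := by decide +kernel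

theorem rel9_28 : relOk bs 256 G9 28 4 = true := by decide +kernel

theorem rel9_32 : relOk bs 256 G9 32 4 = true := by decide +kernel

theorem rel9_36 : relOk bs 256 G9 36 4 = true := by decide +kernel

theorem rel9_40 : relOk bs 256 G9 40 4 = true := by decide +kernel

theorem rel9_44 : relOk bs 256 G9 44 4 = true := by decide +kernel

theorem rel9_48 : relOk bs 256 G9 48 4 = true := by decide +kernel

theorem rel9_52 : relOk bs 256 G9 52 4 = true := by decide +kernel

theorem rel9_56 : relOk bs 256 G9 56 4 = true := by decide +kernel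

theorem rel9_60 : relOk bs 256 G9 60 4 = true := by decide +kernel

theorem rel9 : Rel bs 256 G9 0 :=
  Rel.step rel9_0 (Rel.step rel9_4 (Rel.step rel9_8 (Rel.step rel9_12 (Rel.step rel9_16 (Rel.step rel9_20 (Rel.step rel9_24 (Rel.step rel9_28 (Rel.step rel9_32 (Rel.step rel9_36 (Rel.step rel9_40 (Rel.step rel9_44 (Rel.step rel9_48 (Rel.step rel9_52 (Rel.step rel9_56 (Rel.step rel9_60 (Rel.last (by decide)))))))))))))))))

theorem sp9 : spinOk 256 G9 p9 = true := by decide +kernel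

theorem sq9 : spinOk 256 (trG G9) q9 = true := by decide +kernel

end Cfsg.Agent.E82.M44
end

-- part: E82/M44/Cls
section
/-!
# The pressure machine for `Sp₄(4)`: the simple modules (helper79)

* `classify` : a simple family is the family of one of the ten tables; `tab44`, `sol44`, `soc44` : the invariants;
* `num44` : the six solutions.
-/

set_option autoImplicit false
set_option maxRecDepth 100000

namespace Cfsg.Agent.E82.M44

open Module Cfsg.Agent.E82.Mach

/-- the dimensions -/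
def dn (J : ℕ) : ℕ := [1, 8, 8, 16, 16, 32, 32, 128, 128, 256].getD J 0

/-- the tables -/
noncomputable def GG (J : ℕ) : List (List (ℕ × ℕ)) := [G0, G1, G2, G3, G4, G5, G6, G7, G8, G9].getD J []

theorem tb_all {J : ℕ} (hJ : J < 10) : tbOk bs (hs.getD J []) (Ms.getD J 0) (dn J) (GG J) = true ∧
    Rel bs (dn J) (GG J) 0 ∧ ∃ p q, spinOk (dn J) (GG J) p = true ∧ spinOk (dn J) (trG (GG J)) q = true := by
  interval_cases J
  · exact ⟨tb0, rel0, _, _, sp0, sq0⟩
  · exact ⟨tb1, rel1, _, _, sp1, sq1⟩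
  · exact ⟨tb2, rel2, _, _, sp2, sq2⟩
  · exact ⟨tb3, rel3, _, _, sp3, sq3⟩
  · exact ⟨tb4, rel4, _, _, sp4, sq4⟩
  · exact ⟨tb5, rel5, _, _, sp5, sq5⟩
  · exact ⟨tb6, rel6, _, _, sp6, sq6⟩
  · exact ⟨tb7, rel7, _, _, sp7, sq7⟩
  · exact ⟨tb8, rel8, _, _, sp8, sq8⟩
  · exact ⟨tb9, rel9, _, _, sp9, sq9⟩

theorem wf_GG {J : ℕ} (hJ : J < 10) : wfG (dn J) (GG J) = true := by
  have h := (tb_all hJ).1
  simp only [tbOk, Bool.and_eq_true] at h
  exact h.1.1.1.1

/-- **the simple modules** -/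
theorem classify {V : Type*} [AddCommGroup V] [Module F2 V] {a : ℕ → End F2 V} (ha : Good okW 14 a) (hs : Simple a) :
    ∃ J < 10, ∃ e : V ≃ₗ[F2] X (dn J), Hom a (ops (dn J) (GG J)) e := by
  obtain ⟨⟨P, hP, x, hx, hE⟩, l, hl, hi⟩ := exists_ev ex_ok ha.rel hs.1
  obtain ⟨J, hJ, rfl⟩ := List.getElem_of_mem hP
  have hJ' : J < 10 := hJ
  have h1 := ty_ok J hJ'
  rw [List.getD_eq_getElem _ _ hJ] at h1
  obtain ⟨t1, t2, p, q, t3, t4⟩ := tb_all hJ'
  exact ⟨J, hJ', tb_iso syn_ok t1 t2 t3 t4 hs hx (hE.wv ex_ok ha h1) hl hi⟩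

/-- the dimensions of the fixed spaces -/
def FF (J k : ℕ) : ℕ := (rows.getD J []).getD (min k C.cl.length) 0

/-- the bounds for the solutions of the Fox equations -/
def ZZ (J : ℕ) : ℕ := [0, 2, 2, 0, 0, 0, 0, 128, 128].getD J 0

theorem fz_all {J : ℕ} (hJ : J < 9) : fixOk C (dn J) (GG J) (rows.getD J []) = true ∧
    dn J ≤ zRk (dn J) (GG J) C.g C.h C.R + ZZ J := by
  interval_cases J
  · exact ⟨fx0, Nat.ble_eq.mp zz0⟩
  · exact ⟨fx1, Nat.ble_eq.mp zz1⟩
  · exact ⟨fx2, Nat.ble_eq.mp zz2⟩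
  · exact ⟨fx3, Nat.ble_eq.mp zz3⟩
  · exact ⟨fx4, Nat.ble_eq.mp zz4⟩
  · exact ⟨fx5, Nat.ble_eq.mp zz5⟩
  · exact ⟨fx6, Nat.ble_eq.mp zz6⟩
  · exact ⟨fx7, Nat.le_add_left 128 _⟩
  · exact ⟨fx8, Nat.le_add_left 128 _⟩

theorem ent44 {M : Type} [AddCommGroup M] [Module F2 M] {a : ℕ → End F2 M} {J : ℕ} (hJ : J < 9) (e : M ≃ₗ[F2] X (dn J))
    (he : Hom a (ops (dn J) (GG J)) e) : (∀ k, C.f a k = FF J k) ∧ C.z a ≤ ZZ J := by
  have hG := wf_GG (J := J) (by omega)
  obtain ⟨h4, h5⟩ := fz_all hJ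
  refine ⟨fun k => ?_, ?_⟩
  · have e1 : C.cl.getD k ([], 1) = C.cl.getD (min k C.cl.length) ([], 1) := by
      rcases le_total k C.cl.length with h | h
      · rw [min_eq_left h]
      · rw [min_eq_right h, List.getD_eq_default _ _ h, List.getD_eq_default _ _ le_rfl]
    have e2 := Nat.eq_of_beq_eq_true (List.all_eq_true.1 h4 (min k C.cl.length) (List.mem_range.2 (by omega)))
    have e3 := fxRk_eq hG (C.cl.getD (min k C.cl.length) ([], 1)).1
    rw [Cls.f, e1, finrank_Fx_equiv e (he.wd _), FF]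
    omega
  · have e2 := zRk_le hG C.g C.h C.R
    rw [Cls.z, finrank_Z0_equiv e (he.wd _) (he.wd _)]
    omega

theorem classify9 {V : Type} [AddCommGroup V] [Module F2 V] {a : ℕ → End F2 V} (ha : Good okW 14 a) (hs : Simple a)
    (hd : finrank F2 V ≤ 248) : ∃ J < 9, ∃ e : V ≃ₗ[F2] X (dn J), Hom a (ops (dn J) (GG J)) e := by
  obtain ⟨J, hJ, e, he⟩ := classify ha hs
  refine ⟨J, lt_of_le_of_ne (Nat.le_of_lt_succ hJ) fun h => ?_, e, he⟩
  have h1 := e.finrank_eq
  rw [Module.finrank_fin_fun, h] at h1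
  have h2 : dn 9 = 256 := rfl
  omega

theorem tab44 : Tab okW 14 248 C 9 FF ZZ := by
  intro M _ _ _ a ha hs hd
  obtain ⟨J, hJ, e, he⟩ := classify9 ha hs hd
  exact ⟨J, hJ, ent44 hJ e he⟩

section

variable {V : Type} [AddCommGroup V] [Module F2 V] [FiniteDimensional F2 V] {a : ℕ → End F2 V}

theorem sol44 (ha : Good okW 14 a) (hd : finrank F2 V ≤ 248) : ∃ n, Sol C 9 FF ZZ a n := sol chk_ok tab44 _ V a rfl hd ha

/-- the subspace contains the module of a table -/
def Has (a : ℕ → End F2 V) (U : Submodule F2 V) (n : ℕ) (G : List (List (ℕ × ℕ))) : Prop :=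
  ∃ e : X n →ₗ[F2] V, Function.Injective e ∧ Hom (ops n G) a e ∧ ∀ x, e x ∈ U

/-- a simple submodule is a composition factor -/
theorem soc44 (ha : Good okW 14 a) (hd : finrank F2 V ≤ 248) {U : Submodule F2 V} (hU : Inv a U) (h0 : U ≠ ⊥) :
    ∃ J < 9, Has a U (dn J) (GG J) ∧ ∃ n, 1 ≤ n J ∧ Sol C 9 FF ZZ a n := by
  obtain ⟨W, hW, hle, hs⟩ := exists_simple a hU h0
  have e0 := Submodule.finrank_quotient_add_finrank W
  obtain ⟨J, hJ, e, he⟩ := classify9 (ha.of_inj (hom_sub a W hW) W.injective_subtype) hs (by omega)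
  obtain ⟨h1, h2⟩ := ent44 hJ e he
  obtain ⟨n', h3⟩ := sol44 (ha.of_surj (hom_quo a W hW) W.mkQ_surjective) (by omega)
  refine ⟨J, hJ, ⟨W.subtype ∘ₗ e.symm.toLinearMap, W.injective_subtype.comp e.symm.injective, fun j v => ?_,
    fun x => hle (e.symm x).2⟩, Pi.single J 1 + n', ?_, Sol.add chk_ok ha (hW := hW) ⟨fun k => ?_, ?_⟩ h3⟩
  · have h4 : e.symm (ops (dn J) (GG J) j v) = subOp a W hW j (e.symm v) := by
      rw [LinearEquiv.symm_apply_eq]
      exact ((he j _).trans (congrArg _ (e.apply_symm_apply v))).symm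
    exact congrArg Subtype.val h4
  · rw [Pi.add_apply, Pi.single_eq_same]
    exact Nat.le_add_right _ _
  · rw [h1, Finset.sum_eq_single J (fun b _ hb => by rw [Pi.single_eq_of_ne hb, zero_mul])
      (fun hb => absurd (Finset.mem_range.2 hJ) hb), Pi.single_eq_same, one_mul]
  · rw [Finset.sum_eq_single J (fun b _ hb => by rw [Pi.single_eq_of_ne hb, zero_mul])
      (fun hb => absurd (Finset.mem_range.2 hJ) hb), Pi.single_eq_same, one_mul]
    exact h2

omit [FiniteDimensional F2 V] in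
theorem sol_eqs {n : ℕ → ℕ} (h : Sol C 9 FF ZZ a n) :
    C.f a 0 = n 0 + 4 * n 1 + 6 * n 3 + 8 * n 4 + 8 * n 5 + 8 * n 6 + 40 * n 7 + 48 * n 8 ∧
    C.f a 1 = n 0 + 4 * n 2 + 8 * n 3 + 6 * n 4 + 8 * n 5 + 8 * n 6 + 48 * n 7 + 40 * n 8 ∧
    C.f a 2 = n 0 + 4 * n 1 + 4 * n 3 + 8 * n 5 + 24 * n 7 + 16 * n 8 ∧
    C.f a 3 = n 0 + 4 * n 2 + 4 * n 4 + 8 * n 6 + 16 * n 7 + 24 * n 8 ∧
    C.f a 4 = n 0 + 4 * n 3 + 4 * n 4 + 8 * n 5 + 8 * n 6 + 24 * n 7 + 24 * n 8 ∧
    C.f a 5 = n 0 + 8 * n 7 + 8 * n 8 ∧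
    C.f a 6 = n 0 + 8 * n 1 + 8 * n 2 + 16 * n 3 + 16 * n 4 + 32 * n 5 + 32 * n 6 + 128 * n 7 + 128 * n 8 ∧
    C.z a ≤ 2 * n 1 + 2 * n 2 + 128 * n 7 + 128 * n 8 := by
  have key : ∀ (F : ℕ → ℕ) (c0 c1 c2 c3 c4 c5 c6 c7 c8 : ℕ), (List.range 9).map F = [c0, c1, c2, c3, c4, c5, c6, c7, c8] →
      ∑ J ∈ Finset.range 9, n J * F J = n 0 * c0 + n 1 * c1 + n 2 * c2 + n 3 * c3 + n 4 * c4 + n 5 * c5 + n 6 * c6 +
        n 7 * c7 + n 8 * c8 := by
    intro F c0 c1 c2 c3 c4 c5 c6 c7 c8 e
    have e' : [F 0, F 1, F 2, F 3, F 4, F 5, F 6, F 7, F 8] = [c0, c1, c2, c3, c4, c5, c6, c7, c8] := e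
    simp only [List.cons.injEq, and_true] at e'
    obtain ⟨rfl, rfl, rfl, rfl, rfl, rfl, rfl, rfl, rfl⟩ := e'
    simp only [Finset.sum_range_succ, Finset.sum_range_zero, zero_add]
  have e0 := (h.1 0).trans (key (FF · 0) 1 4 0 6 8 8 8 40 48 (by decide))
  have e1 := (h.1 1).trans (key (FF · 1) 1 0 4 8 6 8 8 48 40 (by decide))
  have e2 := (h.1 2).trans (key (FF · 2) 1 4 0 4 0 8 0 24 16 (by decide))
  have e3 := (h.1 3).trans (key (FF · 3) 1 0 4 0 4 0 8 16 24 (by decide))
  have e4 := (h.1 4).trans (key (FF · 4) 1 0 0 4 4 8 8 24 24 (by decide))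
  have e5 := (h.1 5).trans (key (FF · 5) 1 0 0 0 0 0 0 8 8 (by decide))
  have e6 := (h.1 6).trans (key (FF · 6) 1 8 8 16 16 32 32 128 128 (by decide))
  have e7 := h.2.trans (key ZZ 0 2 2 0 0 0 0 128 128 (by decide)).le
  omega

end

/-- the six solutions: the multiplicities, the dimensions for `y₁ y₃ x₁ x₃ x₅` and the element of order 17 -/
noncomputable def SOL : List (List ℕ × List ℕ) :=
  (by
  refine (?fq9059 : ((pk61l_v3 (fun i1 => (_root_.Prod.mk (pk61l_v3 (fun i2 => (pk61d_v3 (nat_lit 6) 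
    (nat_lit 0x40040002084200040042004088000002100244400002000104250000000201048800000001208060) i2)) (Nat.mul (nat_lit 9) i1) (Nat.mul (nat_lit 9) (Nat.succ i1)) List.nil) (pk61l_v3 (fun i2 => (pk61d_v3 (nat_lit 8) 
    (nat_lit 0x10303030505c103030305c50103044305c5010303044505c204444445c8620444444865c) i2)) (Nat.mul (nat_lit 6) i1) (Nat.mul (nat_lit 6) (Nat.succ i1)) List.nil))) (nat_lit 0) (nat_lit 6) List.nil) : List (List ℕ × List ℕ))
    = ?xq9059 → (List (List ℕ × List ℕ))) ?hq9059; (case hq9059 => (set_option maxRecDepth 1000000 in set_option simprocs false in conv => lhs; reduce; dsimp only)); intro _; exact ?xq9059 : List (List ℕ × List ℕ))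

/-- a bounded quantifier with a condition -/
noncomputable def alc (m : ℕ) (c p : ℕ → Bool) : Bool :=
  Nat.rec (motive := fun _ => Bool) true (fun i ih => cond (c i) (p i && ih) ih) m

theorem alc_spec {m : ℕ} {c p : ℕ → Bool} (h : alc m c p = true) {i : ℕ} (hi : i < m) (hc : c i = true) : p i = true := by
  induction m with
  | zero => exact absurd hi (Nat.not_lt_zero _)
  | succ m ih =>
    have h' : cond (c m) (p m && alc m c p) (alc m c p) = true := h
    rcases Nat.lt_succ_iff_lt_or_eq.1 hi with h1 | rfl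
    · refine ih ?_ h1
      cases e : c m with
      | false => rwa [e] at h'
      | true => rw [e, cond_true, Bool.and_eq_true] at h'; exact h'.2
    · rw [hc, cond_true, Bool.and_eq_true] at h'
      exact h'.1

/-- one of two values -/
def two (x a b : ℕ) : Bool := Nat.beq x a || Nat.beq x b

theorem two_of {x a b : ℕ} (h : x = a ∨ x = b) : two x a b = true := by
  rw [two, Bool.or_eq_true, Nat.beq_eq, Nat.beq_eq]
  exact h

private noncomputable def _root_.Cfsg.Agent.KO58904e0.k78 : (by first | exact type_of% @Cfsg.Agent.E82.M44.alc | exact Unit : Sort _) := by first | (refine @Subtype.val _ (fun g => @Cfsg.Agent.E82.M44.alc = @g) (@Subtype.mk _ _ (@(fun x0 x1 x2 => @Nat.rec.{1} @(fun x3 => @Bool) @Bool.true @(fun x3 x4 => @Bool.rec.{1} @(fun x5 => @Bool) @x4 (@Bool.rec.{1} @(fun x5 => @Bool) @Bool.false @x4 (@x2 @x3)) (@x1 @x3)) @x0)) ?_); rfl') | exact @Cfsg.Agent.E82.M44.alc | exact ()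
private theorem _root_.Cfsg.Agent.KO58904e0.e78 : (by first | exact @Cfsg.Agent.E82.M44.alc = @_root_.Cfsg.Agent.KO58904e0.k78 | exact True : Prop) := by first | (delta _root_.Cfsg.Agent.KO58904e0.k78; exact @Subtype.property _ (fun g => @Cfsg.Agent.E82.M44.alc = @g) _) | rfl | trivial
private noncomputable def _root_.Cfsg.Agent.KO58904e0.k79 : (by first | exact type_of% @Cfsg.Agent.E82.M44.two | exact Unit : Sort _) := by first | (refine @Subtype.val _ (fun g => @Cfsg.Agent.E82.M44.two = @g) (@Subtype.mk _ _ (@(fun x0 x1 x2 => @Bool.rec.{1} @(fun x3 => @Bool) (@Nat.beq @x0 @x2) @Bool.true (@Nat.beq @x0 @x1))) ?_); rfl') | exact @Cfsg.Agent.E82.M44.two | exact ()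
private theorem _root_.Cfsg.Agent.KO58904e0.e79 : (by first | exact @Cfsg.Agent.E82.M44.two = @_root_.Cfsg.Agent.KO58904e0.k79 | exact True : Prop) := by first | (delta _root_.Cfsg.Agent.KO58904e0.k79; exact @Subtype.property _ (fun g => @Cfsg.Agent.E82.M44.two = @g) _) | rfl | trivial
private noncomputable def _root_.Cfsg.Agent.KO58904e0.k80.{ku0} : type_of% @List.elem.{ku0} := @(fun x0 x1 x2 x3 => @List.rec.{1, ku0} @x0 @(fun x4 => @Bool) @Bool.false @(fun x4 x5 x6 => @Bool.rec.{1} @(fun x7 => @Bool) @x6 @Bool.true (@BEq.beq.{ku0} _ @x1 @x2 @x4)) @x3)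
private theorem _root_.Cfsg.Agent.KO58904e0.e80.{ku0} : @List.elem.{ku0} = @_root_.Cfsg.Agent.KO58904e0.k80.{ku0} := by delta _root_.Cfsg.Agent.KO58904e0.k80; funext a0 a1 a2 a3; refine (_root_.Cfsg.Agent.KO58904e0.e9 (fun a3 => @List.elem.{ku0} a0 a1 a2 a3) ?_ (fun c0 c1 => ?_) a3 :) <;> (rfl')
private noncomputable def _root_.Cfsg.Agent.KO58904e0.k81.{ku0} : type_of% @List.contains.{ku0} := @(fun x0 x1 x2 x3 => @Cfsg.Agent.KO58904e0.k80.{ku0} _ @x1 @x3 @x2)
private theorem _root_.Cfsg.Agent.KO58904e0.e81.{ku0} : @List.contains.{ku0} = @_root_.Cfsg.Agent.KO58904e0.k81.{ku0} := by delta _root_.Cfsg.Agent.KO58904e0.k81; rewrite [← Cfsg.Agent.KO58904e0.e80.{ku0}]; rfl'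

theorem num_aux : (alc 2 (fun _ => true) fun n7 => alc 2 (fun _ => true) fun n8 =>
    alc 33 (fun n0 => two (n0 + 8 * n7 + 8 * n8) 16 32) fun n0 => alc 8 (fun _ => true) fun n5 => alc 8 (fun _ => true) fun n6 =>
    alc 16 (fun n3 => Nat.ble (n0 + 4 * n3 + 8 * n5 + 8 * n6 + 24 * n7 + 24 * n8) 68) fun n3 =>
    alc 16 (fun n4 => two (n0 + 4 * n3 + 4 * n4 + 8 * n5 + 8 * n6 + 24 * n7 + 24 * n8) 68 48) fun n4 =>
    alc 18 (fun n1 => two (n0 + 4 * n1 + 4 * n3 + 8 * n5 + 24 * n7 + 16 * n8) 68 48) fun n1 =>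
    alc 18 (fun n2 => two (n0 + 4 * n2 + 4 * n4 + 8 * n6 + 16 * n7 + 24 * n8) 68 48 &&
      (Nat.beq (n0 + 8 * n1 + 8 * n2 + 16 * n3 + 16 * n4 + 32 * n5 + 32 * n6 + 128 * n7 + 128 * n8) 248 &&
      [(134, 92), (80, 92), (92, 134), (92, 80), (86, 86)].contains
        (n0 + 4 * n1 + 6 * n3 + 8 * n4 + 8 * n5 + 8 * n6 + 40 * n7 + 48 * n8,
          n0 + 4 * n2 + 8 * n3 + 6 * n4 + 8 * n5 + 8 * n6 + 48 * n7 + 40 * n8))) fun n2 =>
    SOL.contains ([n0, n1, n2, n3, n4, n5, n6, n7, n8], [n0 + 4 * n1 + 6 * n3 + 8 * n4 + 8 * n5 + 8 * n6 + 40 * n7 + 48 * n8,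
      n0 + 4 * n2 + 8 * n3 + 6 * n4 + 8 * n5 + 8 * n6 + 48 * n7 + 40 * n8,
      n0 + 4 * n1 + 4 * n3 + 8 * n5 + 24 * n7 + 16 * n8, n0 + 4 * n2 + 4 * n4 + 8 * n6 + 16 * n7 + 24 * n8,
      n0 + 4 * n3 + 4 * n4 + 8 * n5 + 8 * n6 + 24 * n7 + 24 * n8, n0 + 8 * n7 + 8 * n8])) = true := by
  (first | (rewrite [Cfsg.Agent.KO58904e0.e78, Cfsg.Agent.KO58904e0.e79, Cfsg.Agent.KO58904e0.e0, Cfsg.Agent.KO58904e0.e81.{0}, Cfsg.Agent.KO58904e0.e13]; decide +kernel) | decide +kernel)

/-- **the six solutions** -/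
theorem num44 {n0 n1 n2 n3 n4 n5 n6 n7 n8 y1 y3 x1 x3 x5 s : ℕ}
    (e0 : y1 = n0 + 4 * n1 + 6 * n3 + 8 * n4 + 8 * n5 + 8 * n6 + 40 * n7 + 48 * n8)
    (e1 : y3 = n0 + 4 * n2 + 8 * n3 + 6 * n4 + 8 * n5 + 8 * n6 + 48 * n7 + 40 * n8)
    (e2 : x1 = n0 + 4 * n1 + 4 * n3 + 8 * n5 + 24 * n7 + 16 * n8)
    (e3 : x3 = n0 + 4 * n2 + 4 * n4 + 8 * n6 + 16 * n7 + 24 * n8)
    (e4 : x5 = n0 + 4 * n3 + 4 * n4 + 8 * n5 + 8 * n6 + 24 * n7 + 24 * n8) (e5 : s = n0 + 8 * n7 + 8 * n8)
    (e6 : 248 = n0 + 8 * n1 + 8 * n2 + 16 * n3 + 16 * n4 + 32 * n5 + 32 * n6 + 128 * n7 + 128 * n8)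
    (hy : (y1, y3) ∈ [(134, 92), (80, 92), (92, 134), (92, 80), (86, 86)])
    (h1 : x1 = 68 ∨ x1 = 48) (h3 : x3 = 68 ∨ x3 = 48) (h5 : x5 = 68 ∨ x5 = 48) (hs : s = 16 ∨ s = 32) :
    ([n0, n1, n2, n3, n4, n5, n6, n7, n8], [y1, y3, x1, x3, x5, s]) ∈ SOL := by
  have b1 : x1 ≤ 68 := h1.elim (fun h => h.le) fun h => h.le.trans (by decide)
  have b3 : x3 ≤ 68 := h3.elim (fun h => h.le) fun h => h.le.trans (by decide)
  have b5 : x5 ≤ 68 := h5.elim (fun h => h.le) fun h => h.le.trans (by decide)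
  have bs : s ≤ 32 := hs.elim (fun h => h.le.trans (by decide)) fun h => h.le
  have m1 := two_of h1
  have m3 := two_of h3
  have m5 := two_of h5
  have ms := two_of hs
  clear h1 h3 h5 hs
  subst e0 e1 e2 e3 e4 e5
  have c : n7 < 2 ∧ n8 < 2 ∧ n0 < 33 ∧ n5 < 8 ∧ n6 < 8 ∧ n3 < 16 ∧ n4 < 16 ∧ n1 < 18 ∧ n2 < 18 ∧
      n0 + 4 * n3 + 8 * n5 + 8 * n6 + 24 * n7 + 24 * n8 ≤ 68 := by
    clear hy m1 m3 m5 ms
    refine ⟨?_, ?_, ?_, ?_, ?_, ?_, ?_, ?_, ?_, ?_⟩ <;> omega
  obtain ⟨c7, c8, c0, c5, c6, c3, c4, c1, c2, c9⟩ := c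
  exact List.contains_iff_mem.1 (alc_spec (alc_spec (alc_spec (alc_spec (alc_spec (alc_spec (alc_spec (alc_spec (alc_spec num_aux
    c7 rfl) c8 rfl) c0 ms) c5 rfl) c6 rfl) c3 (Nat.ble_eq.mpr c9)) c4 m5) c1 m1) c2
      (by rw [m3, Bool.true_and, ← e6, List.contains_iff_mem.2 hy]; rfl))

end Cfsg.Agent.E82.M44
end

-- part: E82/M44/Row
section
/-!
# The pressure machine for `Sp₄(4)`: the output (helper79)

With `y₁ = ph 0 b5`, `y₃ = ph 2 b5`, `x₁ = ph 0 x5`, `x₃ = ph 2 x5`, `x₅ = ph 0 x5 * ph 1 x5 ^ 2`: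

* `types` : the dimensions of the fixed spaces; `rowA` : `cf x₁ = cf x₃ = 68` gives a fixed vector;
* `socB`, `socB'` : the simple submodules for `(68, 48)` and `(48, 68)`.
-/

set_option autoImplicit false
set_option maxRecDepth 100000

namespace Cfsg.Agent.E82.M44

open Cfsg Cfsg.Lie Module Cfsg.Agent.E82.Mach Cfsg.Agent.E82.Grp
open Cfsg.Agent.H939.L64 (E2 L2)
open Cfsg.Agent.E8A (act)
open Cfsg.Agent.Lib.VonDyck (a5 b5)
open Cfsg.Agent.E82.F5 (x5 w5)

variable {f : S44 →* E2} {ρ : S44 →* End F2 L2}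

/-- the action on the rational module -/
noncomputable def rho (f : S44 →* E2) : S44 →* End F2 L2 where
  toFun s := Matrix.mulVecLin ((f s : GL chevE8.Idx (ZMod 2)) : Matrix chevE8.Idx chevE8.Idx (ZMod 2))
  map_one' := LinearMap.ext fun v => by rw [map_one]; exact Cfsg.Agent.E8A.act_one v
  map_mul' := fun a b => LinearMap.ext fun v => by rw [map_mul]; exact Cfsg.Agent.E8A.act_mul _ _ v

theorem rho_apply (f : S44 →* E2) (s : S44) (v : L2) : rho f s v = act (f s) v := rfl

theorem fx_cf (hρ : ∀ s v, ρ s v = act (f s) v) {w : List ℕ} (hw : inR 14 w = true) :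
    finrank F2 (Fx (wd (opR ρ sg 14) w)) = cf (f (pw sg w)) := by
  rw [wd_opR ρ sg (inR_lt hw), ← fd_two (f (pw sg w)) (ρ (pw sg w)) (hρ _), Fx, LinearMap.eqLocus_eq_ker_sub]

theorem cf_conj (f : S44 →* E2) {s t : S44} (h : IsConj s t) : cf (f s) = cf (f t) := by
  obtain ⟨u, rfl⟩ := isConj_iff.1 h
  rw [map_mul, map_mul, map_inv, fd_conj]

theorem dim_L2 (f : S44 →* E2) : finrank F2 L2 = 248 := by
  have h := fx_cf (rho_apply f) (w := []) rfl
  rwa [wd_nil, Fx_one, finrank_top, pw_nil, map_one, fd_one] at h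

theorem x5_eq : ph 0 x5 * ph 1 x5 ^ 2 = G 3289595955 := by
  rw [ph_x, ph_x, pow_two]
  simpa [mul_assoc] using prod_eq [nX 0, nX 1, nX 1] [3289595955] (by decide +kernel)

theorem f_eqs (hρ : ∀ s v, ρ s v = act (f s) v) : C.f (opR ρ sg 14) 0 = cf (f (ph 0 b5)) ∧
    C.f (opR ρ sg 14) 1 = cf (f (ph 2 b5)) ∧ C.f (opR ρ sg 14) 2 = cf (f (ph 0 x5)) ∧
    C.f (opR ρ sg 14) 3 = cf (f (ph 2 x5)) ∧ C.f (opR ρ sg 14) 4 = cf (f (ph 0 x5 * ph 1 x5 ^ 2)) ∧
    C.f (opR ρ sg 14) 5 = cf (f (G 274222412)) ∧ C.f (opR ρ sg 14) 6 = 248 := by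
  refine ⟨(fx_cf hρ (w := [13]) rfl).trans (cf_conj f ?_), (fx_cf hρ (w := [12]) rfl).trans (cf_conj f ?_),
    (fx_cf hρ (w := [11, 2]) rfl).trans (cf_conj f ?_), (fx_cf hρ (w := [9, 0]) rfl).trans (cf_conj f ?_),
    (fx_cf hρ (w := [10, 8, 2, 0]) rfl).trans (cf_conj f ?_), (fx_cf hρ (w := [11, 8, 2, 0]) rfl).trans ?_,
    (fx_cf hρ (w := []) rfl).trans ?_⟩
  · rw [pw_G (a := 3222276097) (by decide +kernel), ph_b]
    exact isConj 843059460 (by decide +kernel)
  · rw [pw_G (a := 2150632450) (by decide +kernel), ph_b]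
    exact isConj 1442461675 (by decide +kernel)
  · rw [pw_G (a := 1209027585) (by decide +kernel), ph_x]
    exact isConj 549454600 (by decide +kernel)
  · rw [pw_G (a := 3499099655) (by decide +kernel), ph_x]
    exact isConj 173065633 (by decide +kernel)
  · rw [pw_G (a := 273957184) (by decide +kernel), x5_eq]
    exact isConj 3354285411 (by decide +kernel)
  · rw [pw_G (a := 274222412) (by decide +kernel)]
  · rw [pw_nil, map_one, fd_one]

theorem ord_of (hf : Function.Injective f) {a n : ℕ} (h1 : chk (List.replicate n a) [] = true) (h2 : okb a = true)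
    (h3 : mt a ≠ mt one) : f (G a) ^ n = 1 ∧ f (G a) ≠ 1 :=
  ⟨by rw [← map_pow, pow_eq_one n h1, map_one], fun e => ne_one h2 h3 (hf (e.trans (map_one f).symm))⟩

theorem y_pair (hf : Function.Injective f) :
    (cf (f (ph 0 b5)), cf (f (ph 2 b5))) ∈ [(134, 92), (80, 92), (92, 134), (92, 80), (86, 86)] := by
  have o : ∀ i, f (ph i b5) ^ 3 = 1 ∧ f (ph i b5) ≠ 1 := fun i => by
    have h : ∀ i, okb (nB i) = true ∧ mt (nB i) ≠ mt one := by decide +kernel
    rw [ph_b]
    exact ord_of hf (chk_all i).2.1 (h i).1 (h i).2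
  have hp := par (o 0).1 (o 1).1 ((c01 b5 b5).map f)
  rw [← map_inv, ← map_mul, ← map_mul, cf_conj f ym, cf_conj f yd, ← cf_conj f y01] at hp
  rcases fd3 (o 0).1 (o 0).2 with a | a | a | a <;> rcases fd3 (o 2).1 (o 2).2 with b | b | b | b <;>
    rw [a, b] at hp ⊢ <;> revert hp <;> decide

theorem sol_mem (hf : Function.Injective f) (hρ : ∀ s v, ρ s v = act (f s) v) {n : ℕ → ℕ}
    (h : Sol C 9 FF ZZ (opR ρ sg 14) n) : ([n 0, n 1, n 2, n 3, n 4, n 5, n 6, n 7, n 8],
      [cf (f (ph 0 b5)), cf (f (ph 2 b5)), cf (f (ph 0 x5)), cf (f (ph 2 x5)), cf (f (ph 0 x5 * ph 1 x5 ^ 2)),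
        cf (f (G 274222412))]) ∈ SOL := by
  obtain ⟨e0, e1, e2, e3, e4, e5, e6, -⟩ := sol_eqs h
  obtain ⟨a0, a1, a2, a3, a4, a5, a6⟩ := f_eqs hρ
  have o : ∀ i, cf (f (ph i x5)) = 68 ∨ cf (f (ph i x5)) = 48 := fun i => by
    have h := ord_of hf (chk_all i).2.2.2.1 (chk_all i).2.2.2.2.2.2.2.1 (chk_all i).2.2.2.2.2.2.2.2
    rw [ph_x]
    exact fd5 h.1 h.2
  have o5 := ord_of hf (a := 3289595955) (n := 5) (by decide +kernel) (by decide +kernel) (by decide +kernel)
  have o17 := ord_of hf (a := 274222412) (n := 17) (by decide +kernel) (by decide +kernel) (by decide +kernel)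
  exact num44 (a0.symm.trans e0) (a1.symm.trans e1) (a2.symm.trans e2) (a3.symm.trans e3) (a4.symm.trans e4)
    (a5.symm.trans e5) (a6.symm.trans e6) (y_pair hf) (o 0) (o 2) (x5_eq ▸ fd5 o5.1 o5.2) (fd17 o17.1 o17.2)

theorem fixd_of (hρ : ∀ s v, ρ s v = act (f s) v) {v : L2} (h0 : v ≠ 0) (h : ∀ j < 14, opR ρ sg 14 j v = v) : Fixd f := by
  let M : Subgroup S44 :=
    { carrier := {s | ρ s v = v}
      mul_mem' := fun {a b} ha hb => by
        show ρ (a * b) v = v
        rw [map_mul, End.mul_apply, show ρ b v = v from hb, show ρ a v = v from ha]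
      one_mem' := by
        show ρ 1 v = v
        rw [map_one, End.one_apply]
      inv_mem' := fun {a} ha => by
        show ρ a⁻¹ v = v
        conv_lhs => rw [← show ρ a v = v from ha]
        rw [← End.mul_apply, ← map_mul, inv_mul_cancel, map_one, End.one_apply] }
  have h1 : M = ⊤ := sg_gen fun j hj => by
    have := h j hj
    rwa [opR, if_pos hj] at this
  exact fixd_of_L2 h0 fun s => (hρ s v).symm.trans (h1 ▸ Subgroup.mem_top s : s ∈ M)

theorem fixd_of_has (hρ : ∀ s v, ρ s v = act (f s) v) {U : Submodule F2 L2} (h : Has (opR ρ sg 14) U 1 G0) : Fixd f := by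
  obtain ⟨e, h1, h2, -⟩ := h
  refine fixd_of hρ (v := e fun _ => 1) (fun h => one_ne_zero (congrFun (h1 (h.trans (map_zero e).symm)) 0)) fun j hj => ?_
  rw [← h2]
  have e1 : G0[j]? = some [] := by
    have h : ∀ j < 14, G0[j]? = some [] := by decide
    exact h j hj
  rw [ops, e1]
  exact congrArg e (LinearMap.congr_fun (add_zero (1 : End F2 (X 1))) _)

/-- **the simple submodules for `cf x₁ = 68`, `cf x₃ = 48`** -/
theorem socB (hf : Function.Injective f) (hρ : ∀ s v, ρ s v = act (f s) v) (h1 : cf (f (ph 0 x5)) = 68)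
    (h3 : cf (f (ph 2 x5)) = 48) {U : Submodule F2 L2} (hU : Inv (opR ρ sg 14) U) (h0 : U ≠ ⊥) :
    Fixd f ∨ Has (opR ρ sg 14) U 8 G1 ∨ Has (opR ρ sg 14) U 8 G2 ∨ Has (opR ρ sg 14) U 16 G3 ∨ Has (opR ρ sg 14) U 32 G6 := by
  obtain ⟨J, hJ, hH, n, hn1, hn⟩ := soc44 (good ρ) (dim_L2 f).le hU h0
  have h := sol_mem hf hρ hn
  simp only [SOL, List.mem_cons, Prod.mk.injEq, List.cons.injEq, and_true, List.not_mem_nil, or_false] at h
  have h4 : n 4 = 0 ∧ n 5 = 0 ∧ n 7 = 0 ∧ n 8 = 0 := by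
    rcases h with h | h | h | h | h | h <;> obtain ⟨⟨-, -, -, -, a4, a5, -, a7, a8⟩, -, -, c, d, -, -⟩ := h <;> omega
  interval_cases J
  · exact Or.inl (fixd_of_has hρ hH)
  · exact Or.inr (Or.inl hH)
  · exact Or.inr (Or.inr (Or.inl hH))
  · exact Or.inr (Or.inr (Or.inr (Or.inl hH)))
  · omega
  · omega
  · exact Or.inr (Or.inr (Or.inr (Or.inr hH)))
  · omega
  · omega

end Cfsg.Agent.E82.M44
end

private theorem dce_d5fc55749fbf : _root_.True := by
  try have : _root_.True := by simp only [_root_.Cfsg.Agent.E82.M44.FF.eq_1]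
  try have : _root_.True := by simp only [_root_.Cfsg.Agent.E82.M44.two.eq_1]
  try have : _root_.True := by simp only [_root_.Cfsg.Agent.E82.Mach.Fx.eq_1]
  try have : _root_.True := by simp only [_root_.Cfsg.Agent.E82.M44.SOL.eq_1]
  exact _root_.True.intro
end

-- part: E82/Mach/E2
section
prune_inst 0x10000000000000
set_option linter.all false
open scoped Cfsg.Agent.FastGrp

/-!
# The pressure machine on the adjoint module of `E₈(2)` (helper38)

* `opE f σ k` : the letters on `L2`; `cf_wd` : fixed spaces; `mach` : multiplicities and the pressure inequality;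
* `soc` : every non-zero invariant subspace contains a simple one, which has a weight.
-/

set_option autoImplicit false
set_option maxRecDepth 100000

namespace Cfsg.Agent.E82.Mach

open Module
open Cfsg.Agent.H939.L64 (E2 L2)
open Cfsg.Agent.E8A (act)

variable {S : Type} [Group S]

/-- the representation on the adjoint module -/
noncomputable def tauE (f : S →* E2) : S →* End F2 L2 := (Cfsg.Agent.E8A.LK (ZMod 2)).comp f

theorem tauE_apply (f : S →* E2) (s : S) (v : L2) : tauE f s v = act (f s) v := rfl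

/-- the letters on the adjoint module -/
noncomputable def opE (f : S →* E2) (σ : ℕ → S) (k : ℕ) : ℕ → End F2 L2 := opR (tauE f) σ k

theorem opE_apply (f : S →* E2) (σ : ℕ → S) {k j : ℕ} (h : j < k) (v : L2) : opE f σ k j v = act (f (σ j)) v := by
  rw [opE, opR, if_pos h]; rfl

theorem wd_opE (f : S →* E2) (σ : ℕ → S) {k : ℕ} {w : List ℕ} (hw : ∀ j ∈ w, j < k) (v : L2) :
    wd (opE f σ k) w v = act (f (pw σ w)) v := by
  rw [opE, wd_opR _ _ hw]; rfl

theorem cf_wd (f : S →* E2) (σ : ℕ → S) {k : ℕ} {w : List ℕ} (hw : ∀ j ∈ w, j < k) :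
    finrank F2 (Fx (wd (opE f σ k) w)) = cf (f (pw σ w)) := by
  rw [← fd_two (f (pw σ w)) (wd (opE f σ k) w) (wd_opE f σ hw), Fx, LinearMap.eqLocus_eq_ker_sub]

theorem finrank_L2 : finrank F2 L2 = 248 := by
  have h := cf_wd (1 : Unit →* E2) (fun _ => ()) (k := 0) (w := []) fun _ h => absurd h List.not_mem_nil
  rw [wd_nil, Fx_one, finrank_top, MonoidHom.one_apply, fd_one] at h
  exact h

theorem fixd_of_letters {f : S →* E2} {σ : ℕ → S} {k : ℕ} (hgen : ∀ K : Subgroup S, (∀ j < k, σ j ∈ K) → K = ⊤) {v : L2}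
    (hv : v ≠ 0) (h : ∀ j < k, opE f σ k j v = v) : Fixd f := by
  refine fixd_of_L2 hv fun s => ?_
  let K : Subgroup S :=
    { carrier := {s | tauE f s v = v}
      one_mem' := by show tauE f 1 v = v; rw [map_one]; rfl
      mul_mem' := fun {a b} ha hb => by
        show tauE f (a * b) v = v
        rw [map_mul, End.mul_apply, show tauE f b v = v from hb, show tauE f a v = v from ha]
      inv_mem' := fun {a} ha => by
        show tauE f a⁻¹ v = v
        conv_lhs => rw [← show tauE f a v = v from ha]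
        rw [← End.mul_apply, ← map_mul, inv_mul_cancel, map_one]; rfl }
  have h1 : K = ⊤ := hgen K fun j hj => (opE_apply f σ hj v).symm.trans (h j hj)
  exact (h1 ▸ Subgroup.mem_top s : s ∈ K)

/-- the words are in range -/
def Cls.inR (C : Cls) (k : ℕ) : Bool := (C.cl.all fun p => Mach.inR k p.1) && Mach.inR k C.g

theorem Cls.cl_lt {C : Cls} {k : ℕ} (h : C.inR k = true) (t : ℕ) : ∀ j ∈ (C.cl.getD t ([], 1)).1, j < k := by
  rw [Cls.inR, Bool.and_eq_true] at h
  by_cases ht : t < C.cl.length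
  · rw [List.getD_eq_getElem _ _ ht]
    exact inR_lt (List.all_eq_true.1 h.1 _ (List.getElem_mem ht))
  · rw [List.getD_eq_default _ _ (not_lt.1 ht)]
    exact fun _ h => absurd h List.not_mem_nil

end Cfsg.Agent.E82.Mach

private theorem dce_f4ada6c03544 : _root_.True := by
  try have : _root_.True := by simp only [_root_.Cfsg.Agent.E82.Mach.Fx.eq_1]
  try have : _root_.True := by simp only [_root_.Cfsg.Agent.E82.Mach.Cls.inR.eq_1]
  try have : _root_.True := by simp only [_root_.Cfsg.Agent.E82.Mach.opE.eq_1]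
  exact _root_.True.intro
end

-- part: E82/U4/Num
section
prune_inst 0x20202404286200000018058433002000cc00000200630000c94008000101c14000010701060010120056bc003004006000040010404000000400300000000000000212049058ac00300000800084000000000000000000000000000000010004000000000
set_option linter.all false
open scoped Cfsg.Agent.FastGrp

/-!
# S3369, row `U₄(2)`: the dimensions of the fixed spaces of the 3-subgroups (helper39)
-/

set_option autoImplicit false
set_option linter.unusedSectionVars false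
set_option maxRecDepth 100000

namespace Cfsg.Agent.E82.U4

open Module
open Cfsg.Agent.H180.U42 (GG one)
open Cfsg.Agent.H939.L64 (KK E2 LK em aK rE finrank_LK)
open Cfsg.Agent.H943.RepAdd (eig)
open Cfsg.Agent.H413.L16 (lin lin_apply)
open Cfsg.Agent.H876.L64 (two_zero aK_mul aK_one aK_inv aK_inv')
open Cfsg.Agent.H942.L16 (BF BF_aK BF_symm BF_eq_zero)
open Cfsg.Agent.E82.Fr

/-- the adjoint representation of the algebraic group -/
noncomputable def aH : GK →* End KK LK where
  toFun := lin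
  map_one' := LinearMap.ext aK_one
  map_mul' := fun a b => LinearMap.ext (aK_mul a b)

/-- the homomorphism in a frame -/
noncomputable def fz (π : GG →* E2) (z : GK) : GG →* GK := (cj z).comp π

/-- the representation in a frame -/
noncomputable def rz (π : GG →* E2) (z : GK) : GG →* End KK LK := aH.comp (fz π z)

theorem fz_apply (π : GG →* E2) (z : GK) (g : GG) : fz π z g = cj z (π g) := rfl

theorem rz_apply (π : GG →* E2) (z : GK) (g : GG) (v : LK) : rz π z g v = aK (fz π z g) v := rfl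

theorem R_rz (π : GG →* E2) (z : GK) (l : List ℕ) (v : LK) : R (rz π z) l v = aK (fz π z (W l)) v := rfl

/-- the data -/
structure Rep (π : GG →* E2) (ρ : GG →* End KK LK) : Prop where
  inj : Function.Injective π
  dim : ∀ g, finrank KK (fx (ρ g)) = cf (π g)
  inv : ∀ g u v, BF (ρ g u) (ρ g v) = BF u v
  nf : ∀ v, (∀ g, ρ g v = v) → v = 0

theorem rep_rz {π : GG →* E2} (h : Function.Injective π) (h0 : ¬ Fixd π) (z : GK) : Rep π (rz π z) := by
  have hz : Function.Injective (lin z) := fun u v e => by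
    rw [← aK_inv' z u, ← aK_inv' z v]
    exact congrArg (aK z⁻¹) e
  refine ⟨h, fun g => ?_, fun g u v => BF_aK _ u v, fun v hv => ?_⟩
  · have h1 : (fx (rz π z g)).map (lin z) = eig rE (π g) 1 := by
      ext v
      rw [mem_eig1, Submodule.mem_map]
      constructor
      · rintro ⟨w, hw, rfl⟩
        rw [lin_apply, rE_cj]
        exact congrArg (aK z) (mem_fx.1 hw)
      · intro hv
        refine ⟨aK z⁻¹ v, mem_fx.2 (hz ?_), aK_inv z v⟩
        rw [lin_apply, lin_apply, rz_apply, fz_apply, ← rE_cj, aK_inv, hv]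
    unfold cf
    rw [← h1]
    exact (Submodule.equivMapOfInjective _ hz _).finrank_eq
  · by_contra h1
    refine h0 ⟨aK z v, fun e => h1 (hz (e.trans (map_zero (lin z)).symm)), fun s => ?_⟩
    rw [rE_cj]
    exact congrArg (aK z) (hv s)

/-- the word of an element of order nine -/
def wx : List ℕ := we ++ wr

/-- the word of another one -/
def wy : List ℕ := we ++ wr ++ wr

theorem arith {C D T Z E0 a2 a3 a4 a5 a6 a7 EE QQ RR M M' : ℕ} (hz : Z = 86) (h9 : T = 28 ∨ T = 48 ∨ T = 34 ∨ T = 30)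
    (hc : C = 134 ∨ C = 92 ∨ C = 86 ∨ C = 80) (hd : D = 134 ∨ D = 92 ∨ D = 86 ∨ D = 80) (hp : qe D + qe D = 2 * (qe C + qe C))
    (p1 : 162 + 3 * E0 = D + D + D) (p2 : 162 + 3 * a2 = D + C + Z) (p3 : 162 + 3 * a3 = D + C + Z)
    (p4 : 162 + 3 * a4 = Z + C + D) (p5 : 162 + 3 * a5 = D + D + D) (p6 : 162 + 3 * a6 = D + D + D)
    (p7 : 162 + 3 * a7 = D + D + D) (q1 : Z + 3 * EE = E0 + a2 + a3 + a4) (q2 : Z + 3 * QQ = E0 + a5 + a6 + a7)
    (q3 : 86 + 3 * M = E0 + 3 * T) (q4 : 86 + 3 * M' = E0 + 3 * T) (q5 : E0 + 3 * RR = EE + QQ + M + M') (q6 : RR ≤ M)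
    (q7 : RR ≤ QQ) : (C = 92 ∧ D = 134 ∧ EE = 48 ∧ QQ = 78 ∧ RR = 46) ∨ (C = 134 ∧ D = 92 ∧ EE = 34 ∧ QQ = 22 ∧ RR = 18) ∨
      (C = 80 ∧ D = 92 ∧ EE = 16 ∧ QQ = 22 ∧ 8 ≤ RR) ∨ (C = 92 ∧ D = 80 ∧ QQ = 6 ∧ RR = 4) := by
  have hq : ∀ C ∈ [134, 92, 86, 80], ∀ D ∈ [134, 92, 86, 80], qe D + qe D = 2 * (qe C + qe C) →
      (C = 92 ∧ D = 134) ∨ (C = 134 ∧ D = 92) ∨ (C = 80 ∧ D = 92) ∨ (C = 92 ∧ D = 80) ∨ (C = 86 ∧ D = 86) := by decide +kernel
  have h0 : E0 + 54 = D := by linarith only [p1]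
  have h1 : 3 * EE + 216 = C + 2 * D := by linarith only [p1, p2, p3, p4, q1]
  have h2 : 3 * QQ + 302 = 4 * D := by linarith only [hz, p1, p5, p6, p7, q2]
  have h3 : 3 * M + 140 = D + 3 * T := by linarith only [p1, q3]
  have h4 : D + 3 * RR = EE + QQ + 2 * M + 54 := by linarith only [p1, q3, q4, q5]
  clear p1 p2 p3 p4 p5 p6 p7 q1 q2 q3 q4 q5 h0 hz
  rcases hq C (by simpa using hc) D (by simpa using hd) hp with ⟨rfl, rfl⟩ | ⟨rfl, rfl⟩ | ⟨rfl, rfl⟩ | ⟨rfl, rfl⟩ | ⟨rfl, rfl⟩ <;>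
    clear hc hd hp hq
  · exact Or.inl ⟨rfl, rfl, by (clear * - h1; omega), by omega, by (clear * - h9 q6 h2 h3 h4 h1; omega)⟩
  · exact Or.inr (Or.inl ⟨rfl, rfl, by (clear * - h1; omega), by omega, by (clear * - h9 q6 h2 h3 h4 h1; omega)⟩)
  · exact Or.inr (Or.inr (Or.inl ⟨rfl, rfl, by (clear * - h1; omega), by omega, by omega⟩))
  · exact Or.inr (Or.inr (Or.inr ⟨rfl, rfl, by omega, by (clear * - h9 q7 h2 h3 h4 h1; omega)⟩))
  · exfalso; omega

theorem arith2 {C D EE QQ RR A B : ℕ} (h1 : (C = 92 ∧ D = 134 ∧ EE = 48 ∧ QQ = 78 ∧ RR = 46) ∨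
    (C = 134 ∧ D = 92 ∧ EE = 34 ∧ QQ = 22 ∧ RR = 18) ∨ (C = 80 ∧ D = 92 ∧ EE = 16 ∧ QQ = 22 ∧ 8 ≤ RR) ∨
    (C = 92 ∧ D = 80 ∧ QQ = 6 ∧ RR = 4)) (h2 : 3 * RR ≤ EE + 2 * A) (h3 : 2 * RR ≤ QQ + B) (h4 : A + B ≤ RR) :
    (C = 80 ∧ D = 92 ∧ QQ = 22 ∧ 8 ≤ RR ∧ 3 * RR ≤ 16 + 2 * A) ∨ (C = 92 ∧ D = 80 ∧ QQ = 6 ∧ RR = 4) := by
  rcases h1 with h1 | h1 | h1 | h1
  · exfalso; omega
  · exfalso; omega
  · exact Or.inl ⟨h1.1, h1.2.1, h1.2.2.2.1, h1.2.2.2.2, by omega⟩
  · exact Or.inr h1

namespace Rep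

variable {π : GG →* E2} {ρ : GG →* End KK LK} (h : Rep π ρ)
include h

theorem df1 (w : List ℕ) : df ρ [w] = cf (π (W w)) := by rw [df, FW_one, R, h.dim]

theorem cj (g : List ℕ) {a b : List ℕ} (e : cw (g ++ a) = cw (b ++ g)) : df ρ [b] = df ρ [a] := by
  rw [h.df1, h.df1, ← W_conj e, map_mul, map_mul, map_inv, fd_conj]

theorem ne {a : List ℕ} (e : H180.U42.cmp (cw a) one ≠ H180.U42.cmp one one) : π (W a) ≠ 1 := fun h1 =>
  W_ne e (h.inj (h1.trans (map_one π).symm))

theorem nd0 : Nd BF (FW ρ []) := fun w _ h1 => BF_eq_zero fun v => h1 v (by rw [FW_nil]; trivial)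

theorem ndZ : Nd BF (FW ρ [wz]) := nd_cons two_zero h.inv (by decide +kernel) h.nd0

theorem nd2 : Nd BF (FW ρ [wd, wz]) := nd_cons two_zero h.inv (by decide +kernel) h.ndZ

theorem ndE : Nd BF (FW ρ [we, wd, wz]) := nd_cons two_zero h.inv (by decide +kernel) h.nd2

theorem ndQ : Nd BF (FW ρ [wr, wd, wz]) := nd_cons two_zero h.inv (by decide +kernel) h.nd2

theorem ndR : Nd BF (FW ρ [wr, we, wd, wz]) := nd_cons two_zero h.inv (by decide +kernel) h.ndE

theorem d0 : df ρ [] = 248 := by rw [df, FW_nil, finrank_top, finrank_LK]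

theorem d9 : df ρ [wz] = 86 ∧ (df ρ [wx] = 28 ∨ df ρ [wx] = 48 ∨ df ρ [wx] = 34 ∨ df ρ [wx] = 30) := by
  have e : π (W wx) ^ 3 = π (W wz) := by
    rw [← map_pow, pow_succ, pow_two, ← W_append, ← W_append, W_eq (b := wz) (by decide +kernel)]
  have h1 := fd9 (x := π (W wx)) (by
    rw [show 9 = 3 * 3 from rfl, pow_mul, e, ← map_pow, W_cube (by decide +kernel), map_one]) (by
    rw [e]; exact h.ne (by decide +kernel))
  rwa [e, ← h.df1, ← h.df1] at h1

theorem d3 {a : List ℕ} (e : cw (a ++ a ++ a) = one) (e' : H180.U42.cmp (cw a) one ≠ H180.U42.cmp one one) :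
    df ρ [a] = 134 ∨ df ρ [a] = 92 ∨ df ρ [a] = 86 ∨ df ρ [a] = 80 := by
  rw [h.df1]
  exact fd3 (by rw [← map_pow, W_cube e, map_one]) (h.ne e')

theorem dpar : qe (df ρ [wd]) + qe (df ρ [wd]) = 2 * (qe (df ρ [[0]]) + qe (df ρ [[0]])) := by
  have h1 := par (a := π (W [0])) (b := π (W [1])) (by rw [← map_pow, W_cube (by decide +kernel), map_one])
    (by rw [← map_pow, W_cube (by decide +kernel), map_one])
    (by rw [Commute, SemiconjBy, ← map_mul, ← map_mul, W_comm (by decide +kernel)])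
  rwa [← map_inv, ← map_mul, ← map_mul, W_inv (b := [1, 1]) (by decide +kernel), ← W_append, ← W_append, ← h.df1, ← h.df1,
    ← h.df1, ← h.df1, h.cj [3, 5, 4] (a := wd) (b := [0] ++ [1]) (by decide +kernel),
    h.cj [4] (a := wd) (b := [0] ++ [1, 1]) (by decide +kernel), h.cj [4] (a := [0]) (b := [1]) (by decide +kernel)] at h1

theorem pair (a g1 g2 g3 b1 b2 b3 : List ℕ) (e : okW [] wz a = true ∧ cw (g1 ++ b1) = cw (a ++ g1) ∧
    cw (g2 ++ b2) = cw (wz ++ a ++ g2) ∧ cw (g3 ++ b3) = cw (wz ++ a ++ a ++ g3)) :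
    162 + 3 * df ρ [a, wz] = df ρ [b1] + df ρ [b2] + df ρ [b3] := by
  have h1 := wielF (ρ := ρ) two_zero [] wz a e.1
  rw [h.d0, h.d9.1, h.cj g1 e.2.1, h.cj g2 e.2.2.1, h.cj g3 e.2.2.2] at h1
  omega

theorem nine (a b g1 g2 : List ℕ) (e : okW [wz] wd a = true ∧ md [a, a, a] wz [] = true ∧ md [wd ++ a, wd ++ a, wd ++ a] wz [] = true ∧
    md [wd ++ a ++ a, wd ++ a ++ a, wd ++ a ++ a] wz [] = true ∧ cw (b ++ wx) = cw (a ++ b) ∧
    cw (g1 ++ wx) = cw (wd ++ a ++ g1) ∧ cw (g2 ++ (wx ++ wx)) = cw (wd ++ a ++ a ++ g2)) :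
    86 + 3 * df ρ [a, wd, wz] = df ρ [wd, wz] + 3 * df ρ [wx] := by
  obtain ⟨e1, e2, e3, e4, e5, e6, e7⟩ := e
  have h1 := wielF (ρ := ρ) two_zero [wz] wd a e1
  have h2 : df ρ [wx ++ wx] = df ρ [wx] := by
    refine le_antisymm ?_ (df_le [] (by decide +kernel))
    rw [df, ← FW_three]
    exact df_le [] (by decide +kernel)
  rw [h.d9.1, df_pow e2, df_pow e3, df_pow e4, h.cj b e5, h.cj g1 e6, h.cj g2 e7, h2] at h1
  omega

/-- the numbers -/
theorem cases : (df ρ [[0]] = 92 ∧ df ρ [wd] = 134 ∧ df ρ [we, wd, wz] = 48 ∧ df ρ [wr, wd, wz] = 78 ∧ df ρ [wr, we, wd, wz] = 46) ∨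
    (df ρ [[0]] = 134 ∧ df ρ [wd] = 92 ∧ df ρ [we, wd, wz] = 34 ∧ df ρ [wr, wd, wz] = 22 ∧ df ρ [wr, we, wd, wz] = 18) ∨
    (df ρ [[0]] = 80 ∧ df ρ [wd] = 92 ∧ df ρ [we, wd, wz] = 16 ∧ df ρ [wr, wd, wz] = 22 ∧ 8 ≤ df ρ [wr, we, wd, wz]) ∨
    (df ρ [[0]] = 92 ∧ df ρ [wd] = 80 ∧ df ρ [wr, wd, wz] = 6 ∧ df ρ [wr, we, wd, wz] = 4) := by
  have hz := h.d9.1
  have h9 := h.d9.2
  have hc := h.d3 (a := [0]) (by decide +kernel) (by decide +kernel)
  have hd := h.d3 (a := wd) (by decide +kernel) (by decide +kernel)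
  have hp := h.dpar
  have p1 := h.pair wd [] [4, 3] [3] wd wd wd (by decide +kernel)
  have p2 := h.pair we [4, 5] [] [5] wd [0] wz (by decide +kernel)
  have p3 := h.pair (wd ++ we) [5] [4] [4, 5] wd [0] wz (by decide +kernel)
  have p4 := h.pair (wd ++ we ++ we) [3, 4, 5] [5, 4] [3, 5] wz [0] wd (by decide +kernel)
  have p5 := h.pair wr [0, 2, 6] [1, 2, 6] [6, 4] wd wd wd (by decide +kernel)
  have p6 := h.pair (wd ++ wr) [2, 2, 6] [0, 6] [1, 6, 4] wd wd wd (by decide +kernel)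
  have p7 := h.pair (wd ++ wr ++ wr) [2, 6, 4] [2, 3, 6] [1, 1, 6] wd wd wd (by decide +kernel)
  have q1 := wielF (ρ := ρ) two_zero [wz] wd we (by decide +kernel)
  have q2 := wielF (ρ := ρ) two_zero [wz] wd wr (by decide +kernel)
  have q3 := h.nine wx [] [1] [0, 0] (by decide +kernel)
  have q4 := h.nine wy [3] [4] [1, 3] (by decide +kernel)
  have q5 := wielF (ρ := ρ) two_zero [wd, wz] we wr (by decide +kernel)
  have q6 : df ρ [wr, we, wd, wz] ≤ df ρ [wx, wd, wz] := df_le [] (by decide +kernel)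
  have q7 : df ρ [wr, we, wd, wz] ≤ df ρ [wr, wd, wz] := df_le [] (by decide +kernel)
  exact arith hz h9 hc hd hp p1 p2 p3 p4 p5 p6 p7 q1 q2 q3 q4 q5 q6 q7

theorem altE : Alt BF (FW ρ [we, wd, wz]) (R ρ wr) (R ρ wk) (R ρ (wr ++ wk ++ wr ++ wr)) (R ρ (wr ++ wr ++ wk ++ wr)) :=
  ⟨tet_of (by decide +kernel) BF_symm h.inv h.ndE, fun v _ => by rw [R_eq2 (c := []) (by decide +kernel), R_nil],
    fun v _ => R_eq2 (by decide +kernel) v, fun v _ => R_eq2 (by decide +kernel) v⟩

theorem dA : 3 * df ρ [wr, we, wd, wz] ≤ df ρ [we, wd, wz] + 2 * df ρ [wk, wr, we, wd, wz] := by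
  have h1 := h.altE.a4a two_zero
  rwa [← FW_cons, ← FW_cons] at h1

theorem dB : 2 * df ρ [wr, we, wd, wz] ≤ df ρ [wr, wd, wz] + df ρ [[6], wr, we, wd, wz] := by
  have h1 := inf_dim (W := FW ρ [wr, wd, wz]) (U := FW ρ [wr, we, wd, wz]) (U' := FW ρ [[6] ++ we ++ [6, 6, 6], wr, wd, wz])
    (mp_le (by decide +kernel)) (by rw [FW_cons]; exact inf_le_left)
  have h2 : df ρ [wr, we, wd, wz] ≤ df ρ [[6] ++ we ++ [6, 6, 6], wr, wd, wz] := df_le [6] (by decide +kernel)
  have h3 : FW ρ [wr, we, wd, wz] ⊓ FW ρ [[6] ++ we ++ [6, 6, 6], wr, wd, wz] ≤ FW ρ [[6], wr, we, wd, wz] := by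
    rintro v ⟨hv, hv'⟩
    rw [FW_cons]
    refine ⟨hv, mem_fx.2 ?_⟩
    have a1 : R ρ we v = v := hv we (by simp)
    have a2 : R ρ ([6] ++ we ++ [6, 6, 6]) v = v := hv' _ List.mem_cons_self
    rw [R_eq (b := we ++ (we ++ (([6] ++ we ++ [6, 6, 6]) ++ (([6] ++ we ++ [6, 6, 6]) ++ (we ++ we))))) (by decide +kernel),
      R_app, R_app, R_app, R_app _ (we ++ we), R_app we we, a1, a1, a2, a2, a1, a1]
  have h4 := Submodule.finrank_mono h3
  unfold df at h2 ⊢
  omega

/-- the final count -/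
theorem fin : df ρ [wk, wr, we, wd, wz] + df ρ [[6], wr, we, wd, wz] ≤ df ρ [wr, we, wd, wz] := by
  have h1 := inf_dim (W := FW ρ [wr, we, wd, wz]) (U := FW ρ [wk, wr, we, wd, wz]) (U' := FW ρ [[6], wr, we, wd, wz])
    (by rw [FW_cons]; exact inf_le_left) (by rw [FW_cons [6]]; exact inf_le_left)
  have h2 : FW ρ [wk, wr, we, wd, wz] ⊓ FW ρ [[6], wr, we, wd, wz] = ⊥ := by
    rw [eq_bot_iff]
    rintro v ⟨hv, hv'⟩
    refine h.nf v (fix_all ?_)
    rw [FW_cons]
    exact ⟨hv, mem_fx.2 (hv' _ List.mem_cons_self)⟩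
  rw [h2, finrank_bot] at h1
  exact h1

/-- **two cases remain** -/
theorem two : (df ρ [[0]] = 80 ∧ df ρ [wd] = 92 ∧ df ρ [wr, wd, wz] = 22 ∧ 8 ≤ df ρ [wr, we, wd, wz] ∧
      3 * df ρ [wr, we, wd, wz] ≤ 16 + 2 * df ρ [wk, wr, we, wd, wz]) ∨
    (df ρ [[0]] = 92 ∧ df ρ [wd] = 80 ∧ df ρ [wr, wd, wz] = 6 ∧ df ρ [wr, we, wd, wz] = 4) :=
  arith2 h.cases h.dA h.dB h.fin

theorem trip {a d : ℕ} (ha : df ρ [[0]] = a) (hd : df ρ [wd] = d) : Trip (fun i : Fin 3 => π (W [i])) a d := by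
  have e : ∀ (g b c : List ℕ), cw (g ++ c) = cw (b ++ g) → cf (π (W b)) = df ρ [c] := fun g b c e => by
    rw [← h.df1, h.cj g e]
  refine ⟨fun i => ?_, fun i j => ?_, fun i => ?_, fun i j hij => ?_, fun i j hij => ?_⟩
  · rw [← map_pow, W_cube (by revert i; decide +kernel), map_one]
  · rw [Commute, SemiconjBy, ← map_mul, ← map_mul, W_comm (by revert i j; decide +kernel)]
  · rw [← ha]
    exact e (![[], [4], [5, 4]] i) _ _ (by revert i; decide +kernel)
  · rw [← hd, ← map_mul, ← W_append]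
    exact e (![![[], [3, 5, 4], [3, 4]], ![[], [], [3, 4, 3]], ![[], [], []]] i j) _ _ (by revert i j; decide +kernel)
  · rw [← hd, ← map_inv, ← map_mul, W_inv (b := [j, j]) (by clear hij; revert j; decide +kernel), ← W_append]
    exact e (![![[], [4], [5, 4]], ![[], [], [4, 5, 4]], ![[], [], []]] i j) _ _ (by revert i j; decide +kernel)

end Rep

end Cfsg.Agent.E82.U4
end

-- part: E82/U4/Nine
section
prune_inst 0x2024040862000000000584330000408a00000000400000884008000181844000000000b4301012008e9404703c006811040010424000000e00300001180080000712069058ac00300000808080000000000000000000000000000000010004000000000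
set_option linter.all false
open scoped Cfsg.Agent.FastGrp

/-!
# S3369, row `U₄(2)`: the case `(92, 80)` (helper39)
-/

set_option autoImplicit false
set_option linter.unusedSectionVars false
set_option maxRecDepth 100000

namespace Cfsg.Agent.E82.U4

open Module Cfsg Cfsg.Lie
open Cfsg.Agent.H180.U42 (GG one)
open Cfsg.Agent.H129.TorusChar (cX_one)
open Cfsg.Agent.H939.L64 (KK E2 LK em aK rE)
open Cfsg.Agent.H413.L16
open Cfsg.Agent.H876.L64 (two_zero aK_mul)
open Cfsg.Agent.H942.L16 (BF BF_aK BF_symm BF_hr_hr ipr)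
open Cfsg.Agent.E82.Fr

variable {ζ : KK}

theorem tv_one : Tv 1 (0 : Fin 8 → ZMod 3) ζ :=
  ⟨one_mem _, fun j => by rw [cX_one, Pi.zero_apply, ZMod.val_zero, pow_zero]⟩

theorem tv_word (hζ : IsPrimitiveRoot ζ 3) {φ : GG →* GK} {V : Fin 3 → Fin 8 → ZMod 3} (ht : ∀ i : Fin 3, Tv (φ (W [i])) (V i) ζ)
    (l : List (Fin 3)) : Tv (φ (W (l.map Fin.val))) (l.map V).sum ζ := by
  induction l with
  | nil => rw [List.map_nil, W_nil, map_one]; exact tv_one
  | cons i l ih =>
    rw [List.map_cons, List.map_cons, List.sum_cons, ← List.singleton_append, W_append, map_mul]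
    exact (ht i).mul hζ ih

theorem tv_cj (hζ : IsPrimitiveRoot ζ 3) {φ : GG →* GK} {V : Fin 3 → Fin 8 → ZMod 3} (ht : ∀ i : Fin 3, Tv (φ (W [i])) (V i) ζ)
    {s : List ℕ} (m : Fin 3 → List (Fin 3)) (h : ∀ i : Fin 3, cw (s ++ [(i : ℕ)]) = cw ((m i).map Fin.val ++ s)) (i : Fin 3) :
    Tv (φ (W s) * φ (W [i]) * (φ (W s))⁻¹) ((m i).map V).sum ζ := by
  rw [← map_inv, ← map_mul, ← map_mul, W_conj (h i)]
  exact tv_word hζ ht _

/-- conjugation by the transpositions -/
def mS : Fin 3 → Fin 3 → List (Fin 3) := ![![[0], [2, 2], [1, 1]], ![[1], [0], [2]], ![[0], [2], [1]]]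

theorem mS_spec : ∀ s i : Fin 3, cw ([(s : ℕ) + 3] ++ [(i : ℕ)]) = cw ((mS s i).map Fin.val ++ [(s : ℕ) + 3]) := by decide +kernel

theorem zeta_eq (hζ : IsPrimitiveRoot ζ 3) : ζ ^ 2 + ζ + 1 = 0 := by
  have h := hζ.geom_sum_eq_zero (by norm_num)
  simp only [Finset.sum_range_succ, Finset.range_zero, Finset.sum_empty] at h
  linear_combination h

theorem Rep.quat {π : GG →* E2} {ρ : GG →* End KK LK} (h : Rep π ρ) : Quat BF (FW ρ [wr, wd, wz]) (R ρ we) (R ρ [6])
    (R ρ (we ++ [6] ++ we ++ we)) (R ρ (we ++ we ++ [6] ++ we)) (R ρ [3]) :=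
  ⟨tet_of (by decide +kernel) BF_symm h.inv h.ndQ, R_eq2 (by decide +kernel), R_eq2 (by decide +kernel),
    R_eq2 (by decide +kernel), R_eq2 (by decide +kernel), R_eq2 (by decide +kernel), R_eq2 (by decide +kernel),
    fun v => by rw [R_eq2 (c := []) (by decide +kernel), R_nil]⟩

/-- the words of the transpositions in the second frame -/
def lD : Fin 3 → List ℕ := ![[134, 151, 128, 123], [155, 236, 150, 133], [231, 234, 127, 124]]

theorem lD_spec : ∀ s, okL (lD s) = true ∧ (∀ i, wl (lD s) ((mS s i).map fun j => vc (cD j)).sum = vc (cD i)) ∧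
    (lD s).foldr rf 135 = 239 - 141 ∧ (lD s).foldr rf 141 = 239 - 135 := by (delta Cfsg.Agent.E82.Fr.okL Cfsg.Agent.H413.L16.okN Cfsg.Agent.H413.L16.rf; rewrite [Cfsg.Agent.ChevFast.Tg.tg]; decide +kernel)

/-- **the case `(92, 80)`** -/
theorem nine {π : GG →* E2} (hinj : Function.Injective π) (h0 : ¬ Fixd π) (hT : Trip (fun i : Fin 3 => π (W [i])) 92 80) :
    False := by
  obtain ⟨ζ, z, hζ, h1, -⟩ := frame2 hT
  have h := rep_rz hinj h0 z
  have ht : ∀ i : Fin 3, Tv (fz π z (W [i])) (vc (cD i)) ζ := fun i => One.tv (h1 i)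
  have hs : ∀ s : Fin 3, R (rz π z) [(s : ℕ) + 3] (hr 135) = hr 141 ∧ R (rz π z) [(s : ℕ) + 3] (hr 141) = hr 135 := fun s => by
    obtain ⟨a1, a2, a3, a4⟩ := lD_spec s
    obtain ⟨m, hm, t, ht', e⟩ := norm_gen hζ ht (fun i => by fin_cases i; exacts [sm972, sm4726]) L_cD
      (tv_cj hζ ht (mS s) (mS_spec s)) a1 a2
    have b1 : InL [135, 104, 141, 98] 135 := by decide +kernel
    have b2 : InL [135, 104, 141, 98] 141 := by decide +kernel
    rw [R_rz, R_rz, e, aK_mul, aK_mul, aK_mul, aK_mul, aK_t_hr ht', aK_t_hr ht', b1.hr hm, b2.hr hm, gw_hr a1 (by norm_num),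
      gw_hr a1 (by norm_num), a3, a4, hr_neg (by norm_num), hr_neg (by norm_num)]
    exact ⟨rfl, rfl⟩
  have hE : ∀ (l : List (Fin 3)) (a : ℕ), R (rz π z) (l.map Fin.val) (hr a) = hr a := fun l a => aK_t_hr (tv_word hζ ht l).1 a
  have d1 : BF (hr 162) (hr 135) = 1 := (BF_hr_hr _ _).trans (cast_odd (by (delta Cfsg.Agent.ChevalleyStructure.Columns.car Cfsg.Agent.ChevalleyStructure.Columns.cor Cfsg.Agent.H597.E8Form.AZ Cfsg.Agent.H942.L16.ipr; rewrite [Cfsg.Agent.ChevFast.E8.coroot]; (try set_option simprocs false in simp -zeta only [Cfsg.Agent.ChevFast.E8.cartanR]); decide +kernel)))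
  have d2 : BF (hr 162) (hr 141) = 0 := (BF_hr_hr _ _).trans (cast_even (by (delta Cfsg.Agent.ChevalleyStructure.Columns.car Cfsg.Agent.ChevalleyStructure.Columns.cor Cfsg.Agent.H597.E8Form.AZ Cfsg.Agent.H942.L16.ipr; rewrite [Cfsg.Agent.ChevFast.E8.coroot]; (try set_option simprocs false in simp -zeta only [Cfsg.Agent.ChevFast.E8.cartanR]); decide +kernel)))
  have d3 : BF (hr 164) (hr 135) = 0 := (BF_hr_hr _ _).trans (cast_even (by (delta Cfsg.Agent.ChevalleyStructure.Columns.car Cfsg.Agent.ChevalleyStructure.Columns.cor Cfsg.Agent.H597.E8Form.AZ Cfsg.Agent.H942.L16.ipr; rewrite [Cfsg.Agent.ChevFast.E8.coroot]; (try set_option simprocs false in simp -zeta only [Cfsg.Agent.ChevFast.E8.cartanR]); decide +kernel)))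
  have d4 : BF (hr 164) (hr 141) = 1 := (BF_hr_hr _ _).trans (cast_odd (by (delta Cfsg.Agent.ChevalleyStructure.Columns.car Cfsg.Agent.ChevalleyStructure.Columns.cor Cfsg.Agent.H597.E8Form.AZ Cfsg.Agent.H942.L16.ipr; rewrite [Cfsg.Agent.ChevFast.E8.coroot]; (try set_option simprocs false in simp -zeta only [Cfsg.Agent.ChevFast.E8.cartanR]); decide +kernel)))
  have s3 : R (rz π z) [3] (hr 135) = hr 141 ∧ R (rz π z) [3] (hr 141) = hr 135 := hs 0
  have s4 : R (rz π z) [4] (hr 135) = hr 141 ∧ R (rz π z) [4] (hr 141) = hr 135 := hs 1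
  have s5 : R (rz π z) [5] (hr 135) = hr 141 ∧ R (rz π z) [5] (hr 141) = hr 135 := hs 2
  have hC : df (rz π z) [[0]] = 92 := (h.df1 _).trans (hT.one 0)
  obtain ⟨hQ, hR⟩ : df (rz π z) [wr, wd, wz] = 6 ∧ df (rz π z) [wr, we, wd, wz] = 4 := by
    rcases h.two with k | k
    · exact absurd (hC.symm.trans k.1) (by norm_num)
    · exact k.2.2
  have hF : ∀ a, R (rz π z) wr (hr a) = hr a → R (rz π z) wk (hr a) = hr a → hr a ∈ FW (rz π z) [wk, wr, we, wd, wz] :=
    fun a a1 a2 => by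
      simp only [mem_FW, List.forall_mem_cons]
      exact ⟨a2, a1, hE [1, 1, 2] a, hE [0, 0, 1] a, hE [0, 1, 2, 2] a, fun _ k => absurd k List.not_mem_nil⟩
  have hp := hF 135 ((R_app [3] [4] _).trans (by rw [s4.1, s3.2])) ((R_app [3] [5] _).trans (by rw [s5.1, s3.2]))
  have hq := hF 141 ((R_app [3] [4] _).trans (by rw [s4.2, s3.1])) ((R_app [3] [5] _).trans (by rw [s5.2, s3.1]))
  generalize rz π z = ρ at h s3 hQ hR hp hq
  generalize hr 135 = p at s3 d1 d3 hp
  generalize hr 141 = q at s3 d2 d4 hq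
  have hle : FW ρ [wk, wr, we, wd, wz] ≤ FW ρ [wr, wd, wz] ⊓ fx (R ρ we) := by
    rw [← FW_cons]
    exact fun v hv w hw => hv w (by revert w; decide)
  have key : ∀ v ∈ FW ρ [wk, wr, we, wd, wz], R ρ [6] v = v → v = 0 := fun v hv hi => h.nf v (fix_all (by
    rw [FW_cons]; exact ⟨hv, mem_fx.2 hi⟩))
  have hd : df ρ [wr, we, wd, wz] ≤ df ρ [we, wr, wd, wz] := df_le [] (by decide +kernel)
  rcases h.quat.q8 two_zero (zeta_eq hζ) (by
    rw [← FW_cons]
    show df ρ _ ≤ df ρ _ + 2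
    omega) (hle hp) (hle hq) (by rw [map_add, s3.1, s3.2, add_comm]) with k | ⟨c, k⟩
  · have k1 := congrArg (BF (hr 162)) (key _ (Submodule.add_mem _ hp hq) k)
    rw [map_add, d1, d2, map_zero, add_zero] at k1
    exact one_ne_zero k1
  · have k0 := key _ (Submodule.sub_mem _ hp (Submodule.smul_mem _ c (Submodule.add_mem _ hp hq))) k
    have k1 := congrArg (BF (hr 162)) k0
    have k2 := congrArg (BF (hr 164)) k0
    rw [map_sub, map_smul, map_add, map_zero, smul_eq_mul] at k1 k2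
    rw [d1, d2] at k1
    rw [d3, d4] at k2
    exact one_ne_zero (α := KK) (by linear_combination k1 - k2)

end Cfsg.Agent.E82.U4
end
end
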